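import Cfsg.Agent.Omega.NO3S.WY.Exact
import Cfsg.Agent.Omega.Node.MulX

/-!
# (TOR'): the literal (output of (ii) of NoW, `q = 2`; input of THEOREM TOR)

`MulL S P B ZJ L W Z C A 2` (`Node/MulX.lean`; the `V_i` of the texts are the `W i`, `⟨z_i⟩ = Z i`), `Y` a weird
minimal parabolic over `B` which centralises all `Z l`, `l ≠ j` (`WJ`).

* `FamT S P Y V 𝓕` : a `GX`-closed family of 2-groups; all members in `S` lie in `O₂(P)`, one of them is not in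
  `O₂(Y)`; **(*)**: its members are hereditary and quadratic best offenders on the subgroups of
  `V ∩ O₂(C_G(D))`, `1 ≠ D ≤ V_P^g`;
* `famT_of_pasM`, `famT_of_pasW` : both passive cases of the cut give such a family;
* `TorP` : **(TOR')**: `Ω₁(Z(B))^Y / C` is ONE natural `SL₂(4)`-module for `Y`, `V_j` is the line fixed by `B`,
  `O₂(P)` acts as (a subgroup of) the root group.
-/

set_option autoImplicit false
set_option linter.unusedSectionVars false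
set_option linter.dupNamespace false

namespace Cfsg.Agent.Omega.NO3S.WY

open Subgroup Cfsg Cfsg.Agent.ZN Cfsg.Agent.ZN.ChoiceBase Cfsg.Agent.Omega.MinPar Cfsg.Agent.Omega.Frame
open Cfsg.Agent.ZN.ChoiceSit (Syl)
open Cfsg.Agent.MinSimple.MinParabolic (IsMinPar)
open Cfsg.Agent.Omega.NO3S.Level
open Cfsg.Agent.Omega.NO3S.RedC
open Cfsg.Agent.Omega.FFThm (OffM ElemM NatKM ActsSL)
open Cfsg.Agent.Lib.SL2Mat (up)
open Cfsg.Agent.Omega.NO1.BestOff (Best)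
open Cfsg.Agent.Omega.FrameFF (cv)
open Cfsg.Agent.Omega.Node.MulX (MulL)
open scoped Pointwise

universe u

variable {G : Type u} [Group G] [Finite G]

/-- A weird `Y` over `B` in position `j`. -/
structure WJ (S : Sylow 2 G) (P B : Subgroup G) {k : ℕ} (Z : Fin k → Subgroup G) (j : Fin k) (Y : Subgroup G) :
    Prop extends WY S P B Y where
  cen : ∀ l, l ≠ j → Y ≤ centralizer (Z l : Set G)

/-- quadratic action of `A` on `U` -/
def Qd (U A : Subgroup G) : Prop :=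
  ∀ a ∈ A, ∀ b ∈ A, ∀ u ∈ U, (a * u * a⁻¹ * u⁻¹) * b = b * (a * u * a⁻¹ * u⁻¹)

/-- **The passive family** at the weird `Y`, module `V`. -/
structure FamT (S : Sylow 2 G) (P Y V : Subgroup G) (𝓕 : Set (Subgroup G)) : Prop where
  md : Md S P Y V
  cj : ∀ A ∈ 𝓕, ∀ g ∈ GX (S : Subgroup G) P Y, cj g A ∈ 𝓕
  le : ∀ A ∈ 𝓕, A ≤ GX (S : Subgroup G) P Y
  pas : ∀ A ∈ 𝓕, A ≤ (S : Subgroup G) → A ≤ o2 P
  act : ∃ A ∈ 𝓕, A ≤ o2 P ∧ ¬ A ≤ o2 Y
  /-- **(*)** -/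
  her : ∀ A ∈ 𝓕, A ≤ (S : Subgroup G) → ∀ g ∈ GX (S : Subgroup G) P Y, ∀ D U : Subgroup G, D ≠ ⊥ →
    D ≤ ChoiceBase.cj g (zl (S : Subgroup G) P) → U ≤ V → U ≤ o2 (centralizer (D : Set G)) →
      Best U (ChoiceBase.cj g A) ∧ Qd U (ChoiceBase.cj g A)

theorem qd_mono {U U' A : Subgroup G} (h : Qd U A) (hU : U' ≤ U) : Qd U' A := fun a ha b hb u hu => h a ha b hb u (hU hu)

/-- the case (W), passive -/
theorem famT_of_pasW {S : Sylow 2 G} {P T Y V F : Subgroup G} (h : WQ S P T Y) (hV : Md S P Y V)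
    (hp : PasW S P Y V F) :
    FamT S P Y V {A | ∃ F₁, NOne.Flat.Hyp V F₁ ∧ NOne.Flat.WW V F₁ = A} where
  md := hV
  cj := by
    rintro _ ⟨F₁, hF, rfl⟩ g hg
    exact ⟨MulAut.conj g • F₁, hF.conj (hV.norm hg), WW_cj (hV.norm hg)⟩
  le := by
    rintro _ ⟨F₁, hF, rfl⟩
    exact h.W_le_GX hV hF
  pas := by
    rintro _ ⟨F₁, hF, rfl⟩ hS
    exact hp.pas F₁ hF hS
  act := ⟨_, ⟨F, hp.hyp, rfl⟩, hp.WQ, hp.mv⟩
  her := by
    rintro _ ⟨F₁, hF, rfl⟩ hS g hg D U hD hDg hU hUO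
    have hgV : g ∈ normalizer (V : Set G) := hV.norm hg
    have hF' := hF.conj hgV
    have hL : zl (S : Subgroup G) P ≤ F₁ := h.L_le_F hV hF (hp.pas F₁ hF hS)
    have hDF : D ≤ MulAut.conj g • F₁ := by
      intro d hd
      obtain ⟨x, hx, rfl⟩ := hDg hd
      exact ⟨x, hL hx, rfl⟩
    have hE : U ≤ NOne.Flat.EE V (MulAut.conj g • F₁) := BetaFF.le_EE_of_low hF' hU hDF hUO
    rw [← WW_cj hgV]
    refine ⟨bestW hF' hE, fun a ha b hb u hu => ?_⟩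
    have h1 := hF'.comm_EW (hE hu) ha
    have h2 : a * u * a⁻¹ * u⁻¹ = (NOne.NearFF.c u a)⁻¹ := by rw [NOne.NearFF.c_def]; group
    rw [h2]
    exact NOne.Flat.Hyp.F_comm (inv_mem h1) (NOne.Flat.Hyp.W_le_X hb)

/-- the case (V), passive -/
theorem famT_of_pasM {S : Sylow 2 G} {P T Y V : Subgroup G} (h : WQ S P T Y) (hV : Md S P Y V)
    (hp : PasM S P Y V) :
    FamT S P Y V {A | MaxMin V (GX (S : Subgroup G) P Y) A} where
  md := hV
  cj := fun A hA g hg => MaxMin.cj hA hg hV.norm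
  le := fun A hA => hA.le
  pas := fun A hA hS => hp.pas A hA hS
  act := by
    obtain ⟨A, hA, h1, h2⟩ := hp.act
    exact ⟨A, hA, h1, h2⟩
  her := by
    intro A hA hS g hg D U hD hDg hU hUO
    have hVc : V ≤ centralizer (V : Set G) := h.Vc hV
    have hgV : g ∈ normalizer (V : Set G) := hV.norm hg
    have hA' : MaxMin V (GX (S : Subgroup G) P Y) (ChoiceBase.cj g A) := MaxMin.cj hA hg hV.norm
    refine ⟨best_mono hA'.best hU hVc, ?_⟩
    rintro _ ⟨a, ha, rfl⟩ _ ⟨b, hb, rfl⟩ u hu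
    have hVS : V ≤ (S : Subgroup G) := hV.le.trans h.V_le_S
    have hu' : g⁻¹ * u * g ∈ V := by
      have := (mem_normalizer_iff.1 (inv_mem hgV) u).1 (hU hu)
      simpa using this
    have h1 := hA.quad hVc S.isPGroup' hVS hS hV.norm hu' ha
    have h2 := mem_centralizer_iff.1 h1 b hb
    have e1 : g * a * g⁻¹ * u * (g * a * g⁻¹)⁻¹ * u⁻¹ = g * (a * (g⁻¹ * u * g) * a⁻¹ * (g⁻¹ * u * g)⁻¹) * g⁻¹ := by
      group
    simp only [MulEquiv.coe_toMonoidHom, MulAut.conj_apply]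
    rw [e1]
    calc g * (a * (g⁻¹ * u * g) * a⁻¹ * (g⁻¹ * u * g)⁻¹) * g⁻¹ * (g * b * g⁻¹)
        = g * ((a * (g⁻¹ * u * g) * a⁻¹ * (g⁻¹ * u * g)⁻¹) * b) * g⁻¹ := by group
      _ = g * (b * (a * (g⁻¹ * u * g) * a⁻¹ * (g⁻¹ * u * g)⁻¹)) * g⁻¹ := by rw [h2]
      _ = g * b * g⁻¹ * (g * (a * (g⁻¹ * u * g) * a⁻¹ * (g⁻¹ * u * g)⁻¹) * g⁻¹) := by group

/-- **(TOR')** -/
structure TorP (S : Sylow 2 G) (P B ZJ : Subgroup G) {k : ℕ} (L W Z C A : Fin k → Subgroup G) (j : Fin k)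
    (Y : Subgroup G) : Prop where
  mul : MulL S P B ZJ L W Z C A 2
  wj : WJ S P B Z j Y
  fam : ∃ (V : Subgroup G) (𝓕 : Set (Subgroup G)), FamT S P Y V 𝓕
  /-- one natural `SL₂(4)`-block; `V_j` = the line fixed by `B`; `O₂(P)` acts inside the root group -/
  nat : ∃ (F : Type) (_ : Field F) (_ : Finite F) (_ : CharP F 2) (N : NatKM F B Y (zl B Y) (cv B Y) 1),
    Nat.card F = 4 ∧ (∀ v ∈ zl B Y, N.e v 0 1 = 0 ↔ v ∈ W j ⊔ cv B Y) ∧
      ∀ q ∈ o2 P, ∃ b : F, ActsSL N.e (zl B Y) (cv B Y) q fun _ => up b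

end Cfsg.Agent.Omega.NO3S.WY
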