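import Cfsg.Agent.Omega.NO3S.RedC.MaxMin

/-!
# (TOR) for one `S_5` block (helper150 #25227 (d), (e); proof by helper520)

`U` elementary abelian, `Q` a 2-group acting on `U`, `L = C_U(Q)`; `K`, `H` act on `U`, `H` normalises `Q`.
`W ≤ U` is `K`-invariant, `W / F` natural for `SL_2(4)`, `Q` induces a root group `T` on `W`, `|T| = 4`.

* `Rt Q U L W` : `Q` acts on `W` as a full root group;
* `Rt.act` : a `MaxMin U Q E` which moves `W` : `E C_Q(W) = Q`, `U = W C_U(E)`, `[U, E] ≤ W`, `|U : C_U(E)| = 4`;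
* `Sit` : the situation; `Sit.exists_mv` : some `MaxMin` moves `W`;
* `Sit.false`.
-/

set_option autoImplicit false
set_option linter.unusedSectionVars false

namespace Cfsg.Agent.Omega.NO3S.WY.Tor.SFive

open Subgroup Cfsg Cfsg.Agent.ZN Cfsg.Agent.ZN.ChoiceBase Cfsg.Agent.ZN.ChoiceSit
open Cfsg.Agent.Omega.FFThm (OffM ElemM NoOverM)
open Cfsg.Agent.Omega.NO3S.RedC (MaxMin exists_maxMin)
open Cfsg.Agent.Omega.NO3b.EZero (cent_symm cj_cent relIndex_cj)
open Cfsg.Agent.Omega.NO3b.K0 (conj_mem' cj_of_le cj_self)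
open Cfsg.Agent.Omega.NO3S.NotFF (le_normalizer_of_forall)
open Cfsg.Agent.Omega.SQ1.Bau (mem_sup_comm card_sup_comm mem_sup_norm)
open Cfsg.Agent.Omega.NO3S.Fld (relIndex_mul_card)
open Cfsg.Agent.Omega.NOThreeL.VF (fM fM_cj elemM_cj)

open scoped commutatorElement

universe u

variable {G : Type u} [Group G] [Finite G] {Q U L K H W F R E X : Subgroup G} {g h gs : G}

/-- `Q` acts on `W ≤ U` as a full root group of order 4: `|Q : C_Q(W)| = 4 = |W : W ∩ L|`, `C_W(x) ≤ L` for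
`x ∈ Q ∖ C(W)`. -/
structure Rt (Q U L W : Subgroup G) : Prop where
  WU : W ≤ U
  QW : Q ≤ normalizer (W : Set G)
  idx : (centralizer (W : Set G)).relIndex Q = 4
  cW : ∀ x ∈ Q, x ∉ centralizer (W : Set G) → W ⊓ centralizer ({x} : Set G) ≤ L
  ix : L.relIndex W = 4

/-- a conjugate of a maximal offender of least rank -/
theorem maxMin_cj {M : Subgroup G} {x : G} (hx : x ∈ normalizer (U : Set G)) (m : MaxMin U M E) (hle : cj x E ≤ M) :
    MaxMin U M (cj x E) where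
  le := hle
  pg := isPGroup_cj x m.pg
  elem := elemM_cj hx m.elem
  ne := fun h => m.ne (by
    have h2 := cj_mono x⁻¹ h
    rw [cj_inv_cj, cj_centralizer, cj_eq_of_mem_normalizer (inv_mem hx)] at h2
    exact h2)
  max := fun D hD hD2 hE => by
    rw [(fM_cj (A := E) hx).1]
    exact m.max D hD hD2 hE
  min := fun D hD hD2 hE hne hf => by
    rw [(fM_cj (A := E) hx).2]
    rw [(fM_cj (A := E) hx).1] at hf
    exact m.min D hD hD2 hE hne hf

/-- conjugates of `Rt` -/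
theorem Rt.conj (r : Rt Q U L W) {x : G} (hQ : x ∈ normalizer (Q : Set G)) (hU : x ∈ normalizer (U : Set G))
    (hL : x ∈ normalizer (L : Set G)) : Rt Q U L (cj x W) where
  WU := by
    have h1 := cj_mono x r.WU
    rwa [cj_eq_of_mem_normalizer hU] at h1
  QW := by
    have h1 := cj_mono x r.QW
    rwa [cj_eq_of_mem_normalizer hQ, cj_normalizer] at h1
  idx := by
    have h1 := relIndex_cj x (centralizer (W : Set G)) Q
    rw [cj_centralizer, cj_eq_of_mem_normalizer hQ, r.idx] at h1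
    exact h1
  cW := fun y hy hyW w hw => by
    have h1 : x⁻¹ * y * x ∈ Q := by
      have := conj_mem' le_rfl (inv_mem hQ) hy
      rwa [inv_inv] at this
    have h4 : x⁻¹ * y * x ∉ centralizer (W : Set G) := fun h => hyW (by
      rw [← cj_centralizer]
      exact mem_cj.2 h)
    have h3 : x⁻¹ * w * x ∈ centralizer ({x⁻¹ * y * x} : Set G) := by
      rw [mem_centralizer_singleton_iff]
      have h5 := mem_centralizer_singleton_iff.1 hw.2
      have e1 : x⁻¹ * w * x * (x⁻¹ * y * x) = x⁻¹ * (w * y) * x := by group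
      rw [e1, h5]
      group
    have h6 := r.cW _ h1 h4 ⟨mem_cj.1 hw.1, h3⟩
    rw [← cj_eq_of_mem_normalizer hL]
    exact mem_cj.2 h6
  ix := by
    have h1 := relIndex_cj x L W
    rw [cj_eq_of_mem_normalizer hL, r.ix] at h1
    exact h1

theorem cj_sup (x : G) (A B : Subgroup G) : cj x (A ⊔ B) = cj x A ⊔ cj x B := Subgroup.map_sup _ _ _

/-- conjugation on a centraliser -/
theorem conj_cent {x d : G} (hx : x ∈ normalizer (W : Set G)) (hd : d ∈ centralizer (W : Set G)) :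
    x * d * x⁻¹ ∈ centralizer (W : Set G) := by
  have h1 : cj x (centralizer (W : Set G)) = centralizer (W : Set G) := by
    rw [cj_centralizer, cj_eq_of_mem_normalizer hx]
  rw [← h1, mem_cj]
  have e : x⁻¹ * (x * d * x⁻¹) * x = d := by group
  rwa [e]

theorem norm_inf_cent (hQW : Q ≤ normalizer (W : Set G)) :
    Q ≤ normalizer ((Q ⊓ centralizer (W : Set G) : Subgroup G) : Set G) :=
  le_normalizer_of_forall fun _ he _ hd =>
    mem_inf.2 ⟨mul_mem (mul_mem he (mem_inf.1 hd).1) (inv_mem he), conj_cent (hQW he) (mem_inf.1 hd).2⟩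

theorem card_sup_norm {A B : Subgroup G} (hle : A ≤ normalizer (B : Set G)) :
    Nat.card (A ⊔ B : Subgroup G) * Nat.card (A ⊓ B : Subgroup G) = Nat.card A * Nat.card B := by
  rw [← Cfsg.Agent.Lib.ProductSet.card_mul_card_inf A B, ← Subgroup.coe_mul_of_left_le_normalizer_right A B hle]
  rfl

/-- what a maximal offender of least rank does -/
structure Act (Q U L W E : Subgroup G) : Prop where
  iE : (centralizer (E : Set G)).relIndex U = 4
  sup : U ≤ W ⊔ (U ⊓ centralizer (E : Set G))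
  com : ∀ e ∈ E, ∀ u ∈ U, e * u * e⁻¹ * u⁻¹ ∈ W
  cE : W ⊓ centralizer (E : Set G) = W ⊓ L
  QE : Q ≤ E ⊔ (Q ⊓ centralizer (W : Set G))

theorem Rt.act (r : Rt Q U L W) (hUc : U ≤ centralizer (U : Set G)) (hQU : Q ≤ normalizer (U : Set G))
    (hLQ : L ≤ centralizer (Q : Set G)) (m : MaxMin U Q E) (hne : ¬ E ≤ centralizer (W : Set G)) :
    Act Q U L W E := by
  have hUm : ∀ x ∈ U, ∀ y ∈ U, x * y = y * x := fun x hx y hy => mem_centralizer_iff.1 (hUc hy) x hx
  have hcE : W ⊓ centralizer (E : Set G) = W ⊓ L := by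
    obtain ⟨x, hx, hxW⟩ := SetLike.not_le_iff_exists.1 hne
    refine le_antisymm (le_inf inf_le_left fun w hw => r.cW x (m.le hx) hxW ⟨hw.1, ?_⟩)
      (le_inf inf_le_left (inf_le_right.trans (hLQ.trans (centralizer_le m.le))))
    exact mem_centralizer_singleton_iff.2 (mem_centralizer_iff.1 hw.2 x hx).symm
  have iW : (centralizer (E : Set G)).relIndex W = 4 := by
    rw [← inf_relIndex_right, inf_comm, hcE, inf_comm, inf_relIndex_right, r.ix]
  have iE' : (centralizer (W : Set G)).relIndex E ≤ 4 := by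
    rw [← r.idx]
    exact relIndex_le_of_le_right m.le (by rw [r.idx]; norm_num)
  have hno := FFThm.relIndex_le_iff.2 (iE'.trans iW.ge)
  obtain ⟨no, mo⟩ := m.minOff hQU r.WU hno hne
  have hcut := mo.cut r.WU hno hne
  have i0 : (centralizer (U : Set G)).relIndex E = (centralizer (E : Set G)).relIndex U :=
    le_antisymm (FFThm.relIndex_le_iff.1 (no E m.le m.elem)) (m.off hUc le_rfl)
  have e1 : (centralizer (W : Set G)).relIndex E = (centralizer (U : Set G)).relIndex E := by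
    rw [← inf_relIndex_right, ← inf_relIndex_right (centralizer (U : Set G))]
    congr 1
    refine le_antisymm (le_inf ?_ inf_le_right) (inf_le_inf_right _ (centralizer_le r.WU))
    rw [inf_comm]
    exact hcut
  have iWE : (centralizer (W : Set G)).relIndex E = 4 :=
    le_antisymm iE' (iW.ge.trans (m.off hUc r.WU))
  have iE : (centralizer (E : Set G)).relIndex U = 4 := by rw [← i0, ← e1, iWE]
  set C := U ⊓ centralizer (E : Set G) with hC
  have hcom' : ∀ x ∈ W, ∀ y ∈ C, x * y = y * x := fun x hx y hy => hUm x (r.WU hx) y hy.1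
  have hsup : U ≤ W ⊔ C := by
    have e2 : W ⊓ C = W ⊓ centralizer (E : Set G) := by
      rw [hC, ← inf_assoc, inf_eq_left.2 r.WU]
    have c1 := card_sup_comm hcom'
    rw [e2] at c1
    have c2 := relIndex_mul_card W (centralizer (E : Set G))
    have c3 := relIndex_mul_card U (centralizer (E : Set G))
    rw [iW] at c2
    rw [iE, ← hC] at c3
    refine (Subgroup.eq_of_le_of_card_ge (sup_le r.WU inf_le_left) ?_).ge
    have p1 : 0 < Nat.card ↥(W ⊓ centralizer (E : Set G)) := Nat.card_pos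
    refine Nat.le_of_mul_le_mul_right (c := Nat.card ↥(W ⊓ centralizer (E : Set G))) ?_ p1
    rw [c1, ← c2, ← c3]
    exact le_of_eq (by ring)
  refine ⟨iE, hsup, fun e he u hu => ?_, hcE, ?_⟩
  · obtain ⟨w, hw, c, hc, rfl⟩ := mem_sup_comm hcom' (hsup hu)
    have e3 : e * (w * c) * e⁻¹ * (w * c)⁻¹ = e * w * (c * e⁻¹ * c⁻¹) * w⁻¹ := by group
    have e4 : c * e⁻¹ * c⁻¹ = e⁻¹ := by
      have h2 := mem_centralizer_iff.1 hc.2 e⁻¹ (inv_mem he)
      rw [← h2]
      group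
    rw [e3, e4]
    exact mul_mem (conj_mem' r.QW (m.le he) hw) (inv_mem hw)
  · have c1 := card_sup_norm (m.le.trans (norm_inf_cent r.QW))
    have e5 : E ⊓ (Q ⊓ centralizer (W : Set G)) = E ⊓ centralizer (W : Set G) := by
      rw [← inf_assoc, inf_eq_left.2 m.le]
    rw [e5] at c1
    have c2 := relIndex_mul_card E (centralizer (W : Set G))
    have c3 := relIndex_mul_card Q (centralizer (W : Set G))
    rw [iWE] at c2
    rw [r.idx] at c3
    refine (Subgroup.eq_of_le_of_card_ge (sup_le m.le inf_le_left) ?_).ge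
    have p1 : 0 < Nat.card ↥(E ⊓ centralizer (W : Set G)) := Nat.card_pos
    refine Nat.le_of_mul_le_mul_right (c := Nat.card ↥(E ⊓ centralizer (W : Set G))) ?_ p1
    rw [c1, ← c2, ← c3]
    exact le_of_eq (by ring)

/-- The situation. `W` is the block for the triple `t`, `cj gs W` the block for the triple `s`; `R` = the kernel of
`K ⊔ Q` on `W / F`. -/
structure Sit (Q U L K H W F R : Subgroup G) (g h gs : G) : Prop where
  Uc : U ≤ centralizer (U : Set G)
  QU : Q ≤ normalizer (U : Set G)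
  KU : K ≤ normalizer (U : Set G)
  HU : H ≤ normalizer (U : Set G)
  HQ : H ≤ normalizer (Q : Set G)
  LU : U ⊓ centralizer (Q : Set G) = L
  gen : ∀ X : Subgroup G, K ≤ normalizer (X : Set G) → H ≤ normalizer (X : Set G) → X ≤ centralizer (L : Set G) →
    X ≤ centralizer (U : Set G)
  off : ∃ A ≤ Q, OffM U A
  rt : Rt Q U L W
  KW : K ≤ normalizer (W : Set G)
  KE : K ≤ normalizer ((Q ⊓ centralizer (W : Set G) : Subgroup G) : Set G)
  syl : Syl Q (K ⊔ Q)
  FW : F ≤ W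
  FL : F ≤ L
  KF : K ≤ normalizer (F : Set G)
  Fe : W ⊓ centralizer (Q : Set G) ⊓ centralizer (cj g Q : Set G) ≤ F
  iF : F.relIndex W = 16
  RK : R ≤ K ⊔ Q
  nR : K ⊔ Q ≤ normalizer (R : Set G)
  ER : Q ⊓ centralizer (W : Set G) ≤ R
  RW : ∀ r ∈ R, ∀ w ∈ W, r * w * r⁻¹ * w⁻¹ ∈ F
  gK : g ∈ K
  gn : K ≤ Q ⊔ cj g Q ⊔ R
  hK : h ∈ K
  hQ : h ∈ normalizer (Q : Set G)
  gsH : gs ∈ H
  nv : ¬ ⁅cj gs W, Q⁆ ≤ W
  /-- `x` induces on `(W ∩ L) / F` the same map as `h` -/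
  β : ∀ x ∈ K ⊔ Q, x ∈ normalizer (Q : Set G) → (∀ v ∈ W ⊓ L, x * v * x⁻¹ * (h * v * h⁻¹)⁻¹ ∈ F) →
    ¬ cj x ⁅cj gs W, Q⁆ ≤ ⁅cj gs W, Q⁆

namespace Sit

variable (s : Sit Q U L K H W F R g h gs)
include s

theorem Um {x y : G} (hx : x ∈ U) (hy : y ∈ U) : x * y = y * x := mem_centralizer_iff.1 (s.Uc hy) x hx

theorem L_le : L ≤ U := s.LU ▸ inf_le_left

theorem LQ : L ≤ centralizer (Q : Set G) := s.LU ▸ inf_le_right

theorem norm_L {x : G} (hU : x ∈ normalizer (U : Set G)) (hQ : x ∈ normalizer (Q : Set G)) :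
    x ∈ normalizer (L : Set G) := by
  rw [mem_normalizer_iff_cj, ← s.LU, cj_inf, cj_centralizer, cj_eq_of_mem_normalizer hU, cj_eq_of_mem_normalizer hQ]

theorem KQ_U : K ⊔ Q ≤ normalizer (U : Set G) := sup_le s.KU s.QU

/-- **(d)** some maximal offender of least rank moves `W` -/
theorem exists_mv : ∃ E, MaxMin U Q E ∧ ¬ E ≤ centralizer (W : Set G) := by
  by_contra hcon
  push Not at hcon
  obtain ⟨E₀, m₀⟩ := exists_maxMin s.QU s.off
  have key : ∀ A : Subgroup G, A ≤ normalizer (U : Set G) →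
      (∀ x ∈ A, ∀ E, MaxMin U Q E → cj x E ≤ Q) →
      A ≤ normalizer ((sSup {E | MaxMin U Q E} : Subgroup G) : Set G) := by
    intro A hA h1 x hx
    refine mem_normalizer_of_cj_le ?_
    rw [cj_le_iff]
    refine sSup_le fun E (hE : MaxMin U Q E) => ?_
    rw [← cj_le_iff]
    exact le_sSup (maxMin_cj (hA hx) hE (h1 x hx E hE))
  have h1 := s.gen (sSup {E | MaxMin U Q E}) ?_ ?_ ?_
  · exact m₀.ne ((le_sSup (show E₀ ∈ {E | MaxMin U Q E} from m₀)).trans h1)
  · refine key K s.KU fun x hx E m => ?_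
    have h2 := cj_mono x (le_inf m.le (hcon E m))
    rw [cj_eq_of_mem_normalizer (s.KE hx)] at h2
    exact h2.trans inf_le_left
  · refine key H s.HU fun x hx E m => ?_
    have h2 := cj_mono x m.le
    rwa [cj_eq_of_mem_normalizer (s.HQ hx)] at h2
  · exact sSup_le fun E (hE : MaxMin U Q E) => hE.le.trans (cent_symm s.LQ)

section mv

variable (a : Act Q U L W E) (hEQ : E ≤ Q)
include a hEQ

/-- `U = W C_U(⟨E, E ^ g⟩)` -/
theorem supX : U ≤ W ⊔ (U ⊓ (centralizer (E : Set G) ⊓ centralizer (cj g E : Set G))) := by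
  set C := U ⊓ (centralizer (E : Set G) ⊓ centralizer (cj g E : Set G)) with hC
  have hcom' : ∀ x ∈ W, ∀ y ∈ C, x * y = y * x := fun x hx y hy => s.Um (s.rt.WU hx) hy.1
  have i1 : (centralizer (cj g E : Set G)).relIndex U = 4 := by
    have h1 := relIndex_cj g (centralizer (E : Set G)) U
    rwa [cj_centralizer, cj_eq_of_mem_normalizer (s.KU s.gK), a.iE] at h1
  have i2 : (centralizer (E : Set G) ⊓ centralizer (cj g E : Set G)).relIndex U ≤ 16 := by
    refine relIndex_inf_le.trans ?_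
    rw [a.iE, i1]
  have hWC : W ⊓ C ≤ F := by
    rintro w ⟨hw, hw1, hw2, hw3⟩
    have h1 : w ∈ W ⊓ L := a.cE ▸ (⟨hw, hw2⟩ : w ∈ W ⊓ centralizer (E : Set G))
    have h2 : w ∈ cj g (W ⊓ L) := by
      rw [← a.cE, cj_inf, cj_centralizer, cj_eq_of_mem_normalizer (s.KW s.gK)]
      exact ⟨hw, hw3⟩
    have h3 := cj_mono g (inf_le_right.trans s.LQ : W ⊓ L ≤ centralizer (Q : Set G)) h2
    rw [cj_centralizer] at h3
    exact s.Fe ⟨⟨hw, s.LQ h1.2⟩, h3⟩
  have c1 := card_sup_comm hcom'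
  have c2 := relIndex_mul_card U (centralizer (E : Set G) ⊓ centralizer (cj g E : Set G))
  rw [← hC] at c2
  have c3 := relIndex_mul_card W F
  rw [s.iF, inf_eq_right.2 s.FW] at c3
  have c4 := Subgroup.card_le_of_le hWC
  refine (Subgroup.eq_of_le_of_card_ge (sup_le s.rt.WU inf_le_left) ?_).ge
  have p1 : 0 < Nat.card F := Nat.card_pos
  refine Nat.le_of_mul_le_mul_right (c := Nat.card F) ?_ p1
  calc Nat.card U * Nat.card F ≤ (16 * Nat.card C) * Nat.card F := by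
        refine Nat.mul_le_mul_right _ ?_
        rw [← c2]
        exact Nat.mul_le_mul_right _ i2
    _ = Nat.card W * Nat.card C := by rw [← c3]; ring
    _ = Nat.card ↥(W ⊔ C) * Nat.card ↥(W ⊓ C) := c1.symm
    _ ≤ _ := Nat.mul_le_mul_left _ c4

/-- the torus element inside `⟨E, E ^ g⟩` -/
theorem torus : ∃ x ∈ E ⊔ cj g E, x ∈ K ⊔ Q ∧ x ∈ normalizer (Q : Set G) ∧
    ∀ v ∈ W ⊓ L, x * v * x⁻¹ * (h * v * h⁻¹)⁻¹ ∈ F := by
  set X := E ⊔ cj g E with hX
  set D := Q ⊓ centralizer (W : Set G) with hD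
  have hgKQ : g ∈ K ⊔ Q := mem_sup_left s.gK
  have XK : X ≤ K ⊔ Q := by
    refine sup_le (hEQ.trans le_sup_right) ?_
    have h1 := cj_mono g (hEQ.trans le_sup_right : E ≤ K ⊔ Q)
    rwa [cj_eq_of_mem_normalizer (le_normalizer hgKQ)] at h1
  have hDn : K ⊔ Q ≤ normalizer (D : Set G) := sup_le s.KE (norm_inf_cent s.rt.QW)
  have hDR : D ≤ R := s.ER
  have QX : Q ≤ X ⊔ D := a.QE.trans (sup_le_sup_right le_sup_left _)
  have gn' : K ≤ X ⊔ R := by
    refine s.gn.trans (sup_le (sup_le (QX.trans (sup_le_sup_left hDR _)) ?_) le_sup_right)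
    have h1 := cj_mono g a.QE
    refine h1.trans ?_
    rw [cj_sup]
    refine sup_le (le_sup_right.trans le_sup_left) ?_
    have h2 := cj_eq_of_mem_normalizer (hDn hgKQ)
    exact (h2.le.trans hDR).trans le_sup_right
  obtain ⟨x₀, hx₀, r₀, hr₀, e₀⟩ := mem_sup_norm (XK.trans s.nR) (gn' s.hK)
  have hhW : h ∈ normalizer (W : Set G) := s.KW s.hK
  have hhL : h ∈ normalizer (L : Set G) := s.norm_L (s.KU s.hK) s.hQ
  have QRn : Q ≤ normalizer (R : Set G) := le_sup_right.trans s.nR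
  -- `cj x₀ Q ≤ Q ⊔ R`
  have h1 : cj x₀ Q ≤ Q ⊔ R := by
    have e1 : x₀ = h * r₀⁻¹ := by rw [e₀]; group
    have h2 : cj r₀⁻¹ Q ≤ Q ⊔ R := by
      have h3 := cj_mono r₀⁻¹ (le_sup_left : Q ≤ Q ⊔ R)
      rwa [cj_eq_of_mem_normalizer (le_normalizer (inv_mem (mem_sup_right hr₀)))] at h3
    have h4 : cj h (Q ⊔ R) ≤ Q ⊔ R := by
      rw [cj_sup]
      refine sup_le ?_ ?_
      · exact (cj_eq_of_mem_normalizer s.hQ).le.trans le_sup_left
      · exact (cj_eq_of_mem_normalizer (s.nR (mem_sup_left s.hK))).le.trans le_sup_right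
    rw [e1, ← cj_cj]
    exact (cj_mono h h2).trans h4
  have h2 : cj x₀ Q ≤ X ⊔ D := by
    have h3 := cj_mono x₀ QX
    rwa [cj_eq_of_mem_normalizer (le_normalizer (mem_sup_left hx₀))] at h3
  set J := (X ⊔ D) ⊓ (Q ⊔ R) with hJ
  have JK : J ≤ K ⊔ Q := inf_le_left.trans (sup_le XK (inf_le_left.trans le_sup_right))
  have S1 : Syl Q J := ⟨le_inf QX le_sup_left, s.syl.2.1, fun T hT hT2 hQT => s.syl.2.2 T (hT.trans JK) hT2 hQT⟩
  have S2 : Syl (cj x₀ Q) J := by
    refine ⟨le_inf h2 h1, isPGroup_cj _ s.syl.2.1, fun T hT hT2 hQT => ?_⟩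
    have h3 : cj x₀⁻¹ T = Q := by
      refine s.syl.2.2 _ ?_ (isPGroup_cj _ hT2) ?_
      · have h4 := cj_mono x₀⁻¹ (hT.trans JK)
        rwa [cj_eq_of_mem_normalizer (le_normalizer (inv_mem (XK hx₀)))] at h4
      · rwa [← cj_le_iff]
    rw [← h3, cj_cj_inv]
  obtain ⟨y, hy, ey⟩ := syl_conj S2 S1
  have hn1 : y * x₀ ∈ normalizer (Q : Set G) := by
    rw [mem_normalizer_iff_cj, ← cj_cj, ey]
  obtain ⟨x, hx, d, hd, e2⟩ := mem_sup_norm (XK.trans hDn) (mul_mem hy.1 (mem_sup_left hx₀))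
  have ex : x = y * x₀ * d⁻¹ := by rw [e2]; group
  refine ⟨x, hx, XK hx, ?_, fun v hv => ?_⟩
  · rw [ex]
    exact mul_mem hn1 (inv_mem (le_normalizer hd.1))
  · have LQc : ∀ l ∈ L, ∀ q ∈ Q, q * l * q⁻¹ = l := fun l hl q hq => by
      have := mem_centralizer_iff.1 (s.LQ hl) q hq
      rw [this]; group
    obtain ⟨q, hq, r, hr, ey'⟩ := mem_sup_norm QRn hy.2
    have hu : h * v * h⁻¹ ∈ W ⊓ L := ⟨conj_mem' le_rfl hhW hv.1, conj_mem' le_rfl hhL hv.2⟩
    have f1 : r₀⁻¹ * v * r₀⁻¹⁻¹ * v⁻¹ ∈ F := s.RW _ (inv_mem hr₀) v hv.1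
    have f2 : h * (r₀⁻¹ * v * r₀⁻¹⁻¹ * v⁻¹) * h⁻¹ ∈ F := conj_mem' s.KF s.hK f1
    set f := h * (r₀⁻¹ * v * r₀⁻¹⁻¹ * v⁻¹) * h⁻¹ with hf
    set u := h * v * h⁻¹ with hu'
    have f3 : r * (f * u) * r⁻¹ * (f * u)⁻¹ ∈ F := s.RW _ hr _ (mul_mem (s.FW f2) hu.1)
    set f' := r * (f * u) * r⁻¹ * (f * u)⁻¹ with hf'
    have e3 : d⁻¹ * v * d = v := by
      have := LQc v hv.2 d⁻¹ (inv_mem hd.1)
      rwa [inv_inv] at this
    have e4 : x₀ * v * x₀⁻¹ = f * u := by
      have e1 : x₀ = h * r₀⁻¹ := by rw [e₀]; group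
      rw [hf, hu', e1]; group
    have e5 : x * v * x⁻¹ = f' * (f * u) := by
      have e6 : x * v * x⁻¹ = y * (x₀ * (d⁻¹ * v * d) * x₀⁻¹) * y⁻¹ := by rw [ex]; group
      have e7 : q * r * (f * u) * (q * r)⁻¹ = q * (f' * (f * u)) * q⁻¹ := by rw [hf']; group
      rw [e6, e3, e4, ey', e7]
      exact LQc _ (mul_mem (s.FL f3) (mul_mem (s.FL f2) hu.2)) q hq
    rw [e5]
    have e8 : f' * (f * u) * u⁻¹ = f' * f := by group
    rw [e8]
    exact mul_mem f3 f2

/-- **Case A**: `E` does not centralise `W_s` -/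
theorem caseA (hE : E ≤ centralizer (cj gs W : Set G)) : False := by
  obtain ⟨x, hx, hxK, hxQ, hxv⟩ := s.torus a hEQ
  refine s.β x hxK hxQ hxv ?_
  have hsup := s.supX a hEQ
  set C := U ⊓ (centralizer (E : Set G) ⊓ centralizer (cj g E : Set G)) with hC
  have hcom' : ∀ x ∈ W, ∀ y ∈ C, x * y = y * x := fun x hx y hy => s.Um (s.rt.WU hx) hy.1
  have hXC : E ⊔ cj g E ≤ centralizer (C : Set G) :=
    sup_le (cent_symm (inf_le_right.trans inf_le_left)) (cent_symm (inf_le_right.trans inf_le_right))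
  have hxU : x ∈ normalizer (U : Set G) := s.KQ_U hxK
  have hxL : x ∈ normalizer (L : Set G) := s.norm_L hxU hxQ
  have hWsU : cj gs W ≤ U := by
    have h1 := cj_mono gs s.rt.WU
    rwa [cj_eq_of_mem_normalizer (s.HU s.gsH)] at h1
  have e1 : cj x ⁅cj gs W, Q⁆ = ⁅cj x (cj gs W), cj x Q⁆ := Subgroup.map_commutator _ _ _
  rw [e1, cj_eq_of_mem_normalizer hxQ, commutator_le]
  rintro w' hw' q hq
  obtain ⟨w, hw, rfl⟩ : ∃ w ∈ cj gs W, w' = x * w * x⁻¹ := ⟨x⁻¹ * w' * x, mem_cj.1 hw', by group⟩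
  obtain ⟨w₁, hw₁, c, hc, ew⟩ := mem_sup_comm hcom' (hsup (hWsU hw))
  have h1 : w₁ ∈ W ⊓ L := by
    have h2 : w ∈ centralizer (E : Set G) := cent_symm hE hw
    have h3 : w₁ = w * c⁻¹ := by rw [ew]; group
    have h4 : w₁ ∈ centralizer (E : Set G) := by
      rw [h3]
      exact mul_mem h2 (inv_mem (mem_inf.1 (mem_inf.1 hc).2).1)
    rw [← a.cE]
    exact ⟨hw₁, h4⟩
  have h2 : x * c = c * x := mem_centralizer_iff.1 (cent_symm hXC hc) x hx
  set l := x * w₁ * x⁻¹ * w₁⁻¹ with hl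
  have hlL : l ∈ L := mul_mem (conj_mem' le_rfl hxL h1.2) (inv_mem h1.2)
  have e2 : x * w * x⁻¹ = l * w := by
    rw [ew, hl]
    have e3 : x * (w₁ * c) * x⁻¹ = x * w₁ * x⁻¹ * (x * c * x⁻¹) := by group
    rw [e3, h2]
    group
  have hq' : q * l = l * q := mem_centralizer_iff.1 (s.LQ hlL) q hq
  have hcU : w * (q * w⁻¹ * q⁻¹) ∈ U :=
    mul_mem (hWsU hw) (conj_mem' s.QU hq (inv_mem (hWsU hw)))
  have e4 : ⁅x * w * x⁻¹, q⁆ = ⁅w, q⁆ := by
    rw [e2, commutatorElement_def, commutatorElement_def]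
    have e5 : l * w * q * (l * w)⁻¹ * q⁻¹ = l * (w * (q * w⁻¹ * q⁻¹)) * (q * l⁻¹ * q⁻¹) := by group
    have e6 : q * l⁻¹ * q⁻¹ = l⁻¹ := by
      have := mem_centralizer_iff.1 (s.LQ (inv_mem hlL)) q hq
      rw [this]; group
    rw [e5, e6, s.Um (s.L_le hlL) hcU]
    group
  rw [e4]
  exact commutator_mem_commutator hw hq

/-- **Case B**: `E` does not move `W_s` -/
theorem caseB (m : MaxMin U Q E) (hne : ¬ E ≤ centralizer (cj gs W : Set G)) : False := by
  have rs : Rt Q U L (cj gs W) := s.rt.conj (s.HQ s.gsH) (s.HU s.gsH) (s.norm_L (s.HU s.gsH) (s.HQ s.gsH))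
  have as := rs.act s.Uc s.QU s.LQ m hne
  refine s.nv ?_
  rw [commutator_le]
  intro w hw q hq
  obtain ⟨e, he, d, hd, rfl⟩ := mem_sup_norm (hEQ.trans (norm_inf_cent rs.QW)) (as.QE hq)
  have h1 := mem_centralizer_iff.1 hd.2 w⁻¹ (inv_mem hw)
  have e1 : ⁅w, e * d⁆ = (e * w * e⁻¹ * w⁻¹)⁻¹ := by
    rw [commutatorElement_def]
    have e2 : w * (e * d) * w⁻¹ * (e * d)⁻¹ = w * e * (d * w⁻¹) * d⁻¹ * e⁻¹ := by group
    rw [e2, ← h1]
    group
  rw [e1]
  exact inv_mem (a.com e he w (rs.WU hw))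

end mv

/-- **(d) + (e): THE KILL** -/
protected theorem false : False := by
  obtain ⟨E, m, hne⟩ := s.exists_mv
  have a := s.rt.act s.Uc s.QU s.LQ m hne
  by_cases hE : E ≤ centralizer (cj gs W : Set G)
  · exact s.caseA a m.le hE
  · exact s.caseB a m.le m hE

end Sit

end Cfsg.Agent.Omega.NO3S.WY.Tor.SFive
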