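import Cfsg.Agent.Omega.NO3S.WY.Tor.Lit
import Cfsg.Agent.Omega.NO3S.WY.Tor.SFive
import Cfsg.Agent.Omega.NO3S.Sym.Light

/-!
# (TOR') for ONE `S₅`: the literals

`FiveL S P p` : `p i` = the complement of the letter `i`; `Y ∈ P(T)`, `T = Std.T S p = C_S(nn p)`, `Y ≤ C_G(nn p)` weird,
`τ = {2, 3, 4}` : `V_τ = {1, p 2 p 3, p 2 p 4, p 3 p 4}`, `V*_τ = {1, p 0 p 1, p 0, p 1}`.

* `TorS S P p Y` : (TOR') for one `S₅` (output of #25080 for `S₅`);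
* `Y5 Q L K W F R g h q` : the facts (a), (b) of #25227 at `Y` (`K = O²(Y)`, `W = ⟨aa p ^ Y⟩`, `F = C_W(K)`, `R` = the
  kernel of `K Q` on `W / F`), in the letters `q` (`τ = {2, 3, 4}`).
-/

set_option autoImplicit false
set_option linter.unusedSectionVars false

namespace Cfsg.Agent.Omega.NO3S.WY.Tor.SFive

open Subgroup Cfsg Cfsg.Agent.ZN Cfsg.Agent.ZN.ChoiceBase Cfsg.Agent.ZN.ChoiceSit
open Cfsg.Agent.Omega.FFThm (OffM ElemM NatKM ActsSL)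
open Cfsg.Agent.Lib.SL2Mat (up)
open Cfsg.Agent.Omega.FrameFF (cv)
open Cfsg.Agent.Omega.NTwo (Std nn aa)
open Cfsg.Agent.Omega.NO3S.Sym.Light (FiveL)
open scoped commutatorElement

universe u

variable {G : Type u} [Group G] [Finite G]

/-- **(TOR')** for one `S₅`. -/
structure TorS (S : Sylow 2 G) (P : Subgroup G) (p : Fin 5 → G) (Y : Subgroup G) : Prop where
  five : FiveL S P p
  wy : WY S P (Std.T (S : Subgroup G) p) Y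
  cen : Y ≤ centralizer ({nn p} : Set G)
  fam : ∃ (V : Subgroup G) (𝓕 : Set (Subgroup G)), FamT S P Y V 𝓕
  /-- one natural `SL₂(4)`-block; `V_τ` = the line fixed by `T`; `O₂(P)` acts inside the root group -/
  nat : ∃ (F : Type) (_ : Field F) (_ : Finite F) (_ : CharP F 2)
    (N : NatKM F (Std.T (S : Subgroup G) p) Y (zl (Std.T (S : Subgroup G) p) Y) (cv (Std.T (S : Subgroup G) p) Y) 1),
    Nat.card F = 4 ∧
    (∀ v ∈ zl (Std.T (S : Subgroup G) p) Y,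
      N.e v 0 1 = 0 ↔ v ∈ closure {p 2 * p 3, p 2 * p 4} ⊔ cv (Std.T (S : Subgroup G) p) Y) ∧
    ∀ x ∈ o2 P, ∃ b : F,
      ActsSL N.e (zl (Std.T (S : Subgroup G) p) Y) (cv (Std.T (S : Subgroup G) p) Y) x fun _ => up b

/-- **The facts at `Y`** (#25227 (a), (b)), letters `q`, `τ = {2, 3, 4}`. -/
structure Y5 (Q L K W F R : Subgroup G) (g h : G) (q : Fin 5 → G) : Prop where
  QW : Q ≤ normalizer (W : Set G)
  idx : (centralizer (W : Set G)).relIndex Q = 4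
  cW : ∀ x ∈ Q, x ∉ centralizer (W : Set G) → W ⊓ centralizer ({x} : Set G) ≤ L
  ix : L.relIndex W = 4
  KW : K ≤ normalizer (W : Set G)
  KE : K ≤ normalizer ((Q ⊓ centralizer (W : Set G) : Subgroup G) : Set G)
  syl : Syl Q (K ⊔ Q)
  FW : F ≤ W
  KF : K ≤ normalizer (F : Set G)
  Fe : W ⊓ centralizer (Q : Set G) ⊓ centralizer (cj g Q : Set G) ≤ F
  iF : F.relIndex W = 16
  RK : R ≤ K ⊔ Q
  nR : K ⊔ Q ≤ normalizer (R : Set G)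
  ER : Q ⊓ centralizer (W : Set G) ≤ R
  RW : ∀ r ∈ R, ∀ w ∈ W, r * w * r⁻¹ * w⁻¹ ∈ F
  gK : g ∈ K
  gn : K ≤ Q ⊔ cj g Q ⊔ R
  hK : h ∈ K
  hQ : h ∈ normalizer (Q : Set G)
  /-- `h` is fixed-point-free on `(W ∩ L) / F` -/
  hv : ∀ v ∈ W ⊓ L, h * v * h⁻¹ * v⁻¹ ∈ F → v ∈ F
  /-- `W = ⟨(W ∩ L)^K⟩` -/
  WK : ∀ A : Subgroup G, L ≤ A → K ≤ normalizer (A : Set G) → W ≤ A
  /-- `[W, Q] F = W ∩ L` -/
  WC : ∀ v ∈ W ⊓ L, ∃ f ∈ F, v * f ∈ ⁅W, Q⁆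
  /-- `K ≤ C(V*_τ)` -/
  K0 : ∀ k ∈ K, k * q 0 = q 0 * k
  K1 : ∀ k ∈ K, k * q 1 = q 1 * k
  Fq : ∀ f ∈ F, f = 1 ∨ f = q 0 * q 1
  V3 : q 2 * q 3 ∈ W
  V4 : q 2 * q 4 ∈ W
  WL : ∀ w ∈ W ⊓ L, ∃ f ∈ F, w = f ∨ w = q 2 * q 3 * f ∨ w = q 2 * q 4 * f ∨ w = q 3 * q 4 * f

end Cfsg.Agent.Omega.NO3S.WY.Tor.SFive
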