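import Cfsg.Agent.Omega.NO3S.WY.Tor.LitS

/-!
# (TOR) for one `S₅`: the end (#25227 (c), (d), (e))

* `Y5.conj` : the facts at `Y ^ u`;
* `word` : equality of words in the five points;
* `Fc` : the situation with `τ` moved to `{0, 1, 2}` : `q 0 = p 3`, `q 1 = p 4`, `q 2 = p 0`, `q 3 = p 1`, `q 4 = p 2`;
* `false_of` : `FiveL`, `WY`, `FamT`, `Y5` ⟹ `False`.
-/

set_option autoImplicit false
set_option linter.unusedSectionVars false

namespace Cfsg.Agent.Omega.NO3S.WY.Tor.SFive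

open Subgroup Cfsg Cfsg.Agent.ZN Cfsg.Agent.ZN.ChoiceBase Cfsg.Agent.ZN.ChoiceSit
open Cfsg.Agent.Omega.FFThm (OffM ElemM)
open Cfsg.Agent.Omega.NO1.BestOff (Best)
open Cfsg.Agent.Omega.NO3b.EZero (cl cl_le le_cl cj_le_cl le_normalizer_cl cent_symm cj_cent relIndex_cj)
open Cfsg.Agent.Omega.NO3b.K0 (conj_mem' cj_of_le cj_self)
open Cfsg.Agent.Omega.NTwo (Std nn aa Fv)
open Cfsg.Agent.Omega.NO3S.Sym.Light (FiveL)
open Cfsg.Agent.Omega.FrameNOFF (CZ)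
open Cfsg.Agent.Omega.NO3S.Level (CaseL)
open Cfsg.Agent.Omega.NO3S.RedC (GX DX MaxMin)
open scoped commutatorElement

universe u

variable {G : Type u} [Group G] [Finite G] {Q L K W F R A B : Subgroup G} {g h : G} {q : Fin 5 → G}

theorem cj_norm {x : G} (hAB : A ≤ normalizer (B : Set G)) : cj x A ≤ normalizer (cj x B : Set G) := by
  rw [← cj_normalizer]
  exact cj_mono x hAB

theorem cj_mul (x y : G) (hxQ : x ∈ normalizer (Q : Set G)) : cj (x * y * x⁻¹) Q = cj x (cj y Q) := by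
  rw [← cj_cj, ← cj_cj, cj_eq_of_mem_normalizer (inv_mem hxQ)]

theorem mem_cj' {x y : G} (h : y ∈ A) : x * y * x⁻¹ ∈ cj x A := ⟨y, h, rfl⟩

theorem mem_cj_iff {x y : G} : x * y * x⁻¹ ∈ cj x A ↔ y ∈ A := by
  rw [mem_cj]
  have e : x⁻¹ * (x * y * x⁻¹) * x = y := by group
  rw [e]

theorem syl_cj' {T X : Subgroup G} (x : G) (hT : Syl T X) : Syl (cj x T) (cj x X) := by
  refine ⟨cj_mono x hT.1, isPGroup_cj x hT.2.1, fun D hD hD2 hTD => ?_⟩
  have h1 : cj x⁻¹ D = T := by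
    refine hT.2.2 _ ?_ (isPGroup_cj _ hD2) ?_
    · have h2 := cj_mono x⁻¹ hD
      rwa [cj_inv_cj] at h2
    · rwa [← cj_le_iff]
  rw [← h1, cj_cj_inv]

/-- the facts at `Y ^ u` -/
theorem Y5.conj (y : Y5 Q L K W F R g h q) {u : G} (uQ : u ∈ normalizer (Q : Set G)) (uL : u ∈ normalizer (L : Set G)) :
    Y5 Q L (cj u K) (cj u W) (cj u F) (cj u R) (u * g * u⁻¹) (u * h * u⁻¹) fun i => u * q i * u⁻¹ := by
  have rt : Rt Q ⊤ L (cj u W) := (Rt.mk le_top y.QW y.idx y.cW y.ix : Rt Q ⊤ L W).conj uQ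
    (by rw [mem_normalizer_iff_cj]; exact (Subgroup.map_top_of_surjective _ (MulAut.conj u).surjective)) uL
  have hQ : cj u Q = Q := cj_eq_of_mem_normalizer uQ
  have hL : cj u L = L := cj_eq_of_mem_normalizer uL
  have e1 : Q ⊓ centralizer (cj u W : Set G) = cj u (Q ⊓ centralizer (W : Set G)) := by
    rw [cj_inf, cj_centralizer, hQ]
  have e2 : cj u K ⊔ Q = cj u (K ⊔ Q) := by rw [cj_sup, hQ]
  have e3 : ⁅cj u W, Q⁆ = cj u ⁅W, Q⁆ := by
    conv_lhs => rw [← hQ]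
    exact (Subgroup.map_commutator _ _ _).symm
  have e4 : cj u W ⊓ L = cj u (W ⊓ L) := by rw [cj_inf, hL]
  refine
    { QW := rt.QW
      idx := rt.idx
      cW := rt.cW
      ix := rt.ix
      KW := cj_norm y.KW
      KE := by rw [e1]; exact cj_norm y.KE
      syl := by
        have h1 := syl_cj' u y.syl
        rw [hQ] at h1
        rw [e2]
        exact h1
      FW := cj_mono u y.FW
      KF := cj_norm y.KF
      Fe := ?_
      iF := by rw [relIndex_cj, y.iF]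
      RK := by rw [e2]; exact cj_mono u y.RK
      nR := by rw [e2]; exact cj_norm y.nR
      ER := by rw [e1]; exact cj_mono u y.ER
      RW := ?_
      gK := mem_cj' y.gK
      gn := ?_
      hK := mem_cj' y.hK
      hQ := ?_
      hv := ?_
      WK := ?_
      WC := ?_
      K0 := ?_
      K1 := ?_
      Fq := ?_
      V3 := ?_
      V4 := ?_
      WL := ?_ }
  · have e5 : centralizer (Q : Set G) = cj u (centralizer (Q : Set G)) := by rw [cj_centralizer, hQ]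
    rw [cj_mul _ _ uQ, ← cj_centralizer, e5, ← cj_inf, ← cj_inf]
    exact cj_mono u y.Fe
  · rintro _ ⟨r, hr, rfl⟩ _ ⟨w, hw, rfl⟩
    have h1 := y.RW r hr w hw
    have e : (MulAut.conj u).toMonoidHom r * (MulAut.conj u).toMonoidHom w * ((MulAut.conj u).toMonoidHom r)⁻¹ *
        ((MulAut.conj u).toMonoidHom w)⁻¹ = u * (r * w * r⁻¹ * w⁻¹) * u⁻¹ := by
      change u * r * u⁻¹ * (u * w * u⁻¹) * (u * r * u⁻¹)⁻¹ * (u * w * u⁻¹)⁻¹ = _
      group
    rw [e]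
    exact mem_cj' h1
  · have h1 := cj_mono u y.gn
    rw [cj_sup, cj_sup, hQ] at h1
    rwa [cj_mul _ _ uQ]
  · exact mul_mem (mul_mem uQ y.hQ) (inv_mem uQ)
  · rintro v hv h1
    rw [e4] at hv
    obtain ⟨v, hv, rfl⟩ := hv
    have e : u * h * u⁻¹ * (MulAut.conj u).toMonoidHom v * (u * h * u⁻¹)⁻¹ * ((MulAut.conj u).toMonoidHom v)⁻¹ =
        u * (h * v * h⁻¹ * v⁻¹) * u⁻¹ := by
      change u * h * u⁻¹ * (u * v * u⁻¹) * (u * h * u⁻¹)⁻¹ * (u * v * u⁻¹)⁻¹ = _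
      group
    rw [e, mem_cj_iff] at h1
    exact mem_cj' (y.hv v hv h1)
  · intro A hA hK
    have h1 := y.WK (cj u⁻¹ A) ?_ ?_
    · rw [← cj_le_iff] at h1
      exact h1
    · rw [← cj_le_iff, hL]; exact hA
    · have h2 := cj_norm (x := u⁻¹) hK
      rwa [cj_inv_cj] at h2
  · intro v hv
    rw [e4] at hv
    obtain ⟨v, hv, rfl⟩ := hv
    obtain ⟨f, hf, h1⟩ := y.WC v hv
    refine ⟨u * f * u⁻¹, mem_cj' hf, ?_⟩
    rw [e3]
    have e : (MulAut.conj u).toMonoidHom v * (u * f * u⁻¹) = u * (v * f) * u⁻¹ := by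
      change u * v * u⁻¹ * (u * f * u⁻¹) = _
      group
    rw [e]
    exact mem_cj' h1
  · rintro _ ⟨k, hk, rfl⟩
    have h1 := y.K0 k hk
    change u * k * u⁻¹ * (u * q 0 * u⁻¹) = u * q 0 * u⁻¹ * (u * k * u⁻¹)
    calc u * k * u⁻¹ * (u * q 0 * u⁻¹) = u * (k * q 0) * u⁻¹ := by group
      _ = u * (q 0 * k) * u⁻¹ := by rw [h1]
      _ = _ := by group
  · rintro _ ⟨k, hk, rfl⟩
    have h1 := y.K1 k hk
    change u * k * u⁻¹ * (u * q 1 * u⁻¹) = u * q 1 * u⁻¹ * (u * k * u⁻¹)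
    calc u * k * u⁻¹ * (u * q 1 * u⁻¹) = u * (k * q 1) * u⁻¹ := by group
      _ = u * (q 1 * k) * u⁻¹ := by rw [h1]
      _ = _ := by group
  · rintro _ ⟨f, hf, rfl⟩
    change u * f * u⁻¹ = 1 ∨ u * f * u⁻¹ = u * q 0 * u⁻¹ * (u * q 1 * u⁻¹)
    rcases y.Fq f hf with rfl | rfl
    · left; group
    · right; group
  · have h1 := mem_cj' (x := u) y.V3
    have e : u * q 2 * u⁻¹ * (u * q 3 * u⁻¹) = u * (q 2 * q 3) * u⁻¹ := by group
    simp only [e]
    exact h1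
  · have h1 := mem_cj' (x := u) y.V4
    have e : u * q 2 * u⁻¹ * (u * q 4 * u⁻¹) = u * (q 2 * q 4) * u⁻¹ := by group
    simp only [e]
    exact h1
  · intro w hw
    rw [e4] at hw
    obtain ⟨w, hw, rfl⟩ := hw
    obtain ⟨f, hf, h1⟩ := y.WL w hw
    refine ⟨u * f * u⁻¹, mem_cj' hf, ?_⟩
    change u * w * u⁻¹ = _ ∨ u * w * u⁻¹ = u * q 2 * u⁻¹ * (u * q 3 * u⁻¹) * _ ∨
      u * w * u⁻¹ = u * q 2 * u⁻¹ * (u * q 4 * u⁻¹) * _ ∨ u * w * u⁻¹ = u * q 3 * u⁻¹ * (u * q 4 * u⁻¹) * _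
    rcases h1 with rfl | rfl | rfl | rfl
    · exact Or.inl rfl
    · exact Or.inr (Or.inl (by group))
    · exact Or.inr (Or.inr (Or.inl (by group)))
    · exact Or.inr (Or.inr (Or.inr (by group)))

/-! ### Words in the five points -/

section words

variable {P : Subgroup G} {p : Fin 5 → G}

omit [Finite G] in
theorem four (hp : Fv P p) {i j k l m : Fin 5} (hd : [i, j, k, l, m].Nodup) : p i * p j * (p k * p l) = p m := by
  obtain ⟨σ, h0, h1, h2, h3, h4⟩ : ∃ σ : Equiv.Perm (Fin 5), σ 0 = i ∧ σ 1 = j ∧ σ 2 = k ∧ σ 3 = l ∧ σ 4 = m := by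
    revert i j k l m
    decide +kernel
  have := hp.prod' σ
  rwa [h0, h1, h2, h3, h4] at this

omit [Finite G] in
theorem pair_ne (hp : Fv P p) {i j k l m : Fin 5} (hd : [i, j, k, l, m].Nodup) : p i * p j ≠ p k * p l := fun e => by
  have h1 := four hp hd
  rw [e] at h1
  apply hp.ne m
  rw [← h1, mul_assoc, ← mul_assoc (p l), hp.comm l k, mul_assoc (p k), hp.sq, mul_one, hp.sq]

omit [Finite G] in
theorem pair_ne' (hp : Fv P p) {i j l : Fin 5} (h : j ≠ l) : p i * p j ≠ p i * p l := fun e =>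
  h (hp.inj (mul_left_cancel e))

end words

/-! ### (c) -/

section c

variable {S : Sylow 2 G} {P Y V : Subgroup G} {𝓕 : Set (Subgroup G)} {p : Fin 5 → G}

/-- a light element is not conjugate to a heavy element -/
theorem lh (five : FiveL S P p) {x : G} {i j : Fin 5} (hij : i ≠ j) (k : Fin 5) : x * (p i * p j) * x⁻¹ ≠ p k := by
  intro e
  obtain ⟨a, -, ha⟩ := five.toFive.lights hij
  obtain ⟨b, -, hb⟩ := five.toFive.heavy k
  set y := b⁻¹ * x * a with hy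
  have h1 : y * nn p * y⁻¹ = p 4 := by
    have : y * nn p * y⁻¹ = b⁻¹ * (x * (a * nn p * a⁻¹) * x⁻¹) * b := by rw [hy]; group
    rw [this, ha, e, ← hb]
    group
  refine five.light (y⁻¹ • S) fun z hz => ?_
  have hz' : z ∈ ((y⁻¹ • S : Sylow 2 G) : Subgroup G) := hz
  rw [Sylow.coe_subgroup_smul] at hz'
  obtain ⟨s, hs, rfl⟩ := hz'
  have h2 := five.std.fix s hs
  change (y⁻¹ * s * y⁻¹⁻¹) * nn p * (y⁻¹ * s * y⁻¹⁻¹)⁻¹ = nn p
  calc (y⁻¹ * s * y⁻¹⁻¹) * nn p * (y⁻¹ * s * y⁻¹⁻¹)⁻¹ = y⁻¹ * (s * (y * nn p * y⁻¹) * s⁻¹) * y := by group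
    _ = y⁻¹ * p 4 * y := by rw [h1, h2]
    _ = nn p := by rw [← h1]; group

/-- The situation of (c): `τ` is at `{0, 1, 2}`. -/
structure Fc (S : Sylow 2 G) (P Y V : Subgroup G) (𝓕 : Set (Subgroup G)) (p : Fin 5 → G) (K W F R : Subgroup G)
    (g h : G) : Prop where
  five : FiveL S P p
  wq : ∃ T, WQ S P T Y
  fm : FamT S P Y V 𝓕
  KG : K ≤ GX (S : Subgroup G) P Y
  y : Y5 (o2 P) (zl (S : Subgroup G) P) K W F R g h ![p 3, p 4, p 0, p 1, p 2]
  act : ∃ A ∈ 𝓕, A ≤ o2 P ∧ ¬ A ≤ centralizer (W : Set G)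

namespace Fc

variable (c : Fc S P Y V 𝓕 p K W F R g h)
include c

theorem hp : Fv P p := c.five.std.toFv

theorem caseL : CaseL S P := by
  obtain ⟨T, hT⟩ := c.wq
  exact hT.cl

theorem pL (i : Fin 5) : p i ∈ zl (S : Subgroup G) P := c.five.toFive.p_mem i

theorem LQ : zl (S : Subgroup G) P ≤ centralizer (o2 P : Set G) := by
  rw [← c.caseL.zc_eq, le_centralizer_iff]
  exact Level.le_centralizer_zc _

theorem normL : normalizer (o2 P : Set G) ≤ normalizer (zl (S : Subgroup G) P : Set G) := by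
  rw [← c.caseL.zc_eq]
  exact Level.normalizer_le_zc _

theorem Lc {x y : G} (hx : x ∈ zl (S : Subgroup G) P) (hy : y ∈ zl (S : Subgroup G) P) : x * y = y * x :=
  c.five.toFive.V_comm hx hy

theorem K3 {k : G} (hk : k ∈ K) : k * p 3 = p 3 * k := c.y.K0 k hk

theorem K4 {k : G} (hk : k ∈ K) : k * p 4 = p 4 * k := c.y.K1 k hk

theorem Fq {f : G} (hf : f ∈ F) : f = 1 ∨ f = p 3 * p 4 := c.y.Fq f hf

theorem V3 : p 0 * p 1 ∈ W := c.y.V3

theorem V4 : p 0 * p 2 ∈ W := c.y.V4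

theorem V5 : p 1 * p 2 ∈ W := by
  have h1 := mul_mem c.V3 c.V4
  have e : p 0 * p 1 * (p 0 * p 2) = p 1 * p 2 := by
    rw [c.hp.comm 0 1, mul_assoc, ← mul_assoc (p 0), c.hp.sq, one_mul]
  rwa [e] at h1

theorem WL {w : G} (hw : w ∈ W) (hL : w ∈ zl (S : Subgroup G) P) :
    ∃ f ∈ F, w = f ∨ w = p 0 * p 1 * f ∨ w = p 0 * p 2 * f ∨ w = p 1 * p 2 * f := c.y.WL w ⟨hw, hL⟩

theorem FL : F ≤ zl (S : Subgroup G) P := fun f hf => by
  rcases c.Fq hf with rfl | rfl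
  · exact one_mem _
  · exact mul_mem (c.pL 3) (c.pL 4)

theorem cls {w : G} (hw : w ∈ W) (hL : w ∈ zl (S : Subgroup G) P) (hF : w ∉ F) (hk : ∀ k, w ≠ p k) :
    w = p 0 * p 1 ∨ w = p 0 * p 2 ∨ w = p 1 * p 2 := by
  obtain ⟨f, hf, h1⟩ := c.WL hw hL
  rcases c.Fq hf with rfl | rfl
  · simp only [mul_one] at h1
    rcases h1 with h1 | h1 | h1 | h1
    · exact absurd (h1 ▸ one_mem F) hF
    · exact Or.inl h1
    · exact Or.inr (Or.inl h1)
    · exact Or.inr (Or.inr h1)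
  · rcases h1 with h1 | h1 | h1 | h1
    · exact absurd (h1 ▸ hf) hF
    · exact absurd (h1.trans (four c.hp (m := 2) (by decide))) (hk 2)
    · exact absurd (h1.trans (four c.hp (m := 1) (by decide))) (hk 1)
    · exact absurd (h1.trans (four c.hp (m := 0) (by decide))) (hk 0)

theorem KQW : K ⊔ o2 P ≤ normalizer (W : Set G) := sup_le c.y.KW c.y.QW

theorem KQF : K ⊔ o2 P ≤ normalizer (F : Set G) := by
  refine sup_le c.y.KF fun x hx => ?_
  have h1 : F ≤ centralizer (o2 P : Set G) := c.FL.trans c.LQ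
  exact centralizer_le_normalizer _ ((le_centralizer_iff.1 h1) hx)

theorem not_F {v : G} (hv : v = p 0 * p 1 ∨ v = p 0 * p 2 ∨ v = p 1 * p 2) : v ∉ F := fun h => by
  rcases c.Fq h with h1 | h1
  · rcases hv with rfl | rfl | rfl
    · exact c.hp.mul_ne_one (by decide) h1
    · exact c.hp.mul_ne_one (by decide) h1
    · exact c.hp.mul_ne_one (by decide) h1
  · rcases hv with rfl | rfl | rfl
    · exact pair_ne c.hp (m := 2) (by decide) h1
    · exact pair_ne c.hp (m := 1) (by decide) h1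
    · exact pair_ne c.hp (m := 0) (by decide) h1

theorem mem_W {v : G} (hv : v = p 0 * p 1 ∨ v = p 0 * p 2 ∨ v = p 1 * p 2) : v ∈ W := by
  rcases hv with rfl | rfl | rfl
  · exact c.V3
  · exact c.V4
  · exact c.V5

theorem mem_L {v : G} (hv : v = p 0 * p 1 ∨ v = p 0 * p 2 ∨ v = p 1 * p 2) : v ∈ zl (S : Subgroup G) P := by
  rcases hv with rfl | rfl | rfl
  · exact mul_mem (c.pL 0) (c.pL 1)
  · exact mul_mem (c.pL 0) (c.pL 2)
  · exact mul_mem (c.pL 1) (c.pL 2)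

/-- the images of the light elements of `V_t` -/
theorem img {x v : G} (hv : v = p 0 * p 1 ∨ v = p 0 * p 2 ∨ v = p 1 * p 2) (hx : x ∈ K ⊔ o2 P)
    (hxQ : x ∈ normalizer (o2 P : Set G)) :
    x * v * x⁻¹ = p 0 * p 1 ∨ x * v * x⁻¹ = p 0 * p 2 ∨ x * v * x⁻¹ = p 1 * p 2 := by
  refine c.cls (conj_mem' c.KQW hx (c.mem_W hv)) (conj_mem' c.normL hxQ (c.mem_L hv)) (fun h1 => c.not_F hv ?_)
    fun k => ?_
  · have h2 := conj_mem' c.KQF (inv_mem hx) h1
    have e : x⁻¹ * (x * v * x⁻¹) * x⁻¹⁻¹ = v := by group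
    rwa [e] at h2
  · rcases hv with rfl | rfl | rfl
    · exact lh c.five (by decide) k
    · exact lh c.five (by decide) k
    · exact lh c.five (by decide) k

theorem h_ne {v : G} (hv : v = p 0 * p 1 ∨ v = p 0 * p 2 ∨ v = p 1 * p 2) : h * v * h⁻¹ ≠ v := fun e =>
  c.not_F hv (c.y.hv v ⟨c.mem_W hv, c.mem_L hv⟩ (by rw [e, mul_inv_cancel]; exact one_mem _))

theorem cj_comm {x : G} (hW : x ∈ normalizer (W : Set G)) (hQ : x ∈ normalizer (o2 P : Set G)) :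
    cj x ⁅W, o2 P⁆ = ⁅W, o2 P⁆ := by
  have e1 : cj x ⁅W, o2 P⁆ = ⁅cj x W, cj x (o2 P)⁆ := Subgroup.map_commutator _ _ _
  rw [e1, cj_eq_of_mem_normalizer hW, cj_eq_of_mem_normalizer hQ]

/-- `V_t ≤ [W, Q]` -/
theorem VC : p 0 * p 1 ∈ ⁅W, o2 P⁆ ∧ p 0 * p 2 ∈ ⁅W, o2 P⁆ := by
  have hKQ : h ∈ K ⊔ o2 P := mem_sup_left c.y.hK
  have e1 : p 0 * p 1 * (p 0 * p 2) = p 1 * p 2 := by
    rw [c.hp.comm 0 1, mul_assoc, ← mul_assoc (p 0), c.hp.sq, one_mul]
  have e2 : p 0 * p 2 * (p 1 * p 2) = p 0 * p 1 := by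
    rw [c.hp.comm 1 2, mul_assoc, ← mul_assoc (p 2), c.hp.sq, one_mul]
  have e3 : p 0 * p 1 * (p 1 * p 2) = p 0 * p 2 := by
    rw [mul_assoc, ← mul_assoc (p 1), c.hp.sq, one_mul]
  have hD : ∀ x ∈ ⁅W, o2 P⁆, h * x * h⁻¹ ∈ ⁅W, o2 P⁆ := fun x hx => by
    have h1 := mem_cj' (x := h) hx
    rwa [c.cj_comm (c.KQW hKQ) c.y.hQ] at h1
  obtain ⟨f, hf, h1⟩ := c.y.WC (p 0 * p 1) ⟨c.V3, c.mem_L (Or.inl rfl)⟩
  have hhf : h * f * h⁻¹ = f := by
    have h2 : h * f = f * h := by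
      rcases c.Fq hf with rfl | rfl
      · group
      · rw [← mul_assoc, c.K3 c.y.hK, mul_assoc, c.K4 c.y.hK, mul_assoc]
    rw [h2]
    group
  -- `v (h v h⁻¹) ∈ [W, Q]`
  have h2 : p 0 * p 1 * (h * (p 0 * p 1) * h⁻¹) ∈ ⁅W, o2 P⁆ := by
    have h3 := mul_mem (inv_mem h1) (hD _ h1)
    have e4 : h * (p 0 * p 1 * f) * h⁻¹ = (h * (p 0 * p 1) * h⁻¹) * f := by
      have : h * (p 0 * p 1 * f) * h⁻¹ = (h * (p 0 * p 1) * h⁻¹) * (h * f * h⁻¹) := by group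
      rw [this, hhf]
    have e5 : (p 0 * p 1)⁻¹ = p 0 * p 1 := by
      rw [mul_inv_rev, c.hp.pinv, c.hp.pinv, c.hp.comm]
    have hL1 : h * (p 0 * p 1) * h⁻¹ ∈ zl (S : Subgroup G) P := conj_mem' c.normL c.y.hQ (c.mem_L (Or.inl rfl))
    have e6 : (p 0 * p 1 * f)⁻¹ * ((h * (p 0 * p 1) * h⁻¹) * f) = p 0 * p 1 * (h * (p 0 * p 1) * h⁻¹) := by
      rw [mul_inv_rev, e5, c.Lc hL1 (c.FL hf), c.Lc (inv_mem (c.FL hf)) (c.mem_L (Or.inl rfl))]
      group
    rwa [e4, e6] at h3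
  rcases c.img (Or.inl rfl) hKQ c.y.hQ with h3 | h3 | h3
  · exact absurd h3 (c.h_ne (Or.inl rfl))
  · rw [h3, e1] at h2
    have h4 := hD _ h2
    rcases c.img (Or.inr (Or.inr rfl)) hKQ c.y.hQ with h5 | h5 | h5
    · rw [h5] at h4
      refine ⟨h4, ?_⟩
      rw [← e3]
      exact mul_mem h4 h2
    · rw [h5] at h4
      refine ⟨?_, h4⟩
      rw [← e2]
      exact mul_mem h4 h2
    · exact absurd h5 (c.h_ne (Or.inr (Or.inr rfl)))
  · rw [h3, e3] at h2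
    have h4 := hD _ h2
    rcases c.img (Or.inr (Or.inl rfl)) hKQ c.y.hQ with h5 | h5 | h5
    · rw [h5] at h4
      exact ⟨h4, h2⟩
    · exact absurd h5 (c.h_ne (Or.inr (Or.inl rfl)))
    · rw [h5] at h4
      refine ⟨?_, h2⟩
      rw [← e2]
      exact mul_mem h2 h4

theorem not03 : p 0 * p 3 ∉ W := fun hW => by
  obtain ⟨f, hf, h1⟩ := c.WL hW (mul_mem (c.pL 0) (c.pL 3))
  rcases c.Fq hf with rfl | rfl
  · simp only [mul_one] at h1
    rcases h1 with h1 | h1 | h1 | h1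
    · exact c.hp.mul_ne_one (by decide) h1
    · exact pair_ne' c.hp (by decide) h1
    · exact pair_ne' c.hp (by decide) h1
    · exact pair_ne c.hp (m := 4) (by decide) h1
  · rcases h1 with h1 | h1 | h1 | h1
    · rw [c.hp.comm 0 3] at h1
      exact pair_ne' c.hp (by decide) h1
    · exact c.hp.mul_ne (by decide) 2 (h1.trans (four c.hp (by decide)))
    · exact c.hp.mul_ne (by decide) 1 (h1.trans (four c.hp (by decide)))
    · exact c.hp.mul_ne (by decide) 0 (h1.trans (four c.hp (by decide)))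

theorem not13 : p 1 * p 3 ∉ W := fun hW => by
  obtain ⟨f, hf, h1⟩ := c.WL hW (mul_mem (c.pL 1) (c.pL 3))
  rcases c.Fq hf with rfl | rfl
  · simp only [mul_one] at h1
    rcases h1 with h1 | h1 | h1 | h1
    · exact c.hp.mul_ne_one (by decide) h1
    · rw [c.hp.comm 0 1] at h1
      exact pair_ne' c.hp (by decide) h1
    · exact pair_ne c.hp (m := 4) (by decide) h1
    · exact pair_ne' c.hp (by decide) h1
  · rcases h1 with h1 | h1 | h1 | h1
    · rw [c.hp.comm 1 3] at h1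
      exact pair_ne' c.hp (by decide) h1
    · exact c.hp.mul_ne (by decide) 2 (h1.trans (four c.hp (by decide)))
    · exact c.hp.mul_ne (by decide) 1 (h1.trans (four c.hp (by decide)))
    · exact c.hp.mul_ne (by decide) 0 (h1.trans (four c.hp (by decide)))

/-- `H = C_P(z)` -/
def HH (P : Subgroup G) (p : Fin 5 → G) : Subgroup G := P ⊓ centralizer ({p 4} : Set G)

/-- `U = ⟨V_P^⟨K, H⟩⟩` -/
def UU (S P K : Subgroup G) (p : Fin 5 → G) : Subgroup G := cl (zl S P) (K ⊔ HH P p)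

theorem L_UU : zl (S : Subgroup G) P ≤ UU (S : Subgroup G) P K p := le_cl _ _

theorem nUU : K ⊔ HH P p ≤ normalizer (UU (S : Subgroup G) P K p : Set G) := le_normalizer_cl _ _

theorem PG : P ≤ GX (S : Subgroup G) P Y := by
  obtain ⟨T, hT⟩ := c.wq
  exact hT.P_le

theorem NG : K ⊔ HH P p ≤ GX (S : Subgroup G) P Y := sup_le c.KG (inf_le_left.trans c.PG)

theorem UV : UU (S : Subgroup G) P K p ≤ V := by
  obtain ⟨T, hT⟩ := c.wq
  refine cl_le fun n hn => ?_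
  have h1 : zl (S : Subgroup G) P ≤ V := hT.L_le_zl.trans c.fm.md.ge
  rw [← cj_eq_of_mem_normalizer (c.fm.md.norm (c.NG hn))]
  exact cj_mono n h1

theorem Uzc : UU (S : Subgroup G) P K p ≤ zc (DX (S : Subgroup G) P Y) := c.UV.trans c.fm.md.le

theorem HQ : HH P p ≤ normalizer (o2 P : Set G) := inf_le_left.trans (ZN.le_normalizer_o2 P)

theorem Q_HH : o2 P ≤ HH P p := by
  refine le_inf (ZN.o2_le P) fun x hx => ?_
  rw [mem_centralizer_singleton_iff]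
  exact mem_centralizer_iff.1 (c.LQ (c.pL 4)) x hx

/-- `⟨K, H⟩ ≤ C_G(z)` -/
theorem Nz : K ⊔ HH P p ≤ CZ (S : Subgroup G) := by
  have h1 : CZ (S : Subgroup G) = centralizer ({p 4} : Set G) := NTwo.cent_zc c.five.std
  rw [h1]
  refine sup_le (fun k hk => ?_) inf_le_right
  rw [mem_centralizer_singleton_iff]
  exact c.K4 hk

theorem Ulow : UU (S : Subgroup G) P K p ≤ o2 (CZ (S : Subgroup G)) := by
  refine cl_le fun n hn => ?_
  have h1 := cj_mono n (c.caseL.hypN.low P c.caseL.pss.par)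
  rwa [cj_eq_of_mem_normalizer (ZN.le_normalizer_o2 _ (c.Nz hn))] at h1

theorem false : False := by
  obtain ⟨T, hT⟩ := c.wq
  set L := zl (S : Subgroup G) P with hL
  set Q := o2 P with hQ
  set H := HH P p with hH
  set U := UU (S : Subgroup G) P K p with hU
  have hLU : L ≤ U := c.L_UU
  have hKN : K ≤ K ⊔ H := le_sup_left
  have hHN : H ≤ K ⊔ H := le_sup_right
  have hUc : U ≤ centralizer (U : Set G) := fun x hx => mem_centralizer_iff.2 fun y hy => Level.Lev.zc_comm (c.Uzc hy) (c.Uzc hx)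
  have WU : W ≤ U := c.y.WK U hLU (hKN.trans c.nUU)
  have hUQ : U ⊓ centralizer (Q : Set G) = L := by
    refine le_antisymm ?_ (le_inf hLU c.LQ)
    rw [hL, ← hT.cvQ]
    exact inf_le_inf_right _ c.Uzc
  -- the element of `C_P(z)` moving `t = {0, 1, 2}` to `{0, 1, 3}`
  obtain ⟨gs, hgP, hgs⟩ := c.hp.full (Equiv.swap 2 3)
  have hg0 : gs * p 0 * gs⁻¹ = p 0 := by rw [hgs, Equiv.swap_apply_of_ne_of_ne (by decide) (by decide)]
  have hg1 : gs * p 1 * gs⁻¹ = p 1 := by rw [hgs, Equiv.swap_apply_of_ne_of_ne (by decide) (by decide)]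
  have hg2 : gs * p 2 * gs⁻¹ = p 3 := by rw [hgs, Equiv.swap_apply_left]
  have hg3 : gs * p 3 * gs⁻¹ = p 2 := by rw [hgs, Equiv.swap_apply_right]
  have hg4 : gs * p 4 * gs⁻¹ = p 4 := by rw [hgs, Equiv.swap_apply_of_ne_of_ne (by decide) (by decide)]
  have hgH : gs ∈ H := mem_inf.2 ⟨hgP, NTwo.mem_cent.2 hg4⟩
  have e01 : gs * (p 0 * p 1) * gs⁻¹ = p 0 * p 1 := by rw [NTwo.cm, hg0, hg1]
  have e02 : gs * (p 0 * p 2) * gs⁻¹ = p 0 * p 3 := by rw [NTwo.cm, hg0, hg2]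
  have e03 : gs * (p 0 * p 3) * gs⁻¹ = p 0 * p 2 := by rw [NTwo.cm, hg0, hg3]
  have e13 : gs * (p 1 * p 3) * gs⁻¹ = p 1 * p 2 := by rw [NTwo.cm, hg1, hg3]
  have hgD : cj gs ⁅W, Q⁆ = ⁅cj gs W, Q⁆ := by
    have e1 : cj gs ⁅W, Q⁆ = ⁅cj gs W, cj gs Q⁆ := Subgroup.map_commutator _ _ _
    rw [e1, cj_eq_of_mem_normalizer (c.HQ hgH)]
  have h01 : p 0 * p 1 ∈ ⁅cj gs W, Q⁆ := by
    rw [← hgD, ← e01]
    exact mem_cj' c.VC.1
  have h03 : p 0 * p 3 ∈ ⁅cj gs W, Q⁆ := by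
    rw [← hgD, ← e02]
    exact mem_cj' c.VC.2
  have rt : Rt Q U L W := ⟨WU, c.y.QW, c.y.idx, c.y.cW, c.y.ix⟩
  have rs : Rt Q U L (cj gs W) := rt.conj (c.HQ hgH) (c.nUU (hHN hgH)) (c.normL (c.HQ hgH))
  have hDW : ⁅cj gs W, Q⁆ ≤ cj gs W := by
    rw [commutator_le]
    intro w hw x hx
    rw [commutatorElement_def]
    have h1 := conj_mem' rs.QW hx (inv_mem hw)
    have e : w * x * w⁻¹ * x⁻¹ = w * (x * w⁻¹ * x⁻¹) := by group
    rw [e]
    exact mul_mem hw h1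
  have off : ∃ A ≤ Q, OffM U A := by
    obtain ⟨A, hA, hAQ, hAW⟩ := c.act
    have hZ : zc (S : Subgroup G) ≤ ChoiceBase.cj 1 (zl (S : Subgroup G) P) := by
      rw [cj_one]
      exact ZN.zc_le_zl
    have h1 := (c.fm.her A hA (hAQ.trans hT.o2P_le) 1 (one_mem _) (zc (S : Subgroup G)) U hT.zc_ne hZ c.UV c.Ulow).1
    rw [cj_one] at h1
    refine ⟨A, hAQ, h1.toElemM, fun h2 => hAW (h2.trans (centralizer_le WU)), ?_⟩
    have h3 := h1.max (A ⊓ centralizer (U : Set G)) inf_le_left le_rfl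
    have h4 : U ⊓ centralizer ((A ⊓ centralizer (U : Set G) : Subgroup G) : Set G) = U :=
      inf_eq_left.2 (cent_symm inf_le_right)
    rw [h4, mul_comm] at h3
    exact h3
  refine Sit.false (Q := Q) (U := U) (L := L) (K := K) (H := H) (W := W) (F := F) (R := R) (g := g) (h := h)
    (gs := gs)
    { Uc := hUc
      QU := c.Q_HH.trans (hHN.trans c.nUU)
      KU := hKN.trans c.nUU
      HU := hHN.trans c.nUU
      HQ := c.HQ
      LU := hUQ
      gen := fun X hK hH hX => ?_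
      off := off
      rt := rt
      KW := c.y.KW
      KE := c.y.KE
      syl := c.y.syl
      FW := c.y.FW
      FL := c.FL
      KF := c.y.KF
      Fe := c.y.Fe
      iF := c.y.iF
      RK := c.y.RK
      nR := c.y.nR
      ER := c.y.ER
      RW := c.y.RW
      gK := c.y.gK
      gn := c.y.gn
      hK := c.y.hK
      hQ := c.y.hQ
      gsH := hgH
      nv := fun hle => c.not03 (hle h03)
      β := fun x hx hxQ hxv hle => ?_ }
  · have hN : K ⊔ H ≤ normalizer (X : Set G) := sup_le hK hH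
    have h2 : UU (S : Subgroup G) P K p ≤ centralizer (X : Set G) := cl_le fun n hn => by
      have h1 := cj_cent (g := n) (cent_symm hX : L ≤ centralizer (X : Set G))
      rwa [cj_eq_of_mem_normalizer (hN hn)] at h1
    exact cent_symm h2
  · -- `x (p 0 p 1) x⁻¹ ∈ cj gs W`
    have h1 : x * (p 0 * p 1) * x⁻¹ ∈ cj gs W := hDW (hle (mem_cj' h01))
    have h2 : x * (p 0 * p 1) * x⁻¹ ≠ p 0 * p 1 := fun e => by
      have h3 := hxv (p 0 * p 1) ⟨c.V3, c.mem_L (Or.inl rfl)⟩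
      rw [e] at h3
      have h4 := inv_mem h3
      have e' : (p 0 * p 1 * (h * (p 0 * p 1) * h⁻¹)⁻¹)⁻¹ = h * (p 0 * p 1) * h⁻¹ * (p 0 * p 1)⁻¹ := by group
      rw [e'] at h4
      exact c.not_F (Or.inl rfl) (c.y.hv _ ⟨c.V3, c.mem_L (Or.inl rfl)⟩ h4)
    rcases c.img (Or.inl rfl) hx hxQ with h3 | h3 | h3
    · exact h2 h3
    · rw [h3, ← e03, mem_cj_iff] at h1
      exact c.not03 h1
    · rw [h3, ← e13, mem_cj_iff] at h1
      exact c.not13 h1

end Fc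

/-- **One `S₅` in (TOR') is impossible.** -/
theorem false_of {T : Subgroup G} (five : FiveL S P p) (wy : WQ S P T Y) (fm : FamT S P Y V 𝓕) (KY : K ≤ Y)
    (y : Y5 (o2 P) (zl (S : Subgroup G) P) K W F R g h p)
    (mvW : ∀ A ≤ o2 P, ¬ A ≤ o2 Y → ¬ A ≤ centralizer (W : Set G)) : False := by
  obtain ⟨σ, h0, h1, h2, h3, h4⟩ : ∃ σ : Equiv.Perm (Fin 5), σ 0 = 3 ∧ σ 1 = 4 ∧ σ 2 = 0 ∧ σ 3 = 1 ∧ σ 4 = 2 := by
    decide +kernel
  obtain ⟨u, huP, hu⟩ := five.std.toFv.full σ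
  have hPQ : P ≤ normalizer (o2 P : Set G) := ZN.le_normalizer_o2 P
  have hPG : P ≤ GX (S : Subgroup G) P Y := wy.P_le
  have uQ := hPQ huP
  have uL : u ∈ normalizer (zl (S : Subgroup G) P : Set G) := ZN.le_normalizer_zl _ _ huP
  have hq : (fun i => u * p i * u⁻¹) = ![p 3, p 4, p 0, p 1, p 2] := by
    funext i
    rw [hu]
    fin_cases i
    · simp [h0]
    · simp [h1]
    · simp [h2]
    · simp [h3]
    · simp [h4]
  have y' := y.conj uQ uL
  rw [hq] at y'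
  obtain ⟨A, hA, hAQ, hAY⟩ := fm.act
  have c : Fc S P Y V 𝓕 p (cj u K) (cj u W) (cj u F) (cj u R) (u * g * u⁻¹) (u * h * u⁻¹) :=
    { five := five
      wq := ⟨T, wy⟩
      fm := fm
      KG := by
        have h5 := cj_mono u (KY.trans wy.Y_le)
        rwa [cj_eq_of_mem_normalizer (le_normalizer (hPG huP))] at h5
      y := y'
      act := ⟨cj u A, fm.cj A hA u (hPG huP), by
        have h5 := cj_mono u hAQ
        rwa [cj_eq_of_mem_normalizer uQ] at h5, fun h5 => by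
        have h6 := cj_mono u⁻¹ h5
        rw [cj_inv_cj, cj_centralizer, cj_inv_cj] at h6
        exact mvW A hAQ hAY h6⟩ }
  exact c.false

/-- **One `S₅` in (TOR') is impossible**, over the facts at `Y`. -/
theorem TorS.false_of (t : TorS S P p Y)
    (hy : ∃ (K W F R : Subgroup G) (g h : G), K ≤ Y ∧ Y5 (o2 P) (zl (S : Subgroup G) P) K W F R g h p ∧
      ∀ A ≤ o2 P, ¬ A ≤ o2 Y → ¬ A ≤ centralizer (W : Set G)) : False := by
  obtain ⟨K, W, F, R, g, h, KY, y, mvW⟩ := hy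
  obtain ⟨V, 𝓕, fm⟩ := t.fam
  exact SFive.false_of t.five t.wy.toWQ fm KY y mvW

end c

end Cfsg.Agent.Omega.NO3S.WY.Tor.SFive
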