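import Cfsg.Agent.Omega.FFThmM
import Cfsg.Agent.Omega.NO3S.WY.OddKer

/-!
# THEOREM TOR: the five lines of one natural `SL₂(4)`-block

`N : NatK F T H V D 1`, `e = N.e · 0 : V → F²` with kernel `D`.

* `On o x` : `x ∈ F²` lies on the point `o : Option F` of the projective line; `LL N o` the line in `V`;
* `exists_cj` : `H` permutes the lines;
* `ker_triv` : `y ∈ H` which fixes all lines acts trivially on `V / D`;
* **`act`** (`|F| = 4`): for an `H`-invariant `W ≤ V` with `W D = V` the five lines of `W / (W ∩ D)`, the homomorphism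
  `π : H → Sym 5`, `A₅ ≤ π(H)`, the kernel is trivial on `W / (W ∩ D)`.
-/

set_option autoImplicit false
set_option linter.unusedSectionVars false

namespace Cfsg.Agent.Omega.NO3S.WY.Tor.Act

open Subgroup Cfsg Cfsg.Agent.ZN Cfsg.Agent.ZN.ChoiceBase
open Cfsg.Agent.Omega.FFThm (NatK NatKM ActsSL)
open Cfsg.Agent.Omega.NatPair (ap ap_zero' ap_one' ap_mul ap_one ap_add ap_smul ap_inv_ap ap_ap_inv ext2)
open Cfsg.Agent.Lib.SL2Mat

universe u

section proj

variable {F : Type} [Field F]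

/-- `x` lies on the point `o` of the projective line -/
def On (o : Option F) (x : Fin 2 → F) : Prop := match o with
  | none => x 1 = 0
  | some c => x 0 = c * x 1

theorem on_none {x : Fin 2 → F} : On none x ↔ x 1 = 0 := Iff.rfl

theorem on_some {c : F} {x : Fin 2 → F} : On (some c) x ↔ x 0 = c * x 1 := Iff.rfl

theorem on_zero (o : Option F) : On o 0 := by
  cases o with
  | none => rfl
  | some c => rw [on_some]; simp

theorem on_add {o : Option F} {x y : Fin 2 → F} (hx : On o x) (hy : On o y) : On o (x + y) := by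
  cases o with
  | none => rw [on_none] at *; rw [Pi.add_apply, hx, hy, add_zero]
  | some c => rw [on_some] at *; rw [Pi.add_apply, Pi.add_apply, hx, hy, mul_add]

theorem on_neg {o : Option F} {x : Fin 2 → F} (hx : On o x) : On o (-x) := by
  cases o with
  | none => rw [on_none] at *; rw [Pi.neg_apply, hx, neg_zero]
  | some c => rw [on_some] at *; rw [Pi.neg_apply, Pi.neg_apply, hx, mul_neg]

theorem on_unique {o o' : Option F} {x : Fin 2 → F} (h : o ≠ o') (hx : On o x) (hx' : On o' x) : x = 0 := by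
  cases o with
  | none =>
    cases o' with
    | none => exact absurd rfl h
    | some c =>
      rw [on_none] at hx
      rw [on_some, hx, mul_zero] at hx'
      exact ext2 hx' hx
  | some c =>
    cases o' with
    | none =>
      rw [on_none] at hx'
      rw [on_some, hx', mul_zero] at hx
      exact ext2 hx hx'
    | some c' =>
      rw [on_some] at hx hx'
      have h1 : c ≠ c' := fun e => h (by rw [e])
      have h2 : (c - c') * x 1 = 0 := by rw [sub_mul, ← hx, ← hx', sub_self]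
      have h3 : x 1 = 0 := (mul_eq_zero.1 h2).resolve_left (sub_ne_zero.2 h1)
      rw [h3, mul_zero] at hx
      exact ext2 hx h3

/-- a vector on the point `o` -/
def vec (o : Option F) : Fin 2 → F := match o with
  | none => ![1, 0]
  | some c => ![c, 1]

theorem on_vec (o : Option F) : On o (vec o) := by
  cases o with
  | none => rfl
  | some c => show c = c * 1; rw [mul_one]

theorem vec_ne (o : Option F) : vec o ≠ 0 := by
  cases o with
  | none => exact fun h => one_ne_zero (congrFun h 0)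
  | some c => exact fun h => one_ne_zero (congrFun h 1)

theorem on_ap (A : Matrix.SpecialLinearGroup (Fin 2) F) (o : Option F) : ∃ o', ∀ x, On o x → On o' (ap A x) := by
  cases o with
  | none =>
    by_cases hc : ent A 1 0 = 0
    · refine ⟨none, fun x hx => ?_⟩
      rw [on_none] at *
      rw [ap_one', hc, hx]; ring
    · refine ⟨some (ent A 0 0 / ent A 1 0), fun x hx => ?_⟩
      rw [on_none] at hx
      rw [on_some, ap_zero', ap_one', hx]
      field_simp
      ring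
  | some t =>
    by_cases hc : ent A 1 0 * t + ent A 1 1 = 0
    · refine ⟨none, fun x hx => ?_⟩
      rw [on_some] at hx
      rw [on_none, ap_one', hx]
      linear_combination x 1 * hc
    · refine ⟨some ((ent A 0 0 * t + ent A 0 1) / (ent A 1 0 * t + ent A 1 1)), fun x hx => ?_⟩
      rw [on_some] at hx
      rw [on_some, ap_zero', ap_one', hx, div_mul_eq_mul_div, eq_div_iff hc]
      ring

end proj

section lines

variable {G : Type u} [Group G] {F : Type} [Field F] {T H V D : Subgroup G}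

theorem e_one (N : NatK F T H V D 1) : N.e 1 = 0 := by
  have h := N.mul 1 (one_mem _) 1 (one_mem _)
  rw [mul_one] at h
  exact left_eq_add.1 h

theorem e_inv (N : NatK F T H V D 1) {v : G} (hv : v ∈ V) : N.e v⁻¹ = - N.e v := by
  have h := N.mul v hv v⁻¹ (inv_mem hv)
  rw [mul_inv_cancel, e_one N] at h
  exact eq_neg_of_add_eq_zero_right h.symm

theorem e_mul (N : NatK F T H V D 1) {v w : G} (hv : v ∈ V) (hw : w ∈ V) : N.e (v * w) 0 = N.e v 0 + N.e w 0 := by
  rw [N.mul v hv w hw]; rfl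

theorem mem_D (N : NatK F T H V D 1) {v : G} (hv : v ∈ V) : v ∈ D ↔ N.e v 0 = 0 := by
  rw [← N.ker v hv]
  constructor
  · intro h; rw [h]; rfl
  · intro h
    funext i
    rw [Subsingleton.elim i 0, h]; rfl

theorem exists_e (N : NatK F T H V D 1) (x : Fin 2 → F) : ∃ v ∈ V, N.e v 0 = x := by
  obtain ⟨v, hv, h⟩ := N.surj fun _ => x
  exact ⟨v, hv, by rw [h]⟩

/-- the line `o` in `V` -/
def LL (N : NatK F T H V D 1) (o : Option F) : Subgroup G where
  carrier := {v | v ∈ V ∧ On o (N.e v 0)}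
  one_mem' := ⟨one_mem _, by rw [e_one N]; exact on_zero o⟩
  mul_mem' := by
    rintro a b ⟨ha, ha'⟩ ⟨hb, hb'⟩
    exact ⟨mul_mem ha hb, by rw [e_mul N ha hb]; exact on_add ha' hb'⟩
  inv_mem' := by
    rintro a ⟨ha, ha'⟩
    exact ⟨inv_mem ha, by rw [e_inv N ha]; exact on_neg ha'⟩

theorem mem_LL (N : NatK F T H V D 1) {o : Option F} {v : G} : v ∈ LL N o ↔ v ∈ V ∧ On o (N.e v 0) := Iff.rfl

theorem LL_le_of (N : NatK F T H V D 1) {o o' : Option F} (h : LL N o ≤ LL N o') : o = o' := by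
  by_contra hne
  obtain ⟨v, hv, he⟩ := exists_e N (vec o)
  have h1 := (h ((mem_LL N).2 ⟨hv, by rw [he]; exact on_vec o⟩)).2
  rw [he] at h1
  exact vec_ne o (on_unique hne (on_vec o) h1)

theorem LL_inj (N : NatK F T H V D 1) {o o' : Option F} (h : LL N o = LL N o') : o = o' := LL_le_of N h.le

/-- `g` acts as `A` on `V / D` -/
def Acts (N : NatK F T H V D 1) (g : G) (A : Matrix.SpecialLinearGroup (Fin 2) F) : Prop :=
  ∀ v ∈ V, N.e (g * v * g⁻¹) 0 = ap A (N.e v 0)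

theorem Acts.of (N : NatK F T H V D 1) {g : G} {A : Fin 1 → Matrix.SpecialLinearGroup (Fin 2) F}
    (h : ActsSL N.e V D g A) : Acts N g (A 0) := fun v hv => h.1 v hv 0

theorem conj_V {g v : G} (hg : g ∈ normalizer (V : Set G)) (hv : v ∈ V) : g * v * g⁻¹ ∈ V :=
  (mem_normalizer_iff.1 hg v).1 hv

theorem conj_V' {g v : G} (hg : g ∈ normalizer (V : Set G)) (hv : v ∈ V) : g⁻¹ * v * g ∈ V := by
  have := conj_V (inv_mem hg) hv
  rwa [inv_inv] at this

theorem Acts.mul {N : NatK F T H V D 1} {g h : G} {A B : Matrix.SpecialLinearGroup (Fin 2) F}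
    (hg : Acts N g A) (hh : Acts N h B) (hn : h ∈ normalizer (V : Set G)) : Acts N (g * h) (A * B) := by
  intro v hv
  have e : g * h * v * (g * h)⁻¹ = g * (h * v * h⁻¹) * g⁻¹ := by group
  rw [e, hg _ (conj_V hn hv), hh v hv, ap_mul]

theorem Acts.inv {N : NatK F T H V D 1} {g : G} {A : Matrix.SpecialLinearGroup (Fin 2) F}
    (hg : Acts N g A) (hn : g ∈ normalizer (V : Set G)) : Acts N g⁻¹ A⁻¹ := by
  intro v hv
  have h1 := hg _ (conj_V' hn hv)
  have e : g * (g⁻¹ * v * g) * g⁻¹ = v := by group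
  rw [e] at h1
  rw [h1, ap_inv_ap, inv_inv]

/-- conjugation by an element of `H`, if both act in `SL₂(F)` -/
theorem Acts.conj {N : NatK F T H V D 1} {g h : G} (hg : g ∈ H) (hh : h ∈ H)
    {A : Matrix.SpecialLinearGroup (Fin 2) F} (hA : Acts N h A) : ∃ B, Acts N (g * h * g⁻¹) B := by
  obtain ⟨B, hB⟩ := N.norm g hg h hh (fun _ => A) fun v hv i => by
    rw [Subsingleton.elim i 0]
    exact hA v hv
  exact ⟨B 0, fun v hv => hB v hv 0⟩

theorem Acts.cj {N : NatK F T H V D 1} {g : G} {A : Matrix.SpecialLinearGroup (Fin 2) F} (hA : Acts N g A)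
    (hn : g ∈ normalizer (V : Set G)) (o : Option F) : ∃ o', ChoiceBase.cj g (LL N o) = LL N o' := by
  have key : ∀ {g : G} {A : Matrix.SpecialLinearGroup (Fin 2) F}, Acts N g A → g ∈ normalizer (V : Set G) →
      ∀ o, ∃ o', ChoiceBase.cj g (LL N o) ≤ LL N o' := by
    intro g A hA hn o
    obtain ⟨o', ho'⟩ := on_ap A o
    refine ⟨o', ?_⟩
    rintro _ ⟨v, ⟨hv, hvo⟩, rfl⟩
    refine ⟨conj_V hn hv, ?_⟩
    change On o' (N.e (g * v * g⁻¹) 0)
    rw [hA v hv]
    exact ho' _ hvo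
  obtain ⟨o', h1⟩ := key hA hn o
  obtain ⟨o'', h2⟩ := key (hA.inv hn) (inv_mem hn) o'
  have h3 : LL N o ≤ ChoiceBase.cj g⁻¹ (LL N o') := by
    have := cj_mono g⁻¹ h1
    rwa [cj_inv_cj] at this
  have h4 := LL_le_of N (h3.trans h2)
  rw [← h4] at h2
  have h5 := cj_mono g h2
  rw [cj_cj_inv] at h5
  exact ⟨o', le_antisymm h1 h5⟩

variable (N : NatK F T H V D 1)

theorem T_none (HV : H ≤ normalizer (V : Set G)) (TH : T ≤ H) {t : G} (ht : t ∈ T) :
    cj t (LL N none) = LL N none := by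
  obtain ⟨σ, hσ⟩ := N.line t ht
  have hn := HV (TH ht)
  have h0 : ∀ v ∈ V, N.e (t * v * t⁻¹) 0 1 = 0 ↔ N.e v 0 1 = 0 := fun v hv => by
    have := hσ v hv 0
    rwa [Subsingleton.elim (σ 0) 0] at this
  ext v
  rw [mem_cj, mem_LL, mem_LL, on_none, on_none]
  constructor
  · rintro ⟨h1, h2⟩
    have h3 : v ∈ V := by
      have := conj_V hn h1
      have e : t * (t⁻¹ * v * t) * t⁻¹ = v := by group
      rwa [e] at this
    have h4 := h0 _ h1
    have e : t * (t⁻¹ * v * t) * t⁻¹ = v := by group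
    rw [e] at h4
    exact ⟨h3, h4.2 h2⟩
  · rintro ⟨h1, h2⟩
    have h3 := conj_V' hn h1
    have h4 := h0 _ h3
    have e : t * (t⁻¹ * v * t) * t⁻¹ = v := by group
    rw [e] at h4
    exact ⟨h3, h4.1 h2⟩

/-- an element of `H` acting in `SL₂(F)` which moves the point `none` to `o` -/
theorem exists_mv (HV : H ≤ normalizer (V : Set G)) (o : Option F) :
    ∃ g ∈ H, (∃ A, Acts N g A) ∧ cj g (LL N none) = LL N o := by
  cases o with
  | none => exact ⟨1, one_mem _, ⟨1, fun v _ => by rw [one_mul, inv_one, mul_one, ap_one]⟩, cj_one _⟩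
  | some c =>
    obtain ⟨g, hg, hA⟩ := N.lift fun _ => mk c (-1) 1 0 (by ring)
    have hA' := Acts.of N hA
    obtain ⟨o', ho'⟩ := hA'.cj (HV hg) none
    refine ⟨g, hg, ⟨_, hA'⟩, ?_⟩
    rw [ho']
    congr 1
    obtain ⟨v, hv, he⟩ := exists_e N (vec none)
    have h1 : v ∈ LL N none := (mem_LL N).2 ⟨hv, by rw [he]; exact on_vec none⟩
    have h2 : g * v * g⁻¹ ∈ LL N o' := by rw [← ho']; exact ⟨v, h1, rfl⟩
    have h3 : N.e (g * v * g⁻¹) 0 = vec (some c) := by
      rw [hA' v hv, he]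
      apply ext2
      · rw [ap_zero']; simp [vec]
      · rw [ap_one']; simp [vec]
    have h4 := h2.2
    rw [h3] at h4
    by_contra hne
    exact vec_ne _ (on_unique hne h4 (on_vec (some c)))

/-- **`H` permutes the lines** -/
theorem exists_cj [Finite G] (HV : H ≤ normalizer (V : Set G)) (TH : T ≤ H) {y : G} (hy : y ∈ H) (o : Option F) :
    ∃ o', cj y (LL N o) = LL N o' := by
  have hmul : ∀ a b : G, (∀ o, ∃ o', cj a (LL N o) = LL N o') → (∀ o, ∃ o', cj b (LL N o) = LL N o') →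
      ∀ o, ∃ o', cj (a * b) (LL N o) = LL N o' := by
    intro a b ha hb o
    obtain ⟨o', h1⟩ := hb o
    obtain ⟨o'', h2⟩ := ha o'
    exact ⟨o'', by rw [← cj_cj, h1, h2]⟩
  have hone : ∀ o, ∃ o', cj (1 : G) (LL N o) = LL N o' := fun o => ⟨o, cj_one _⟩
  let K : Subgroup G :=
    { carrier := {y | y ∈ H ∧ ∀ o, ∃ o', cj y (LL N o) = LL N o'}
      one_mem' := ⟨one_mem _, hone⟩
      mul_mem' := fun {a b} ha hb => ⟨mul_mem ha.1 hb.1, hmul a b ha.2 hb.2⟩
      inv_mem' := by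
        rintro a ⟨ha, ha'⟩
        refine ⟨inv_mem ha, ?_⟩
        have hpow : ∀ n : ℕ, ∀ o, ∃ o', cj (a ^ n) (LL N o) = LL N o' := by
          intro n
          induction n with
          | zero => rw [pow_zero]; exact hone
          | succ n ih => rw [pow_succ]; exact hmul _ _ ih ha'
        have e : a⁻¹ = a ^ (orderOf a - 1) := by
          have h1 : a ^ (orderOf a - 1) * a = 1 := by
            rw [← pow_succ, Nat.sub_add_cancel (orderOf_pos a), pow_orderOf_eq_one]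
          exact inv_eq_of_mul_eq_one_left h1
        rw [e]
        exact hpow _ }
  have hTK : T ≤ K := by
    intro t ht
    refine ⟨TH ht, fun o => ?_⟩
    obtain ⟨g, hg, ⟨A, hA⟩, hgo⟩ := exists_mv N HV o
    obtain ⟨B, hB⟩ := hA.conj (TH ht) hg
    obtain ⟨o', ho'⟩ := hB.cj (HV (mul_mem (mul_mem (TH ht) hg) (inv_mem (TH ht)))) none
    refine ⟨o', ?_⟩
    have e : t * g = (t * g * t⁻¹) * t := by group
    calc cj t (LL N o) = cj (t * g) (LL N none) := by rw [← hgo, cj_cj]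
      _ = cj (t * g * t⁻¹) (cj t (LL N none)) := by rw [cj_cj, ← e]
      _ = LL N o' := by rw [T_none N HV TH ht, ho']
  exact ((N.gen K hTK fun g hg A hA => ⟨hg, (Acts.of N hA).cj (HV hg)⟩) hy).2 o

/-- every element of `H` acts as an element of `T` times an element of `SL₂(F)` -/
theorem exists_TA (HV : H ≤ normalizer (V : Set G)) (TH : T ≤ H) {y : G} (hy : y ∈ H) :
    ∃ t ∈ T, ∃ A, Acts N (t⁻¹ * y) A := by
  let K : Subgroup G :=
    { carrier := {y | y ∈ H ∧ ∃ t ∈ T, ∃ A, Acts N (t⁻¹ * y) A}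
      one_mem' := ⟨one_mem _, 1, one_mem _, 1, fun v _ => by simp [ap_one]⟩
      mul_mem' := by
        rintro a b ⟨ha, s, hs, A, hA⟩ ⟨hb, t, ht, B, hB⟩
        refine ⟨mul_mem ha hb, s * t, mul_mem hs ht, ?_⟩
        obtain ⟨C, hC⟩ := hA.conj (inv_mem (TH ht)) (mul_mem (inv_mem (TH hs)) ha)
        refine ⟨C * B, ?_⟩
        have e : (s * t)⁻¹ * (a * b) = (t⁻¹ * (s⁻¹ * a) * t⁻¹⁻¹) * (t⁻¹ * b) := by group
        rw [e]
        exact hC.mul hB (HV (mul_mem (inv_mem (TH ht)) hb))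
      inv_mem' := by
        rintro a ⟨ha, t, ht, A, hA⟩
        refine ⟨inv_mem ha, t⁻¹, inv_mem ht, ?_⟩
        have hn := mul_mem (inv_mem (TH ht)) ha
        obtain ⟨C, hC⟩ := (hA.inv (HV hn)).conj (TH ht) (inv_mem hn)
        refine ⟨C, ?_⟩
        have e : t⁻¹⁻¹ * a⁻¹ = t * (t⁻¹ * a)⁻¹ * t⁻¹ := by group
        rw [e]
        exact hC }
  have h1 : T ≤ K := fun t ht => ⟨TH ht, t, ht, 1, fun v _ => by simp [ap_one]⟩
  exact ((N.gen K h1 fun g hg A hA => ⟨hg, 1, one_mem _, A 0, by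
    rw [inv_one, one_mul]; exact Acts.of N hA⟩) hy).2

/-- `e (y v y⁻¹)` depends on `e v` only -/
theorem e_congr (HV : H ≤ normalizer (V : Set G)) {y u v : G} (hy : y ∈ H) (hu : u ∈ V) (hv : v ∈ V)
    (h : N.e u 0 = N.e v 0) : N.e (y * u * y⁻¹) 0 = N.e (y * v * y⁻¹) 0 := by
  obtain ⟨σ, hσ⟩ := N.perm y hy
  have h1 : u * v⁻¹ ∈ V := mul_mem hu (inv_mem hv)
  have h2 : N.e (u * v⁻¹) 0 = 0 := by
    rw [e_mul N hu (inv_mem hv), e_inv N hv, Pi.neg_apply, h, add_neg_cancel]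
  have h3 := (hσ _ h1 0).2 h2
  rw [Subsingleton.elim (σ 0) 0] at h3
  have e : y * (u * v⁻¹) * y⁻¹ = (y * u * y⁻¹) * (y * v * y⁻¹)⁻¹ := by group
  have hu' := conj_V (HV hy) hu
  have hv' := conj_V (HV hy) hv
  rw [e, e_mul N hu' (inv_mem hv'), e_inv N hv', Pi.neg_apply] at h3
  exact add_neg_eq_zero.1 h3

/-- an element which fixes all lines acts as a scalar -/
theorem exists_scalar (HV : H ≤ normalizer (V : Set G)) {y : G} (hy : y ∈ H)
    (hf : ∀ o, cj y (LL N o) = LL N o) : ∃ s : F, ∀ v ∈ V, N.e (y * v * y⁻¹) 0 = s • N.e v 0 := by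
  have hon : ∀ o, ∀ v ∈ V, On o (N.e v 0) → On o (N.e (y * v * y⁻¹) 0) := by
    intro o v hv ho
    have h1 : y * v * y⁻¹ ∈ LL N o := by
      rw [← hf o]; exact ⟨v, (mem_LL N).2 ⟨hv, ho⟩, rfl⟩
    exact h1.2
  choose a haV ha using fun c : F => exists_e N ![c, 0]
  choose b hbV hb using fun c : F => exists_e N ![0, c]
  have ha1 : ∀ c, N.e (y * a c * y⁻¹) 0 1 = 0 := fun c => on_none.1 (hon none _ (haV c) (by rw [ha c]; rfl))
  have hb1 : ∀ c, N.e (y * b c * y⁻¹) 0 0 = 0 := fun c => by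
    have := on_some.1 (hon (some 0) _ (hbV c) (by rw [hb c, on_some]; simp))
    rwa [zero_mul] at this
  have hmul : ∀ c d, N.e (y * (a c * b d) * y⁻¹) 0 = N.e (y * a c * y⁻¹) 0 + N.e (y * b d * y⁻¹) 0 := by
    intro c d
    have e : y * (a c * b d) * y⁻¹ = (y * a c * y⁻¹) * (y * b d * y⁻¹) := by group
    rw [e, e_mul N (conj_V (HV hy) (haV c)) (conj_V (HV hy) (hbV d))]
  have hab : ∀ c d, N.e (a c * b d) 0 = ![c, d] := by
    intro c d
    rw [e_mul N (haV c) (hbV d), ha, hb]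
    apply ext2 <;> simp
  have h1 : ∀ c, N.e (y * a c * y⁻¹) 0 0 = N.e (y * b c * y⁻¹) 0 1 := by
    intro c
    have h2 := on_some.1 (hon (some 1) _ (mul_mem (haV c) (hbV c)) (by rw [hab, on_some]; simp))
    rw [hmul, Pi.add_apply, Pi.add_apply, hb1, ha1, add_zero, zero_add, one_mul] at h2
    exact h2
  have h2 : ∀ c, N.e (y * a c * y⁻¹) 0 0 = c * N.e (y * b 1 * y⁻¹) 0 1 := by
    intro c
    have h3 := on_some.1 (hon (some c) _ (mul_mem (haV c) (hbV 1)) (by rw [hab, on_some]; simp))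
    rw [hmul, Pi.add_apply, Pi.add_apply, hb1, ha1, add_zero, zero_add] at h3
    exact h3
  refine ⟨N.e (y * b 1 * y⁻¹) 0 1, fun v hv => ?_⟩
  have h3 : N.e v 0 = N.e (a (N.e v 0 0) * b (N.e v 0 1)) 0 := by
    rw [hab]
    apply ext2 <;> simp
  rw [e_congr N HV hy hv (mul_mem (haV _) (hbV _)) h3, hmul]
  apply ext2
  · rw [Pi.add_apply, hb1, add_zero, h2, Pi.smul_apply, smul_eq_mul, mul_comm]
  · rw [Pi.add_apply, ha1, zero_add, ← h1, h2, Pi.smul_apply, smul_eq_mul, mul_comm]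

/-- **an element which fixes all lines is trivial on `V / D`** -/
theorem ker_triv [Finite G] [CharP F 2] (HV : H ≤ normalizer (V : Set G)) (TH : T ≤ H) (T2 : IsPGroup 2 T) {y : G}
    (hy : y ∈ H) (hf : ∀ o, cj y (LL N o) = LL N o) {v : G} (hv : v ∈ V) : N.e (y * v * y⁻¹) 0 = N.e v 0 := by
  obtain ⟨s, hs⟩ := exists_scalar N HV hy hf
  obtain ⟨t, ht, A, hA⟩ := exists_TA N HV TH hy
  have htn := HV (TH ht)
  have hgn : t⁻¹ * y ∈ normalizer (V : Set G) := HV (mul_mem (inv_mem (TH ht)) hy)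
  have hA' := hA.inv hgn
  -- `t` acts as `s A⁻¹`
  have h1 : ∀ v ∈ V, N.e (t * v * t⁻¹) 0 = s • ap A⁻¹ (N.e v 0) := by
    intro v hv
    have e : t * v * t⁻¹ = y * ((t⁻¹ * y)⁻¹ * v * (t⁻¹ * y)⁻¹⁻¹) * y⁻¹ := by group
    rw [e, hs _ (conj_V (inv_mem hgn) hv), hA' v hv]
  have h2 : ∀ n : ℕ, ∀ v ∈ V, N.e (t ^ n * v * (t ^ n)⁻¹) 0 = s ^ n • ap (A⁻¹ ^ n) (N.e v 0) := by
    intro n
    induction n with
    | zero => intro v _; rw [pow_zero, pow_zero, pow_zero, ap_one, one_smul]; simp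
    | succ n ih =>
      intro v hv
      have e : t ^ (n + 1) * v * (t ^ (n + 1))⁻¹ = t * (t ^ n * v * (t ^ n)⁻¹) * t⁻¹ := by rw [pow_succ']; group
      rw [e, h1 _ (conj_V (pow_mem htn n) hv), ih v hv, ap_smul, smul_smul, ← ap_mul, ← pow_succ', ← pow_succ']
  obtain ⟨k, hk⟩ := T2 ⟨t, ht⟩
  have hk' : t ^ 2 ^ k = 1 := congrArg Subtype.val hk
  set C := A⁻¹ ^ 2 ^ k with hC
  set σ := s ^ 2 ^ k with hσ
  have h3 : ∀ x : Fin 2 → F, σ • ap C x = x := by
    intro x
    obtain ⟨v, hv, rfl⟩ := exists_e N x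
    have h4 := h2 (2 ^ k) v hv
    rw [hk'] at h4
    rw [← h4]; simp
  have e1 := congrFun (h3 ![1, 0]) 0
  have e2 := congrFun (h3 ![1, 0]) 1
  have e3 := congrFun (h3 ![0, 1]) 0
  have e4 := congrFun (h3 ![0, 1]) 1
  simp only [Pi.smul_apply, smul_eq_mul, ap_zero', ap_one', Matrix.cons_val_zero, Matrix.cons_val_one, mul_one,
    mul_zero, add_zero, zero_add] at e1 e2 e3 e4
  have hd := det_eq C
  have h5 : σ ^ 2 = 1 := by
    have : σ ^ 2 * (ent C 0 0 * ent C 1 1 - ent C 0 1 * ent C 1 0) = 1 := by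
      have e5 : σ ^ 2 * (ent C 0 0 * ent C 1 1 - ent C 0 1 * ent C 1 0) =
          (σ * ent C 0 0) * (σ * ent C 1 1) - (σ * ent C 0 1) * (σ * ent C 1 0) := by ring
      rw [e5, e1, e2, e3, e4]; ring
    rwa [hd, mul_one] at this
  have h6 : s ^ (2 ^ (k + 1) * 1) = 1 := by
    rw [mul_one, pow_succ, pow_mul]; exact h5
  have h7 : s = 1 := by
    have : Fact (Nat.Prime 2) := ⟨Nat.prime_two⟩
    have h8 : iterateFrobenius F 2 (k + 1) s = iterateFrobenius F 2 (k + 1) 1 := by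
      rw [iterateFrobenius_def, iterateFrobenius_def, one_pow]
      rwa [mul_one] at h6
    exact iterateFrobenius_inj F 2 (k + 1) h8
  rw [hs v hv, h7, one_smul]

end lines

/-! ### The permutation representation -/

section five

open Cfsg.Agent.Omega.NO3S.WY.OddKer (sb tb v0_of alt_le)

variable {G : Type u} [Group G] [Finite G] {F : Type} [Field F] {T H V D : Subgroup G} (N : NatK F T H V D 1)

/-- the labels `0 .. 4` of the points, `0` is the point `none` -/
theorem exists_lab (h4 : Nat.card F = 4) : ∃ ε : Fin 5 ≃ Option F, ε 0 = none := by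
  have : Finite F := Nat.finite_of_card_ne_zero (by rw [h4]; norm_num)
  refine ⟨(finSuccEquiv 4).trans (Equiv.optionCongr (Finite.equivFinOfCardEq h4).symm), ?_⟩
  simp

/-- the action on the labels -/
theorem exists_pi (HV : H ≤ normalizer (V : Set G)) (TH : T ≤ H) (ε : Fin 5 ≃ Option F) :
    ∃ π : ↥H →* Equiv.Perm (Fin 5), ∀ (y : ↥H) a, cj (y : G) (LL N (ε a)) = LL N (ε (π y a)) := by
  choose f hf using fun (y : ↥H) (o : Option F) => exists_cj N HV TH y.2 o
  have f1 : ∀ o, f 1 o = o := fun o => LL_inj N (by rw [← hf]; simp [cj_one])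
  have fm : ∀ x y o, f (x * y) o = f x (f y o) := fun x y o => LL_inj N (by
    rw [← hf, ← hf, ← hf, cj_cj]; rfl)
  let act : MulAction ↥H (Fin 5) :=
    { smul := fun y a => ε.symm (f y (ε a))
      one_smul := fun a => by
        change ε.symm (f 1 (ε a)) = a
        rw [f1, Equiv.symm_apply_apply]
      mul_smul := fun x y a => by
        change ε.symm (f (x * y) (ε a)) = ε.symm (f x (ε (ε.symm (f y (ε a)))))
        rw [fm, Equiv.apply_symm_apply] }
  refine ⟨@MulAction.toPermHom ↥H (Fin 5) _ act, fun y a => ?_⟩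
  have h1 : @MulAction.toPermHom ↥H (Fin 5) _ act y a = ε.symm (f y (ε a)) := rfl
  rw [h1, Equiv.apply_symm_apply]
  exact hf y (ε a)

theorem up_none {b : F} {x : Fin 2 → F} (hx : On none x) : On none (ap (up b) x) := by
  rw [on_none] at *
  rw [ap_one', hx]; simp

theorem up_some {b c : F} {x : Fin 2 → F} (hx : On (some c) x) : On (some (c + b)) (ap (up b) x) := by
  rw [on_some] at *
  rw [ap_zero', ap_one', hx]; simp; ring

/-- if `g` acts as `A` and `A` maps the point `o` to `o'`, then `g` maps the line `o` to `o'` -/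
theorem cj_eq_of (HV : H ≤ normalizer (V : Set G)) {g : G} (hg : g ∈ H) {A : Matrix.SpecialLinearGroup (Fin 2) F}
    (hA : Acts N g A) {o o' : Option F} (h : ∀ x, On o x → On o' (ap A x)) : cj g (LL N o) = LL N o' := by
  obtain ⟨o'', h1⟩ := hA.cj (HV hg) o
  have h2 : cj g (LL N o) ≤ LL N o' := by
    rintro _ ⟨v, ⟨hv, hvo⟩, rfl⟩
    refine ⟨conj_V (HV hg) hv, ?_⟩
    change On o' (N.e (g * v * g⁻¹) 0)
    rw [hA v hv]
    exact h _ hvo
  rw [h1] at h2
  rw [h1, LL_le_of N h2]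

theorem alt_range [CharP F 2] (HV : H ≤ normalizer (V : Set G)) {ε : Fin 5 ≃ Option F} (hε : ε 0 = none)
    {π : ↥H →* Equiv.Perm (Fin 5)} (hπ : ∀ (y : ↥H) a, cj (y : G) (LL N (ε a)) = LL N (ε (π y a))) :
    alternatingGroup (Fin 5) ≤ π.range := by
  have hpi : ∀ (y : ↥H) a o, cj (y : G) (LL N (ε a)) = LL N o → ε (π y a) = o := fun y a o h =>
    LL_inj N (by rw [← hπ, h])
  let R : Subgroup ↥H :=
    { carrier := {y | ∃ b, Acts N (y : G) (up b)}
      one_mem' := ⟨0, fun v _ => by rw [up_zero, ap_one]; simp⟩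
      mul_mem' := by
        rintro x y ⟨b, hb⟩ ⟨c, hc⟩
        exact ⟨b + c, by rw [← up_mul]; exact hb.mul hc (HV y.2)⟩
      inv_mem' := by
        rintro x ⟨b, hb⟩
        exact ⟨-b, by rw [← up_inv]; exact hb.inv (HV x.2)⟩ }
  have hR0 : ∀ y ∈ R, π y 0 = 0 := by
    rintro y ⟨b, hb⟩
    apply ε.injective
    rw [hε]
    refine hpi y 0 none ?_
    rw [hε]
    exact cj_eq_of N HV y.2 hb fun x hx => up_none hx
  have hR1 : ∀ y ∈ R, π y * π y = 1 := by
    rintro y ⟨b, hb⟩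
    rw [← map_mul]
    ext a
    have h1 : ε (π (y * y) a) = ε a := hpi (y * y) a (ε a) (by
      refine cj_eq_of N HV (mul_mem y.2 y.2) (hb.mul hb (HV y.2)) fun x hx => ?_
      rw [up_mul, CharTwo.add_self_eq_zero, up_zero, ap_one]
      exact hx)
    rw [ε.injective h1]; rfl
  have htr : ∀ i : Fin 5, i ≠ 0 → ∀ j : Fin 5, j ≠ 0 → ∃ y ∈ R, π y i = j := by
    intro i hi j hj
    obtain ⟨c, hc⟩ : ∃ c, ε i = some c := by
      cases h : ε i with
      | none => exact absurd (ε.injective (h.trans hε.symm)) hi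
      | some c => exact ⟨c, rfl⟩
    obtain ⟨d, hd⟩ : ∃ d, ε j = some d := by
      cases h : ε j with
      | none => exact absurd (ε.injective (h.trans hε.symm)) hj
      | some c => exact ⟨c, rfl⟩
    obtain ⟨g, hg, hA⟩ := N.lift fun _ => up (d - c)
    have hA' := Acts.of N hA
    refine ⟨⟨g, hg⟩, ⟨_, hA'⟩, ε.injective ?_⟩
    rw [hd]
    refine hpi ⟨g, hg⟩ i _ ?_
    rw [hc]
    refine cj_eq_of N HV hg hA' fun x hx => ?_
    have := up_some (b := d - c) hx
    rwa [add_sub_cancel] at this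
  obtain ⟨h1, h2, -⟩ := v0_of (X := R.map π) (by rintro _ ⟨x, hx, rfl⟩; exact hR0 x hx)
    (by rintro _ ⟨x, hx, rfl⟩; exact hR1 x hx) (fun i hi j hj => by
      obtain ⟨y, hy, hyi⟩ := htr i hi j hj
      exact ⟨π y, ⟨y, hy, rfl⟩, hyi⟩)
  have hsb : sb ∈ π.range := by obtain ⟨x, _, hx⟩ := h1; exact ⟨x, hx⟩
  have htb : tb ∈ π.range := by obtain ⟨x, _, hx⟩ := h2; exact ⟨x, hx⟩
  obtain ⟨g, hg, -, hgo⟩ := exists_mv N HV (some 0)
  have hmv : π ⟨g, hg⟩ 0 ≠ 0 := by
    intro h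
    have h3 := hpi ⟨g, hg⟩ 0 (some 0) (by rw [hε]; exact hgo)
    rw [h, hε] at h3
    exact absurd h3 (by simp)
  exact alt_le hsb htb hmv 0 (π.range.mul_mem (π.range.mul_mem ⟨_, rfl⟩ hsb) (π.range.inv_mem ⟨_, rfl⟩))

/-- **The five lines.** -/
theorem act [CharP F 2] (h4 : Nat.card F = 4) (HV : H ≤ normalizer (V : Set G)) (TH : T ≤ H) (T2 : IsPGroup 2 T)
    {W : Subgroup G} (WV : W ≤ V) (HW : H ≤ normalizer (W : Set G)) :
    ∃ (ℓ : Fin 5 → Subgroup G) (π : ↥H →* Equiv.Perm (Fin 5)), ℓ 0 = W ⊓ LL N none ∧ (∀ a, ℓ a ≤ W) ∧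
      (∀ a b, a ≠ b → ℓ a ⊓ ℓ b = W ⊓ D) ∧ (∀ (y : ↥H) a, cj (y : G) (ℓ a) = ℓ (π y a)) ∧
      alternatingGroup (Fin 5) ≤ π.range ∧ ∀ y : ↥H, π y = 1 → ∀ w ∈ W, (y : G) * w * (y : G)⁻¹ * w⁻¹ ∈ W ⊓ D := by
  obtain ⟨ε, hε⟩ := exists_lab h4
  obtain ⟨π, hπ⟩ := exists_pi N HV TH ε
  refine ⟨fun a => W ⊓ LL N (ε a), π, by simp only [hε], fun a => inf_le_left, fun a b hab => ?_, fun y a => ?_,
    alt_range N HV hε hπ, fun y hy w hw => ?_⟩
  · ext v
    constructor
    · rintro ⟨⟨h1, h2⟩, -, h3⟩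
      refine ⟨h1, (mem_D N (WV h1)).2 ?_⟩
      exact on_unique (fun e => hab (ε.injective e)) h2.2 h3.2
    · rintro ⟨h1, h2⟩
      have h3 := (mem_D N (WV h1)).1 h2
      exact ⟨⟨h1, WV h1, by rw [h3]; exact on_zero _⟩, h1, WV h1, by rw [h3]; exact on_zero _⟩
  · rw [cj_inf, cj_eq_of_mem_normalizer (HW y.2), hπ]
  · have h1 : ∀ o, cj (y : G) (LL N o) = LL N o := by
      intro o
      obtain ⟨a, rfl⟩ := ε.surjective o
      rw [hπ, hy]; rfl
    have h2 := ker_triv N HV TH T2 y.2 h1 (WV hw)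
    have h3 : (y : G) * w * (y : G)⁻¹ ∈ W := (mem_normalizer_iff.1 (HW y.2) w).1 hw
    refine mem_inf.2 ⟨mul_mem h3 (inv_mem hw), (mem_D N (mul_mem (WV h3) (inv_mem (WV hw)))).2 ?_⟩
    rw [e_mul N (WV h3) (inv_mem (WV hw)), e_inv N (WV hw), Pi.neg_apply, h2, add_neg_cancel]

end five

end Cfsg.Agent.Omega.NO3S.WY.Tor.Act
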