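import Cfsg.Agent.Omega.NO3S.WY.Tor.Base

/-!
# THEOREM TOR: conjugation of the frame by `S`

* `TY.cj` : `TY .. j Y W F` and `s z_j s⁻¹ = z_m`, `s ∈ S`, give `TY .. m (Y^s) (W^s) (F^s)`.
-/

set_option autoImplicit false
set_option linter.unusedSectionVars false

namespace Cfsg.Agent.Omega.NO3S.WY.Tor

open Subgroup Cfsg Cfsg.Agent.ZN Cfsg.Agent.ZN.ChoiceBase
open Cfsg.Agent.ZN.ChoiceSit (Syl)
open Cfsg.Agent.MinSimple.MinParabolic (IsMinPar)

universe u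

variable {G : Type u} [Group G] {ι : Type}

theorem isMinPar_cj {T P : Subgroup G} (g : G) (h : IsMinPar T P) :
    IsMinPar (ChoiceBase.cj g T) (ChoiceBase.cj g P) where
  le := cj_mono g h.le
  not_le := by
    intro h1
    rw [← cj_normalizer, cj_le_iff, cj_inv_cj] at h1
    exact h.not_le h1
  exists_max := by
    obtain ⟨N, hN, hmax⟩ := h.exists_max
    refine ⟨ChoiceBase.cj g N, lt_of_le_of_ne (cj_mono g hN.le) fun e => hN.ne ?_, fun K hK hKP => ?_⟩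
    · rw [← cj_inv_cj g N, e, cj_inv_cj]
    · have h1 : K = ChoiceBase.cj g (ChoiceBase.cj g⁻¹ K) := (cj_cj_inv g K).symm
      rw [h1]
      refine cj_mono g (hmax _ ?_ (lt_of_le_of_ne ?_ fun e => hKP.ne ?_))
      · rw [← cj_le_iff]; exact hK
      · have h2 := cj_mono g⁻¹ hKP.le
        rwa [cj_inv_cj] at h2
      · rw [h1, e]

namespace Cx

variable {S B Q M X L : Subgroup G} {V : ι → Subgroup G} {z : ι → G} (c : Cx S B Q M X L V z)

include c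

theorem z_inj {i m : ι} (h : z i = z m) : i = m :=
  c.V_of_mem (c.zV i) (by rw [h]; exact c.zV m) (c.z1 i)

/-- `S ≤ N(B)` -/
theorem SB [Finite G] {s : G} (hs : s ∈ S) : ChoiceBase.cj s B ≤ B := by
  intro x hx
  rw [mem_cj] at hx
  have hxS : x ∈ S := by
    have h1 := S.mul_mem (S.mul_mem hs (c.BS hx)) (S.inv_mem hs)
    have e : s * (s⁻¹ * x * s) * s⁻¹ = x := by group
    rwa [e] at h1
  refine c.memB x hxS fun i => ?_
  obtain ⟨m, hm⟩ := c.zS s⁻¹ (S.inv_mem hs) i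
  rw [inv_inv] at hm
  have h2 := c.Bz _ hx m
  rw [← hm] at h2
  have h3 : s * (s⁻¹ * x * s * (s⁻¹ * z i * s)) * s⁻¹ = s * (s⁻¹ * z i * s * (s⁻¹ * x * s)) * s⁻¹ := by rw [h2]
  have e1 : s * (s⁻¹ * x * s * (s⁻¹ * z i * s)) * s⁻¹ = x * z i := by group
  have e2 : s * (s⁻¹ * z i * s * (s⁻¹ * x * s)) * s⁻¹ = z i * x := by group
  rw [e1, e2] at h3
  exact h3

theorem SB' [Finite G] {s : G} (hs : s ∈ S) : ChoiceBase.cj s B = B :=
  cj_eq_of_mem_normalizer (mem_normalizer_of_cj_le (c.SB hs))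

theorem SQ' {s : G} (hs : s ∈ S) : ChoiceBase.cj s Q = Q := cj_eq_of_mem_normalizer (c.SQ hs)

theorem V_cj {s : G} (hs : s ∈ S) {i m : ι} (h : s * z i * s⁻¹ = z m) : ChoiceBase.cj s (V i) = V m := by
  obtain ⟨k, hk⟩ := c.perm s (c.SQ hs) i
  have h1 : z m ∈ V k := by
    rw [← hk, ← h]; exact mem_cj' (c.zV i)
  rw [hk, c.V_of_mem h1 (c.zV m) (c.z1 m)]

theorem Lam_cj {s : G} (hs : s ∈ S) {j m : ι} (h : s * z j * s⁻¹ = z m) :
    ChoiceBase.cj s (Lam z j) ≤ Lam z m := by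
  rw [cj_le_iff]
  refine iSup₂_le fun i hi => ?_
  rw [zpowers_le, mem_cj, inv_inv]
  obtain ⟨k, hk⟩ := c.zS s hs i
  rw [hk]
  have hkm : k ≠ m := by
    rintro rfl
    refine hi (c.z_inj ?_)
    rw [← h] at hk
    have h1 : s⁻¹ * (s * z i * s⁻¹) * s = s⁻¹ * (s * z j * s⁻¹) * s := by rw [hk]
    have e1 : s⁻¹ * (s * z i * s⁻¹) * s = z i := by group
    have e2 : s⁻¹ * (s * z j * s⁻¹) * s = z j := by group
    rwa [e1, e2] at h1
  exact (le_iSup₂_of_le (f := fun i (_ : i ≠ m) => zpowers (z i)) k hkm le_rfl) (mem_zpowers _)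

end Cx

namespace TY

variable {S B Q M X L : Subgroup G} {V : ι → Subgroup G} {z : ι → G} {𝓦 : Set (Subgroup G)} {j : ι}
  {Y W F : Subgroup G}

theorem cj_sup (s : G) (A C : Subgroup G) :
    ChoiceBase.cj s (A ⊔ C) = ChoiceBase.cj s A ⊔ ChoiceBase.cj s C := Subgroup.map_sup _ _ _

/-- **Conjugation by `S`.** -/
theorem cj [Finite G] (c : Cx S B Q M X L V z) (o : Off S Q M X L 𝓦) (h : TY S B Q M X V z 𝓦 j Y W F) {s : G}
    (hs : s ∈ S) {m : ι} (hm : s * z j * s⁻¹ = z m) :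
    TY S B Q M X V z 𝓦 m (ChoiceBase.cj s Y) (ChoiceBase.cj s W) (ChoiceBase.cj s F) := by
  have hsM : s ∈ M := c.SM hs
  have hsX : ChoiceBase.cj s X = X := cj_eq_of_mem_normalizer (c.SX hs)
  have hsQ : ChoiceBase.cj s Q = Q := c.SQ' hs
  have hVF : ChoiceBase.cj s (V j ⊔ F) = V m ⊔ ChoiceBase.cj s F := by rw [cj_sup, c.V_cj hs hm]
  have conjW : ∀ {w : G}, w ∈ ChoiceBase.cj s W → s⁻¹ * w * s ∈ W := fun hw => mem_cj.1 hw
  have conjQ : ∀ {q : G}, q ∈ Q → s⁻¹ * q * s ∈ Q := fun {q} hq => by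
    rw [← hsQ] at hq; exact mem_cj.1 hq
  have hzi : ∀ i, i ≠ m → ∃ k, k ≠ j ∧ s⁻¹ * z i * s = z k := by
    intro i hi
    obtain ⟨k, hk⟩ := c.zS s⁻¹ (S.inv_mem hs) i
    rw [inv_inv] at hk
    refine ⟨k, ?_, hk⟩
    rintro rfl
    refine hi (c.z_inj ?_)
    rw [← hm, ← hk]; group
  refine ⟨?_, ?_, ?_, ?_, ?_, ?_, ?_, ?_, ?_, ?_, ?_, ?_, ?_, ?_, ?_, ?_⟩
  · -- min
    have h1 := isMinPar_cj s h.min
    rwa [c.SB' hs] at h1
  · -- YM
    have h1 := cj_mono s h.YM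
    rwa [cj_eq_of_mem_normalizer (le_normalizer hsM)] at h1
  · -- Yz
    intro y hy i hi
    obtain ⟨k, hk, e⟩ := hzi i hi
    have h1 := h.Yz _ (mem_cj.1 hy) k hk
    rw [← e] at h1
    have h3 : s * (s⁻¹ * y * s * (s⁻¹ * z i * s)) * s⁻¹ = s * (s⁻¹ * z i * s * (s⁻¹ * y * s)) * s⁻¹ := by rw [h1]
    have e1 : s * (s⁻¹ * y * s * (s⁻¹ * z i * s)) * s⁻¹ = y * z i := by group
    have e2 : s * (s⁻¹ * z i * s * (s⁻¹ * y * s)) * s⁻¹ = z i * y := by group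
    rwa [e1, e2] at h3
  · -- WX
    have h1 := cj_mono s h.WX
    rwa [hsX] at h1
  · -- YW
    rw [← cj_normalizer]; exact cj_mono s h.YW
  · -- gen
    intro U hzU hU
    rw [cj_le_iff]
    refine h.gen _ ?_ ?_
    · rw [mem_cj, inv_inv, hm]; exact hzU
    · rw [← cj_normalizer, ← cj_le_iff]; exact hU
  · -- VW
    rw [← c.V_cj hs hm]; exact cj_mono s h.VW
  · -- FW
    exact cj_mono s h.FW
  · -- FL
    exact (cj_mono s h.FL).trans (c.Lam_cj hs hm)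
  · -- cW
    rw [card_cj, card_cj]; exact h.cW
  · -- cWQ
    intro w hw hq
    rw [← hVF, mem_cj]
    refine h.cWQ _ (mem_cj.1 hw) fun q hq' => ?_
    have h1 := hq (s * q * s⁻¹) (by have := mem_cj' (g := s) hq'; rwa [hsQ] at this)
    have e1 : s⁻¹ * (s * q * s⁻¹ * w) * s = q * (s⁻¹ * w * s) := by group
    have e2 : s⁻¹ * (w * (s * q * s⁻¹)) * s = s⁻¹ * w * s * q := by group
    rw [← e1, ← e2, h1]
  · -- quad
    intro q hq w hw
    rw [← hVF, mem_cj]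
    have h1 := h.quad _ (conjQ hq) _ (mem_cj.1 hw)
    have e1 : s⁻¹ * (q * w * q⁻¹ * w⁻¹) * s =
      s⁻¹ * q * s * (s⁻¹ * w * s) * (s⁻¹ * q * s)⁻¹ * (s⁻¹ * w * s)⁻¹ := by group
    rw [e1]; exact h1
  · -- free
    intro q hq w hw hwn hqw u hu
    have h1 := h.free _ (conjQ hq) _ (mem_cj.1 hw) (fun h2 => hwn (by rw [← hVF, mem_cj]; exact h2)) (by
      have h2 := mem_cj.1 hqw
      have e1 : s⁻¹ * (q * w * q⁻¹ * w⁻¹) * s =
        s⁻¹ * q * s * (s⁻¹ * w * s) * (s⁻¹ * q * s)⁻¹ * (s⁻¹ * w * s)⁻¹ := by group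
      rwa [e1] at h2) _ (mem_cj.1 hu)
    have e1 : s * (s⁻¹ * q * s * (s⁻¹ * u * s)) * s⁻¹ = q * u := by group
    have e2 : s * (s⁻¹ * u * s * (s⁻¹ * q * s)) * s⁻¹ = u * q := by group
    rw [← e1, ← e2, h1]
  · -- cardQ
    have h1 : Q ⊓ centralizer ((ChoiceBase.cj s W : Subgroup G) : Set G) =
        ChoiceBase.cj s (Q ⊓ centralizer (W : Set G)) := by
      rw [cj_inf, cj_centralizer, hsQ]
    rw [h1, card_cj]; exact h.cardQ
  · -- act
    obtain ⟨ℓ, π, h0, hW, hi, hc, hA, hk⟩ := h.act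
    have hY' : ∀ y : ↥(ChoiceBase.cj s Y), s⁻¹ * (y : G) * s ∈ Y := fun y => mem_cj.1 y.2
    let φ : ↥(ChoiceBase.cj s Y) →* ↥Y :=
      { toFun := fun y => ⟨s⁻¹ * (y : G) * s, hY' y⟩
        map_one' := by ext; simp
        map_mul' := fun a b => by
          ext
          change s⁻¹ * ((a : G) * (b : G)) * s = s⁻¹ * (a : G) * s * (s⁻¹ * (b : G) * s)
          group }
    have hφ : ∀ y, ((φ y : Y) : G) = s⁻¹ * (y : G) * s := fun _ => rfl
    have hsurj : Function.Surjective φ := by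
      intro y
      refine ⟨⟨s * (y : G) * s⁻¹, mem_cj' y.2⟩, ?_⟩
      ext
      rw [hφ]
      change s⁻¹ * (s * (y : G) * s⁻¹) * s = (y : G)
      group
    refine ⟨fun a => ChoiceBase.cj s (ℓ a), π.comp φ, ?_, fun a => cj_mono s (hW a), ?_, ?_, ?_, ?_⟩
    · change ChoiceBase.cj s (ℓ 0) = _
      rw [h0, hVF]
    · intro a b hab
      change ChoiceBase.cj s (ℓ a) ⊓ ChoiceBase.cj s (ℓ b) = _
      rw [← cj_inf, hi a b hab]
    · intro y a
      change ChoiceBase.cj (y : G) (ChoiceBase.cj s (ℓ a)) = ChoiceBase.cj s (ℓ (π (φ y) a))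
      rw [← hc (φ y) a, hφ, cj_cj, cj_cj]
      congr 1
      group
    · intro x hx
      obtain ⟨y, rfl⟩ := hA hx
      obtain ⟨y', rfl⟩ := hsurj y
      exact ⟨y', rfl⟩
    · intro y hy w hw
      have h1 := hk (φ y) hy _ (mem_cj.1 hw)
      rw [hφ] at h1
      rw [mem_cj]
      have e1 : s⁻¹ * ((y : G) * w * (y : G)⁻¹ * w⁻¹) * s =
        s⁻¹ * (y : G) * s * (s⁻¹ * w * s) * (s⁻¹ * (y : G) * s)⁻¹ * (s⁻¹ * w * s)⁻¹ := by group
      rw [e1]; exact h1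
  · -- mv
    obtain ⟨A, hA, hAS, hAW⟩ := h.mv
    refine ⟨ChoiceBase.cj s A, o.cj A hA s hsM, ?_, fun hle => hAW ?_⟩
    · have h1 := cj_mono s hAS
      rwa [cj_eq_of_mem_normalizer (le_normalizer hs)] at h1
    · rw [← cj_centralizer] at hle
      have h1 := cj_mono s⁻¹ hle
      rwa [cj_inv_cj, cj_inv_cj] at h1

end TY

end Cfsg.Agent.Omega.NO3S.WY.Tor
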