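import Cfsg.Agent.Omega.NO3S.WY.Tor.Frame
import Cfsg.Agent.Omega.CaseLQ.OneY

/-!
# THEOREM TOR: the frame `TY` from coordinates of `⟨Ω₁(Z(B))^Y⟩`

* `Co F S B Q M X L V z 𝓦 j Y` : the frame `Cx`, `Off`, and `N : NatKM F B Y (zl B Y) (cv B Y) 1`, `|F| = 4`, `V j` is the
  line fixed by `B`, `Q` acts inside the root group, a member of `𝓦` in `S` is not in `O₂(Y)`;
* `Co.cap`, `Co.cap'` : `C_B(U) = C_B(U / C_U(O²(Y))) = O₂(Y)`; `Co.full` : `Q` induces the full root group;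
  `Co.exists_d` : `d ∈ N_Y(Q)` of odd order, `diag(a, a⁻¹)`, `a ≠ 1`; `Co.VW` : `V j ≤ ⟨z_j^Y⟩`;
  `Co.cent_V` : `C_B(V j) ≤ Q O₂(Y)`; `Co.F_le` : `F ≤ Λ_j`.
-/

set_option autoImplicit false
set_option linter.unusedSectionVars false
set_option linter.dupNamespace false

namespace Cfsg.Agent.Omega.NO3S.WY.Tor

open Subgroup Cfsg Cfsg.Agent.ZN Cfsg.Agent.ZN.ChoiceBase
open Cfsg.Agent.ZN.ChoiceSit (Syl exists_syl syl_conj syl_not_dvd)
open Cfsg.Agent.MinSimple.MinParabolic (IsMinPar)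
open Cfsg.Agent.MinSimple.VModule (oddGen oddGen_le mem_oddGen)
open Cfsg.Agent.Omega.FFThm (OffM ElemM NatK NatKM ActsSL)
open Cfsg.Agent.Omega.FrameFF (cv)
open Cfsg.Agent.Omega.NO3b.EZero (cl cj_le_cl le_cl cl_le le_normalizer_cl cent_symm cj_cent)
open Cfsg.Agent.Omega.NO3b.K0 (conj_mem' cj_of_le cj_self min_or)
open Cfsg.Agent.Omega.NO3S.NotFF (le_normalizer_of_forall)
open Cfsg.Agent.Omega.SQ1.Bau (mem_sup_comm card_sup_comm mem_sup_norm)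
open Cfsg.Agent.Omega.SQ1.FFOne (MinH)
open Cfsg.Agent.Omega.NO3S.Fld (kmod mem_kmod norm_kmod kmod_le)
open Cfsg.Agent.Omega.NatPair (ap ap_zero' ap_one' ap_one ap_mul ap_add ext2 ap_inv_ap ap_inj)
open Cfsg.Agent.Omega.NO3S.OneLine (NatC natC_of card_of_hom card_le_of_hom)
open Cfsg.Agent.Lib.SL2Mat

universe u

variable {G : Type u} [Group G] {ι : Type}

/-- **Coordinates of `⟨Ω₁(Z(B))^Y⟩`.** -/
structure Co (F : Type) [Field F] (S B Q M X L : Subgroup G) (V : ι → Subgroup G) (z : ι → G)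
    (𝓦 : Set (Subgroup G)) (j : ι) (Y : Subgroup G) where
  cx : Cx S B Q M X L V z
  syl : Syl B Y
  min : IsMinPar B Y
  c2 : Y ⊓ centralizer (o2 Y : Set G) ≤ o2 Y
  YM : Y ≤ M
  cen : ∀ y ∈ Y, ∀ i, i ≠ j → y * z i = z i * y
  zcB : zc B = ⨆ i, zpowers (z i)
  zX : zc B ≤ X
  nat : NatKM F B Y (zl B Y) (cv B Y) 1
  c4 : Nat.card F = 4
  line : ∀ v ∈ zl B Y, nat.e v 0 1 = 0 ↔ v ∈ V j ⊔ cv B Y
  rt : ∀ q ∈ Q, ∃ b : F, ActsSL nat.e (zl B Y) (cv B Y) q fun _ => up b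
  act : ∃ A ∈ 𝓦, A ≤ S ∧ A ≤ Q ∧ ¬ A ≤ o2 Y
  /-- the member of `𝓦` is a best offender on the subgroups of `X ∩ O₂(C_G(Λ_j))` -/
  best : ∀ A ∈ 𝓦, A ≤ S → ∀ U : Subgroup G, U ≤ X → U ≤ o2 (centralizer (Lam z j : Set G)) → ∀ A' ≤ A,
    Nat.card A' * Nat.card ↥(U ⊓ centralizer (A' : Set G)) ≤ Nat.card A * Nat.card ↥(U ⊓ centralizer (A : Set G))
  two : ∃ i, i ≠ j

namespace Co

variable [Finite G] {F : Type} [Field F] {S B Q M X L : Subgroup G} {V : ι → Subgroup G} {z : ι → G}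
  {𝓦 : Set (Subgroup G)} {j : ι} {Y : Subgroup G} (o : Co F S B Q M X L V z 𝓦 j Y)

theorem BY (o : Co F S B Q M X L V z 𝓦 j Y) : B ≤ Y := o.syl.1

theorem QY (o : Co F S B Q M X L V z 𝓦 j Y) : Q ≤ Y := o.cx.QB.trans o.BY

theorem B2 (o : Co F S B Q M X L V z 𝓦 j Y) : IsPGroup 2 B := o.syl.2.1

theorem hm (o : Co F S B Q M X L V z 𝓦 j Y) : MinH Y B := SQ1.FFOne.minH_of o.syl o.min o.c2

/-- coordinates with the elementary facts -/
def nc (o : Co F S B Q M X L V z 𝓦 j Y) : NatC F B Y (zl B Y) (cv B Y) 1 := natC_of o.hm one_pos o.nat.toNatK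

theorem YU (_o : Co F S B Q M X L V z 𝓦 j Y) : Y ≤ normalizer (zl B Y : Set G) :=
  MinSimple.VModule.le_normalizer_zl B Y

theorem Un (o : Co F S B Q M X L V z 𝓦 j Y) {y v : G} (hy : y ∈ Y) (hv : v ∈ zl B Y) : y * v * y⁻¹ ∈ zl B Y :=
  conj_mem' o.YU hy hv

theorem U_comm (o : Co F S B Q M X L V z 𝓦 j Y) : ∀ v ∈ zl B Y, ∀ w ∈ zl B Y, v * w = w * v :=
  SQ1.VOf.MinH.comm o.hm

theorem U_sq (o : Co F S B Q M X L V z 𝓦 j Y) : ∀ v ∈ zl B Y, v ^ 2 = 1 := SQ1.VOf.MinH.sq o.hm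

theorem o2_cent (o : Co F S B Q M X L V z 𝓦 j Y) {x v : G} (hx : x ∈ o2 Y) (hv : v ∈ zl B Y) : x * v = v * x :=
  SQ1.VOf.MinH.o2_cent o.hm x hx v hv

theorem odd_not (o : Co F S B Q M X L V z 𝓦 j Y) : ¬ oddGen Y ≤ centralizer (zl B Y : Set G) := by
  intro h0
  obtain ⟨v, hv, he⟩ := o.nat.surj fun _ => ![1, 0]
  have h1 : v ∈ cv B Y := ⟨hv, cent_symm h0 hv⟩
  have h2 := (o.nat.ker v hv).2 h1
  rw [h2] at he
  have h3 := congrFun (congrFun he 0) 0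
  simp at h3

/-- `C_B(U) ≤ O₂(Y)` -/
theorem cap (o : Co F S B Q M X L V z 𝓦 j Y) : B ⊓ centralizer (zl B Y : Set G) ≤ o2 Y := by
  have hYY : Y ≤ normalizer ((Y ⊓ centralizer (zl B Y : Set G) : Subgroup G) : Set G) :=
    NO3b.EZero.le_normalizer_inf_cent o.YU
  rcases min_or o.syl o.min (K := Y ⊓ centralizer (zl B Y : Set G)) inf_le_left hYY with h2 | h2
  · exact absurd (h2.trans inf_le_right) o.odd_not
  · exact (le_inf inf_le_left (le_inf (inf_le_left.trans o.BY) inf_le_right)).trans h2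

theorem Dn (_o : Co F S B Q M X L V z 𝓦 j Y) : Y ≤ normalizer (cv B Y : Set G) :=
  le_normalizer_of_forall fun g hg d hd => SQ1.FFOf.cv_norm g hg d hd

/-- `C_B(U / C_U(O²(Y))) ≤ O₂(Y)` -/
theorem cap' (o : Co F S B Q M X L V z 𝓦 j Y) {x : G} (hx : x ∈ B)
    (h : ∀ v ∈ zl B Y, x * v * x⁻¹ * v⁻¹ ∈ cv B Y) : x ∈ o2 Y := by
  rcases min_or o.syl o.min (K := kmod Y (zl B Y) (cv B Y) o.YU o.Dn) kmod_le (norm_kmod _ _) with h2 | h2
  · refine absurd ?_ o.odd_not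
    have hcl : oddGen Y = closure {x : G | x ∈ Y ∧ Odd (orderOf x)} := rfl
    rw [hcl, closure_le]
    rintro g ⟨hg, ho⟩
    have hgo : g ∈ oddGen Y := mem_oddGen hg ho
    refine mem_centralizer_iff.2 fun v hv => ?_
    have h3 := (mem_kmod.1 (h2 hgo)).2 v hv
    set d := g * v * g⁻¹ * v⁻¹ with hd
    have hgd : g * d = d * g := (mem_centralizer_iff.1 h3.2 g hgo)
    have h4 : ∀ n : ℕ, g ^ n * v * (g ^ n)⁻¹ = d ^ n * v := by
      intro n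
      induction n with
      | zero => simp
      | succ n ih =>
        have e1 : g ^ (n + 1) * v * (g ^ (n + 1))⁻¹ = g * (g ^ n * v * (g ^ n)⁻¹) * g⁻¹ := by
          rw [pow_succ']; group
        have e2 : g * (d ^ n * v) * g⁻¹ = (g * d ^ n * g⁻¹) * (g * v * g⁻¹) := by group
        have e3 : g * d ^ n * g⁻¹ = d ^ n := by
          have : Commute g (d ^ n) := (show Commute g d from hgd).pow_right n
          rw [this.eq, mul_inv_cancel_right]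
        have e4 : g * v * g⁻¹ = d * v := by rw [hd]; group
        rw [e1, ih, e2, e3, e4, pow_succ, ← mul_assoc]
    have h5 := h4 (orderOf g)
    rw [pow_orderOf_eq_one, one_mul, inv_one, mul_one] at h5
    have h6 : d ^ orderOf g = 1 := (mul_eq_right.1 h5.symm)
    have h7 : d ^ 2 = 1 := o.U_sq d h3.1
    obtain ⟨r, hr⟩ := ho
    rw [hr, pow_succ, pow_mul, h7, one_pow, one_mul] at h6
    have e5 : g * v = d * v * g := by rw [hd]; group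
    rw [e5, h6, one_mul]
  · exact h2 ⟨hx, mem_kmod.2 ⟨o.BY hx, h⟩⟩

/-- the coordinates -/
def e (o : Co F S B Q M X L V z 𝓦 j Y) (v : G) : Fin 2 → F := o.nat.e v 0

theorem e_mul (o : Co F S B Q M X L V z 𝓦 j Y) {v w : G} (hv : v ∈ zl B Y) (hw : w ∈ zl B Y) :
    o.e (v * w) = o.e v + o.e w := congrFun (o.nat.mul v hv w hw) 0

theorem e_one (o : Co F S B Q M X L V z 𝓦 j Y) : o.e 1 = 0 := congrFun o.nc.map_one 0

theorem e_inv (o : Co F S B Q M X L V z 𝓦 j Y) {v : G} (hv : v ∈ zl B Y) : o.e v⁻¹ = - o.e v :=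
  congrFun (o.nc.map_inv hv) 0

theorem e_div (o : Co F S B Q M X L V z 𝓦 j Y) {v w : G} (hv : v ∈ zl B Y) (hw : w ∈ zl B Y) :
    o.e (v * w⁻¹) = o.e v - o.e w := congrFun (o.nc.map_div hv hw) 0

theorem e_ker (o : Co F S B Q M X L V z 𝓦 j Y) {v : G} (hv : v ∈ zl B Y) : o.e v = 0 ↔ v ∈ cv B Y := by
  rw [← o.nat.ker v hv]
  refine ⟨fun h => ?_, fun h => congrFun h 0⟩
  funext i
  rw [Subsingleton.elim i 0]
  exact h

theorem e_surj (o : Co F S B Q M X L V z 𝓦 j Y) (x : Fin 2 → F) : ∃ v ∈ zl B Y, o.e v = x := by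
  obtain ⟨v, hv, h⟩ := o.nat.surj fun _ => x
  exact ⟨v, hv, congrFun h 0⟩

theorem e_lift (o : Co F S B Q M X L V z 𝓦 j Y) (A : Matrix.SpecialLinearGroup (Fin 2) F) :
    ∃ g ∈ Y, ∀ v ∈ zl B Y, o.e (g * v * g⁻¹) = ap A (o.e v) := by
  obtain ⟨g, hg, h⟩ := o.nat.lift fun _ => A
  exact ⟨g, hg, fun v hv => h.1 v hv 0⟩

theorem e_norm (o : Co F S B Q M X L V z 𝓦 j Y) {g h : G} (hg : g ∈ Y) (hh : h ∈ Y)
    {A : Matrix.SpecialLinearGroup (Fin 2) F} (hA : ∀ v ∈ zl B Y, o.e (h * v * h⁻¹) = ap A (o.e v)) :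
    ∃ A' : Matrix.SpecialLinearGroup (Fin 2) F,
      ∀ v ∈ zl B Y, o.e (g * h * g⁻¹ * v * (g * h * g⁻¹)⁻¹) = ap A' (o.e v) := by
  obtain ⟨A', h1⟩ := o.nat.norm g hg h hh (fun _ => A) fun v hv i => by
    rw [Subsingleton.elim i 0]
    exact hA v hv
  exact ⟨A' 0, fun v hv => h1 v hv 0⟩

theorem cv_le (_o : Co F S B Q M X L V z 𝓦 j Y) : cv B Y ≤ zl B Y := inf_le_left

/-- `z j` and `Λ_j` -/
theorem z_zc (o : Co F S B Q M X L V z 𝓦 j Y) (i : ι) : z i ∈ zc B := by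
  rw [o.zcB]
  exact mem_iSup_of_mem i (mem_zpowers _)

theorem z_U (o : Co F S B Q M X L V z 𝓦 j Y) (i : ι) : z i ∈ zl B Y := ZN.zc_le_zl (o.z_zc i)

theorem Lam_le (o : Co F S B Q M X L V z 𝓦 j Y) : Lam z j ≤ zc B :=
  iSup_le fun i => iSup_le fun _ => (zpowers_le).2 (o.z_zc i)

theorem YLam (o : Co F S B Q M X L V z 𝓦 j Y) : Y ≤ centralizer (Lam z j : Set G) := by
  rw [le_centralizer_iff]
  refine iSup_le fun i => iSup_le fun hi => (zpowers_le).2 ?_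
  exact mem_centralizer_iff.2 fun y hy => o.cen y hy i hi

theorem Lam_cv (o : Co F S B Q M X L V z 𝓦 j Y) : Lam z j ≤ cv B Y :=
  le_inf (o.Lam_le.trans ZN.zc_le_zl) (le_centralizer_iff.1 ((oddGen_le Y).trans o.YLam))

/-- `W = ⟨z_j^Y⟩` -/
def Wj (_o : Co F S B Q M X L V z 𝓦 j Y) : Subgroup G := cl (zpowers (z j)) Y

theorem YW (o : Co F S B Q M X L V z 𝓦 j Y) : Y ≤ normalizer (o.Wj : Set G) := le_normalizer_cl _ _

theorem z_W (o : Co F S B Q M X L V z 𝓦 j Y) : z j ∈ o.Wj := le_cl _ _ (mem_zpowers _)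

theorem gen (o : Co F S B Q M X L V z 𝓦 j Y) {U : Subgroup G} (h1 : z j ∈ U) (h2 : Y ≤ normalizer (U : Set G)) :
    o.Wj ≤ U := cl_le fun y hy => by
  rw [← cj_eq_of_mem_normalizer (h2 hy)]
  exact cj_mono y ((zpowers_le).2 h1)

theorem W_le (o : Co F S B Q M X L V z 𝓦 j Y) : o.Wj ≤ zl B Y := o.gen (o.z_U j) o.YU

theorem zc_le_sup (o : Co F S B Q M X L V z 𝓦 j Y) {U : Subgroup G} (h1 : z j ∈ U) (h2 : Lam z j ≤ U) : zc B ≤ U := by
  rw [o.zcB]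
  refine iSup_le fun i => ?_
  by_cases hi : i = j
  · subst hi
    exact (zpowers_le).2 h1
  · exact le_trans (le_trans (le_iSup (fun _ : i ≠ j => zpowers (z i)) hi)
      (le_iSup (fun i => ⨆ (_ : i ≠ j), zpowers (z i)) i)) h2

theorem U_le (o : Co F S B Q M X L V z 𝓦 j Y) : zl B Y ≤ o.Wj ⊔ Lam z j := by
  refine ZN.zl_le (o.zc_le_sup (mem_sup_left o.z_W) le_sup_right) fun y hy => ?_
  rw [mem_normalizer_iff_cj]
  have h1 : cj y (o.Wj ⊔ Lam z j) = cj y o.Wj ⊔ cj y (Lam z j) := Subgroup.map_sup _ _ _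
  rw [h1, cj_eq_of_mem_normalizer (o.YW hy), cj_eq_of_mem_normalizer (centralizer_le_normalizer _ (o.YLam hy))]

theorem exists_W (o : Co F S B Q M X L V z 𝓦 j Y) {u : G} (hu : u ∈ zl B Y) : ∃ w ∈ o.Wj, ∃ l ∈ Lam z j, u = w * l :=
  mem_sup_comm (fun w hw l hl => o.U_comm w (o.W_le hw) l (o.cv_le (o.Lam_cv hl))) (o.U_le hu)

theorem e_W (o : Co F S B Q M X L V z 𝓦 j Y) (x : Fin 2 → F) : ∃ w ∈ o.Wj, o.e w = x := by
  obtain ⟨v, hv, rfl⟩ := o.e_surj x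
  obtain ⟨w, hw, l, hl, rfl⟩ := o.exists_W hv
  refine ⟨w, hw, ?_⟩
  rw [o.e_mul (o.W_le hw) (o.cv_le (o.Lam_cv hl)), (o.e_ker (o.cv_le (o.Lam_cv hl))).2 (o.Lam_cv hl), add_zero]

theorem z_cv (o : Co F S B Q M X L V z 𝓦 j Y) : z j ∉ cv B Y := by
  intro h
  have h1 : zl B Y ≤ cv B Y := o.U_le.trans (sup_le (o.gen h o.Dn) o.Lam_cv)
  exact o.odd_not (cent_symm (h1.trans inf_le_right))

/-- `C_B(W) ≤ O₂(Y)` -/
theorem capW (o : Co F S B Q M X L V z 𝓦 j Y) {x : G} (hx : x ∈ B)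
    (h : ∀ w ∈ o.Wj, x * w * x⁻¹ * w⁻¹ ∈ cv B Y) : x ∈ o2 Y := by
  refine o.cap' hx fun v hv => ?_
  obtain ⟨w, hw, l, hl, rfl⟩ := o.exists_W hv
  have h1 : x * l = l * x := (mem_centralizer_iff.1 (o.YLam (o.BY hx)) l hl).symm
  have e1 : x * (w * l) * x⁻¹ * (w * l)⁻¹ = x * w * x⁻¹ * w⁻¹ := by
    have h2 : l * x⁻¹ = x⁻¹ * l := by
      calc l * x⁻¹ = x⁻¹ * (x * l) * x⁻¹ := by group
        _ = x⁻¹ * (l * x) * x⁻¹ := by rw [h1]
        _ = x⁻¹ * l := by group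
    calc x * (w * l) * x⁻¹ * (w * l)⁻¹ = x * w * (l * x⁻¹) * l⁻¹ * w⁻¹ := by group
      _ = x * w * (x⁻¹ * l) * l⁻¹ * w⁻¹ := by rw [h2]
      _ = _ := by group
  rw [e1]
  exact h w hw

theorem o2W (o : Co F S B Q M X L V z 𝓦 j Y) {x : G} (hx : x ∈ B) :
    x ∈ o2 Y ↔ ∀ w ∈ o.Wj, x * w = w * x := by
  refine ⟨fun h w hw => o.o2_cent h (o.W_le hw), fun h => o.capW hx fun w hw => ?_⟩
  rw [h w hw, mul_inv_cancel_right, mul_inv_cancel]
  exact one_mem _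

theorem cardW [Finite F] (o : Co F S B Q M X L V z 𝓦 j Y) :
    Nat.card o.Wj = 16 * Nat.card ↥(o.Wj ⊓ cv B Y) := by
  rw [card_of_hom (L := o.Wj ⊓ cv B Y) inf_le_left o.e
    (fun v hv w hw => o.e_mul (o.W_le hv) (o.W_le hw)) o.e_W
    (fun v hv => (o.e_ker (o.W_le hv)).trans ⟨fun h => ⟨hv, h⟩, fun h => h.2⟩)]
  rw [Nat.card_fun, o.c4]
  simp
  ring

/-! ### The root group -/

theorem up_of (o : Co F S B Q M X L V z 𝓦 j Y) {q : G} (hq : q ∈ Q) :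
    ∃ b : F, (∀ v ∈ zl B Y, o.e (q * v * q⁻¹) = ap (up b) (o.e v)) ∧ ∀ d ∈ cv B Y, q * d = d * q := by
  obtain ⟨b, h1, h2⟩ := o.rt q hq
  exact ⟨b, fun v hv => h1 v hv 0, h2⟩

theorem e_comm (o : Co F S B Q M X L V z 𝓦 j Y) {q : G} (hq : q ∈ Y) {b : F}
    (h : ∀ v ∈ zl B Y, o.e (q * v * q⁻¹) = ap (up b) (o.e v)) {v : G} (hv : v ∈ zl B Y) :
    o.e (q * v * q⁻¹ * v⁻¹) = ![b * o.e v 1, 0] := by
  rw [o.e_div (o.Un hq hv) hv, h v hv]
  apply ext2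
  · rw [Pi.sub_apply, ap_zero', up_00, up_01]; simp
  · rw [Pi.sub_apply, ap_one', up_10, up_11]; simp

/-- a vector with coordinates `(0, 1)` -/
theorem exists_w1 (o : Co F S B Q M X L V z 𝓦 j Y) : ∃ w ∈ o.Wj, o.e w = ![0, 1] := o.e_W _

open Classical in
/-- the coordinate of `q` in the root group -/
noncomputable def bb (o : Co F S B Q M X L V z 𝓦 j Y) (q : G) : F :=
  o.e (q * o.exists_w1.choose * q⁻¹) 0

theorem bb_eq (o : Co F S B Q M X L V z 𝓦 j Y) {q : G} {b : F}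
    (h : ∀ v ∈ zl B Y, o.e (q * v * q⁻¹) = ap (up b) (o.e v)) : o.bb q = b := by
  have h1 := o.exists_w1.choose_spec
  unfold bb
  rw [h _ (o.W_le h1.1), h1.2, ap_zero', up_00, up_01]
  simp

theorem bb_spec (o : Co F S B Q M X L V z 𝓦 j Y) {q : G} (hq : q ∈ Q) :
    ∀ v ∈ zl B Y, o.e (q * v * q⁻¹) = ap (up (o.bb q)) (o.e v) := by
  obtain ⟨b, h1, -⟩ := o.up_of hq
  rw [o.bb_eq h1]
  exact h1

theorem bb_mul (o : Co F S B Q M X L V z 𝓦 j Y) {p q : G} (hp : p ∈ Q) (hq : q ∈ Q) :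
    o.bb (p * q) = o.bb p + o.bb q := by
  refine o.bb_eq fun v hv => ?_
  have e1 : p * q * v * (p * q)⁻¹ = p * (q * v * q⁻¹) * p⁻¹ := by group
  rw [e1, o.bb_spec hp _ (o.Un (o.QY hq) hv), o.bb_spec hq v hv, ← ap_mul, up_mul]

theorem bb_ker (o : Co F S B Q M X L V z 𝓦 j Y) {q : G} (hq : q ∈ Q) : o.bb q = 0 ↔ q ∈ o2 Y := by
  constructor
  · intro h
    refine o.cap' (o.cx.QB hq) fun v hv => ?_
    rw [← o.e_ker (mul_mem (o.Un (o.QY hq) hv) (inv_mem hv)), o.e_comm (o.QY hq) (o.bb_spec hq) hv, h]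
    simp
  · intro h
    refine o.bb_eq fun v hv => ?_
    rw [o.o2_cent h hv, mul_inv_cancel_right, up_zero, ap_one]

end Co

/-- a homomorphism with small kernel is onto -/
theorem surj_of_card {G : Type*} [Group G] [Finite G] {B : Type*} [AddCommGroup B] [Finite B] {K L : Subgroup G}
    (f : G → B) (hf : ∀ v ∈ K, ∀ w ∈ K, f (v * w) = f v + f w) (hk : ∀ v ∈ K, f v = 0 → v ∈ L)
    (hc : Nat.card L * Nat.card B ≤ Nat.card K) (c : B) : ∃ v ∈ K, f v = c := by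
  let φ : K →* Multiplicative B := MonoidHom.mk' (fun v => Multiplicative.ofAdd (f v)) (by
    rintro ⟨v, hv⟩ ⟨w, hw⟩
    exact congrArg Multiplicative.ofAdd (hf v hv w hw))
  have hfin : Finite (Multiplicative B) := inferInstanceAs (Finite B)
  have h1 : Nat.card φ.ker * Nat.card φ.range = Nat.card K := by
    rw [← Subgroup.index_ker, Subgroup.card_mul_index]
  have h3 : Nat.card φ.ker ≤ Nat.card L := by
    refine Nat.card_le_card_of_injective (fun v : φ.ker => (⟨v.1.1, hk v.1.1 v.1.2 ?_⟩ : L)) ?_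
    · exact congrArg Multiplicative.toAdd (MonoidHom.mem_ker.1 v.2)
    · intro v w h
      have h0 : v.1.1 = w.1.1 := congrArg (fun x : L => (x : G)) h
      exact Subtype.ext (Subtype.ext h0)
  have h4 : Nat.card B ≤ Nat.card φ.range := by
    have h5 : Nat.card L * Nat.card B ≤ Nat.card L * Nat.card φ.range := by
      rw [← h1] at hc
      exact hc.trans (Nat.mul_le_mul_right _ h3)
    exact Nat.le_of_mul_le_mul_left h5 Nat.card_pos
  have h6 : φ.range = ⊤ := by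
    refine Subgroup.eq_top_of_le_card _ ?_
    exact h4
  obtain ⟨v, hv⟩ := (MonoidHom.range_eq_top.1 h6) (Multiplicative.ofAdd c)
  exact ⟨v.1, v.2, congrArg Multiplicative.toAdd hv⟩

namespace Co

variable [Finite G] {F : Type} [Field F] {S B Q M X L : Subgroup G} {V : ι → Subgroup G} {z : ι → G}
  {𝓦 : Set (Subgroup G)} {j : ι} {Y : Subgroup G} (o : Co F S B Q M X L V z 𝓦 j Y)

theorem BYLam (o : Co F S B Q M X L V z 𝓦 j Y) : B ≤ centralizer (Lam z j : Set G) := o.BY.trans o.YLam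

theorem sylC (o : Co F S B Q M X L V z 𝓦 j Y) : Syl B (centralizer (Lam z j : Set G)) := by
  refine ⟨o.BYLam, o.B2, fun T hT h2 hBT => le_antisymm (o.cx.sylB j T h2 hBT fun i hi x hx => ?_) hBT⟩
  refine (mem_centralizer_iff.1 (hT hx) (z i) ?_).symm
  exact le_trans (le_iSup (fun _ : i ≠ j => zpowers (z i)) hi)
      (le_iSup (fun i => ⨆ (_ : i ≠ j), zpowers (z i)) i) (mem_zpowers _)

/-- `W ≤ O₂(C_G(Λ_j))` -/
theorem W_o2 (o : Co F S B Q M X L V z 𝓦 j Y) : o.Wj ≤ o2 (centralizer (Lam z j : Set G)) := by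
  have hB : o2 (centralizer (Lam z j : Set G)) ≤ B := ChoiceSit.o2_le_syl o.sylC
  refine o.gen ?_ (o.YLam.trans (MinSimple.VModule.le_normalizer_o2 _))
  have h2 : IsPGroup 2 (Lam z j) := o.B2.to_le (o.Lam_le.trans (ZN.zc_le _))
  have h1 : Lam z j ≠ ⊥ := by
    obtain ⟨i, hi⟩ := o.two
    intro h
    have h3 : z i ∈ Lam z j := le_trans (le_iSup (fun _ : i ≠ j => zpowers (z i)) hi)
      (le_iSup (fun i => ⨆ (_ : i ≠ j), zpowers (z i)) i) (mem_zpowers _)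
    rw [h, mem_bot] at h3
    exact o.cx.z1 i h3
  refine NOne.LemmaT.char2_centralizer o.cx.char2 h2 h1 ⟨?_, ?_⟩
  · exact o.BYLam (ZN.zc_le _ (o.z_zc j))
  · exact mem_centralizer_iff.2 fun x hx => (ChoiceBase.mem_zc.1 (o.z_zc j)).2.2 x (hB hx)

theorem U_X (o : Co F S B Q M X L V z 𝓦 j Y) : zl B Y ≤ X := ZN.zl_le o.zX (o.YM.trans o.cx.MX)

theorem W_X (o : Co F S B Q M X L V z 𝓦 j Y) : o.Wj ≤ X := o.W_le.trans o.U_X

/-- **`Q` induces the full root group.** -/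
theorem full [Finite F] (o : Co F S B Q M X L V z 𝓦 j Y) (b : F) : ∃ q ∈ Q, o.bb q = b := by
  obtain ⟨A, hA, hAS, hAQ, hAY⟩ := o.act
  have h1 := o.best A hA hAS o.Wj o.W_X o.W_o2 (A ⊓ centralizer (o.Wj : Set G)) inf_le_left
  have e1 : o.Wj ⊓ centralizer ((A ⊓ centralizer (o.Wj : Set G) : Subgroup G) : Set G) = o.Wj :=
    inf_eq_left.2 (le_centralizer_iff.1 inf_le_right)
  rw [e1] at h1
  -- the line
  let ℓ : Subgroup G :=
    { carrier := {w | w ∈ o.Wj ∧ o.e w 1 = 0}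
      mul_mem' := by
        rintro x y ⟨hx, hx'⟩ ⟨hy, hy'⟩
        refine ⟨mul_mem hx hy, ?_⟩
        rw [o.e_mul (o.W_le hx) (o.W_le hy), Pi.add_apply, hx', hy', add_zero]
      one_mem' := ⟨one_mem _, by rw [o.e_one]; rfl⟩
      inv_mem' := by
        rintro x ⟨hx, hx'⟩
        refine ⟨inv_mem hx, ?_⟩
        rw [o.e_inv (o.W_le hx), Pi.neg_apply, hx', neg_zero] }
  have c1 : Nat.card o.Wj = Nat.card ℓ * Nat.card F := by
    refine card_of_hom (fun w hw => hw.1) (fun w => o.e w 1) (fun v hv w hw => ?_) (fun x => ?_) fun v hv => ?_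
    · rw [o.e_mul (o.W_le hv) (o.W_le hw)]; rfl
    · obtain ⟨w, hw, e⟩ := o.e_W ![0, x]
      exact ⟨w, hw, by rw [e]; rfl⟩
    · exact ⟨fun h => ⟨hv, h⟩, fun h => h.2⟩
  obtain ⟨a, ha, haY⟩ := SetLike.not_le_iff_exists.1 hAY
  have hle : o.Wj ⊓ centralizer (A : Set G) ≤ ℓ := by
    rintro w ⟨hw, hwA⟩
    refine ⟨hw, ?_⟩
    have h2 := o.e_comm (o.QY (hAQ ha)) (o.bb_spec (hAQ ha)) (o.W_le hw)
    have h3 : a * w * a⁻¹ * w⁻¹ = 1 := by
      rw [mem_centralizer_iff.1 hwA a ha]; group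
    rw [h3, o.e_one] at h2
    have h4 := congrFun h2 0
    have h5 : o.bb a * o.e w 1 = 0 := by simpa using h4.symm
    rcases mul_eq_zero.1 h5 with h6 | h6
    · exact absurd ((o.bb_ker (hAQ ha)).1 h6) haY
    · exact h6
  have c2 : Nat.card ↥(A ⊓ centralizer (o.Wj : Set G)) * Nat.card F ≤ Nat.card A := by
    have p1 : 0 < Nat.card ℓ := Nat.card_pos
    refine Nat.le_of_mul_le_mul_right (c := Nat.card ℓ) ?_ p1
    calc _ = Nat.card ↥(A ⊓ centralizer (o.Wj : Set G)) * Nat.card o.Wj := by rw [c1]; ring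
      _ ≤ _ := h1
      _ ≤ _ := Nat.mul_le_mul_left _ (Subgroup.card_le_of_le hle)
  obtain ⟨q, hq, h2⟩ := surj_of_card (K := A) (L := A ⊓ centralizer (o.Wj : Set G)) o.bb
    (fun v hv w hw => o.bb_mul (hAQ hv) (hAQ hw))
    (fun v hv h0 => ⟨hv, mem_centralizer_iff.2 fun w hw =>
      (o.o2_cent ((o.bb_ker (hAQ hv)).1 h0) (o.W_le hw)).symm⟩) c2 b
  exact ⟨q, hAQ hq, h2⟩

theorem cardQ [Finite F] (o : Co F S B Q M X L V z 𝓦 j Y) :
    Nat.card Q = 4 * Nat.card ↥(Q ⊓ centralizer (o.Wj : Set G)) := by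
  rw [card_of_hom (L := Q ⊓ centralizer (o.Wj : Set G)) inf_le_left o.bb (fun v hv w hw => o.bb_mul hv hw) o.full
    (fun v hv => (o.bb_ker hv).trans ⟨fun h => ⟨hv, mem_centralizer_iff.2 fun w hw =>
      (o.o2_cent h (o.W_le hw)).symm⟩, fun h => (o.o2W (o.cx.QB hv)).2 fun w hw =>
        (mem_centralizer_iff.1 h.2 w hw).symm⟩), o.c4, mul_comm]

/-! ### The torus -/

/-- `Y ∩ C(U / C_U(O²(Y)))` -/
def Kr (o : Co F S B Q M X L V z 𝓦 j Y) : Subgroup G := kmod Y (zl B Y) (cv B Y) o.YU o.Dn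

theorem mem_Kr (o : Co F S B Q M X L V z 𝓦 j Y) {x : G} : x ∈ o.Kr ↔ x ∈ Y ∧ ∀ v ∈ zl B Y, o.e (x * v * x⁻¹) = o.e v := by
  unfold Kr
  rw [mem_kmod]
  refine and_congr_right fun hx => forall₂_congr fun v hv => ?_
  rw [← o.e_ker (mul_mem (o.Un hx hv) (inv_mem hv)), o.e_div (o.Un hx hv) hv, sub_eq_zero]

theorem Kr_le (o : Co F S B Q M X L V z 𝓦 j Y) : o.Kr ≤ Y := kmod_le

theorem Kr_norm (o : Co F S B Q M X L V z 𝓦 j Y) : Y ≤ normalizer (o.Kr : Set G) := norm_kmod _ _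

/-- `B ∩ C(U / C_U(O²(Y))) = O₂(Y)` -/
theorem B_Kr (o : Co F S B Q M X L V z 𝓦 j Y) : B ⊓ o.Kr ≤ o2 Y := by
  rintro x ⟨hx, hk⟩
  exact o.cap' hx (mem_kmod.1 hk).2

theorem o2_Kr (o : Co F S B Q M X L V z 𝓦 j Y) : o2 Y ≤ o.Kr := fun x hx =>
  o.mem_Kr.2 ⟨MinSimple.VModule.o2_le Y hx, fun v hv => by rw [o.o2_cent hx hv, mul_inv_cancel_right]⟩

theorem o2_B (o : Co F S B Q M X L V z 𝓦 j Y) : o2 Y ≤ B := ChoiceSit.o2_le_syl o.syl

/-- `Q O₂(Y)` is a Sylow 2-subgroup of `Q O₂(Y) Kr` -/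
theorem sylR (o : Co F S B Q M X L V z 𝓦 j Y) : Syl (Q ⊔ o2 Y) ((Q ⊔ o2 Y) ⊔ o.Kr) := by
  have hRB : Q ⊔ o2 Y ≤ B := sup_le o.cx.QB o.o2_B
  have hs : Syl (B ⊓ o.Kr) o.Kr := SQ1.FFOne.syl_inf o.syl o.Kr_le fun h hh n hn => conj_mem' o.Kr_norm hh hn
  refine ⟨le_sup_left, o.B2.to_le hRB, fun T hT h2 hRT => le_antisymm (fun t ht => ?_) hRT⟩
  have hTK : T ⊓ o.Kr = B ⊓ o.Kr := hs.2.2 _ inf_le_right (h2.to_le inf_le_left)
    (le_inf ((o.B_Kr.trans le_sup_right).trans hRT) inf_le_right)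
  obtain ⟨r, hr, κ, hκ, rfl⟩ := mem_sup_norm (fun r hr => o.Kr_norm (o.BY (hRB hr))) (hT ht)
  have h3 : κ ∈ T ⊓ o.Kr := by
    refine ⟨?_, hκ⟩
    have h4 := mul_mem (inv_mem (hRT hr)) ht
    rwa [inv_mul_cancel_left] at h4
  rw [hTK] at h3
  exact mul_mem hr ((o.B_Kr.trans le_sup_right) h3)

/-- **`d ∈ N_Y(Q)` of odd order, acting as `diag(a, a⁻¹)`** -/
theorem exists_d [Finite F] [CharP F 2] (o : Co F S B Q M X L V z 𝓦 j Y) : ∃ d ∈ Y, d ∈ normalizer (Q : Set G) ∧ Odd (orderOf d) ∧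
    ∃ a : F, a ≠ 0 ∧ a ≠ 1 ∧ ∀ v ∈ zl B Y, o.e (d * v * d⁻¹) = ![a * o.e v 0, a⁻¹ * o.e v 1] := by
  classical
  have hRB : Q ⊔ o2 Y ≤ B := sup_le o.cx.QB o.o2_B
  have hRY := hRB.trans o.BY
  -- `a`
  obtain ⟨a, ha0, ha1⟩ : ∃ a : F, a ≠ 0 ∧ a ≠ 1 := by
    have := Fintype.ofFinite F
    have h4 : Fintype.card F = 4 := by rw [← Nat.card_eq_fintype_card]; exact o.c4
    by_contra hcon
    push Not at hcon
    have h5 : (Finset.univ : Finset F) ⊆ {0, 1} := fun x _ => by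
      by_cases hx : x = 0
      · simp [hx]
      · simp [hcon x hx]
    have h6 := Finset.card_le_card h5
    rw [Finset.card_univ, h4] at h6
    have h7 : ({0, 1} : Finset F).card ≤ 2 := Finset.card_le_two
    omega
  have ha3 : a ^ 3 = 1 := by
    have := Fintype.ofFinite F
    have h4 : Fintype.card F = 4 := by rw [← Nat.card_eq_fintype_card]; exact o.c4
    have h5 := FiniteField.pow_card_sub_one_eq_one a ha0
    rwa [h4] at h5
  obtain ⟨g, hg, hga⟩ := o.e_lift (dg a ha0)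
  have hga' : ∀ v ∈ zl B Y, o.e (g * v * g⁻¹) = ![a * o.e v 0, a⁻¹ * o.e v 1] := by
    intro v hv
    rw [hga v hv]
    apply ext2
    · rw [ap_zero', dg_00, dg_01]; simp
    · rw [ap_one', dg_10, dg_11]; simp
  set H : Subgroup G := (Q ⊔ o2 Y) ⊔ o.Kr with hH
  -- `g` normalises `H`
  have hgH : cj g H = H := by
    refine cj_eq_of_mem_normalizer (mem_normalizer_of_cj_le ?_)
    have h1 : cj g H = (cj g Q ⊔ cj g (o2 Y)) ⊔ cj g o.Kr := by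
      rw [hH]
      unfold cj
      rw [Subgroup.map_sup, Subgroup.map_sup]
    rw [h1, cj_eq_of_mem_normalizer (MinSimple.VModule.le_normalizer_o2 Y hg), cj_eq_of_mem_normalizer (o.Kr_norm hg)]
    refine sup_le (sup_le ?_ (le_sup_of_le_left le_sup_right)) le_sup_right
    rintro _ ⟨q, hq, rfl⟩
    change g * q * g⁻¹ ∈ H
    obtain ⟨q', hq', hb⟩ := o.full (a ^ 2 * o.bb q)
    have hgq : g * q * g⁻¹ ∈ Y := mul_mem (mul_mem hg (o.QY hq)) (inv_mem hg)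
    have h2 : (g * q * g⁻¹) * q'⁻¹ ∈ o.Kr := by
      refine o.mem_Kr.2 ⟨mul_mem hgq (inv_mem (o.QY hq')), fun v hv => ?_⟩
      have hv1 : q'⁻¹ * v * q' ∈ zl B Y := by
        have := o.Un (inv_mem (o.QY hq')) hv
        rwa [inv_inv] at this
      have hv2 : g⁻¹ * (q'⁻¹ * v * q') * g ∈ zl B Y := by
        have := o.Un (inv_mem hg) hv1
        rwa [inv_inv] at this
      set u := g⁻¹ * (q'⁻¹ * v * q') * g with hu
      have e1 : g * q * g⁻¹ * q'⁻¹ * v * (g * q * g⁻¹ * q'⁻¹)⁻¹ = g * (q * u * q⁻¹) * g⁻¹ := by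
        rw [hu]; group
      have e2 : v = q' * (g * u * g⁻¹) * q'⁻¹ := by rw [hu]; group
      have h3 := hga' _ (o.Un (o.QY hq) hv2)
      rw [e1, h3, o.bb_spec hq u hv2]
      conv_rhs => rw [e2]
      rw [o.bb_spec hq' _ (o.Un hg hv2), hb, hga' u hv2]
      apply ext2
      · rw [ap_zero', ap_zero']
        simp only [up_00, up_01, Matrix.cons_val_zero, Matrix.cons_val_one, Matrix.cons_val_fin_one]
        field_simp
      · rw [ap_one', ap_one', up_10, up_11]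
        simp
    have h3 : g * q * g⁻¹ = (g * q * g⁻¹ * q'⁻¹) * q' := by group
    rw [h3]
    exact mul_mem (mem_sup_right h2) (mem_sup_left (mem_sup_left hq'))
  -- Frattini
  have hs := o.sylR
  rw [← hH] at hs
  have hs' : Syl (cj g (Q ⊔ o2 Y)) H := by
    refine ⟨by rw [← hgH]; exact cj_mono g hs.1, isPGroup_cj g hs.2.1, fun T hT h2 hle => ?_⟩
    have h3 : cj g⁻¹ T = Q ⊔ o2 Y := by
      refine hs.2.2 _ ?_ (isPGroup_cj _ h2) ?_
      · have := cj_mono g⁻¹ hT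
        rwa [← hgH, cj_inv_cj] at this
      · have := cj_mono g⁻¹ hle
        rwa [cj_inv_cj] at this
    rw [← h3, cj_cj_inv]
  obtain ⟨x, hx, hxR⟩ := syl_conj hs' hs
  obtain ⟨r, hr, κ, hκ, rfl⟩ := mem_sup_norm (fun r hr => o.Kr_norm (hRY hr)) hx
  set d₀ := κ * g with hd₀
  have hd₀Y : d₀ ∈ Y := mul_mem (o.Kr_le hκ) hg
  have hd₀R : cj d₀ (Q ⊔ o2 Y) = Q ⊔ o2 Y := by
    have h1 : cj r (cj d₀ (Q ⊔ o2 Y)) = Q ⊔ o2 Y := by
      rw [cj_cj, hd₀, ← mul_assoc, ← cj_cj]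
      exact hxR
    have h2 := congrArg (cj r⁻¹) h1
    rw [cj_inv_cj] at h2
    rw [h2]
    exact cj_eq_of_mem_normalizer (inv_mem (Subgroup.le_normalizer hr))
  have hd₀Q : d₀ ∈ normalizer (Q : Set G) := by
    rw [mem_normalizer_iff_cj]
    refine o.cx.wc d₀ ?_
    refine (cj_mono d₀ (le_sup_left : Q ≤ Q ⊔ o2 Y)).trans ?_
    rw [hd₀R]
    exact hRB.trans o.cx.BS
  have hd₀e : ∀ v ∈ zl B Y, o.e (d₀ * v * d₀⁻¹) = ![a * o.e v 0, a⁻¹ * o.e v 1] := by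
    intro v hv
    have e1 : d₀ * v * d₀⁻¹ = κ * (g * v * g⁻¹) * κ⁻¹ := by rw [hd₀]; group
    rw [e1, (o.mem_Kr.1 hκ).2 _ (o.Un hg hv), hga' v hv]
  have hpow : ∀ n : ℕ, ∀ v ∈ zl B Y, o.e (d₀ ^ n * v * (d₀ ^ n)⁻¹) = ![a ^ n * o.e v 0, (a ^ n)⁻¹ * o.e v 1] := by
    intro n
    induction n with
    | zero =>
      intro v hv
      apply ext2 <;> simp
    | succ n ih =>
      intro v hv
      have e1 : d₀ ^ (n + 1) * v * (d₀ ^ (n + 1))⁻¹ = d₀ ^ n * (d₀ * v * d₀⁻¹) * (d₀ ^ n)⁻¹ := by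
        rw [pow_succ]; group
      rw [e1, ih _ (o.Un hd₀Y hv), hd₀e v hv]
      apply ext2
      · simp only [Matrix.cons_val_zero]
        rw [pow_succ]; ring
      · simp only [Matrix.cons_val_one, Matrix.cons_val_fin_one]
        rw [pow_succ, mul_inv]
        ring
  obtain ⟨m, r', hr', hm⟩ := Nat.exists_eq_two_pow_mul_odd (isOfFinOrder_of_finite d₀).orderOf_pos.ne'
  refine ⟨d₀ ^ 2 ^ m, pow_mem hd₀Y _, pow_mem hd₀Q _, ?_, a ^ 2 ^ m, pow_ne_zero _ ha0, fun h => ?_, hpow _⟩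
  · have h1 : orderOf (d₀ ^ 2 ^ m) = r' := by
      rw [orderOf_pow_of_dvd (by positivity) ⟨r', hm⟩, hm]
      exact Nat.mul_div_cancel_left _ (by positivity)
    rw [h1]
    exact hr'
  · have h4 : orderOf a ∣ 2 ^ m := orderOf_dvd_of_pow_eq_one h
    have h5 : orderOf a ∣ 3 := orderOf_dvd_of_pow_eq_one ha3
    have h6 : Nat.Coprime (2 ^ m) 3 := Nat.Coprime.pow_left _ (by norm_num)
    have h7 : orderOf a = 1 := Nat.eq_one_of_dvd_coprimes h6 h4 h5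
    exact ha1 (orderOf_eq_one_iff.1 h7)

end Co

end Cfsg.Agent.Omega.NO3S.WY.Tor
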