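import Cfsg.Agent.Omega.NO3S.WY.Tor.Frame
import Cfsg.Agent.Omega.NO3S.WY.Tor.Lit
import Cfsg.Agent.Omega.EK3.Base

/-!
# THEOREM TOR: the frame `Cx` over `MulL`

`MulL S P B ZJ L W Z C A 2`, `Z i = {1, z i}`, `WQ S P B Y`, `Md S P Y V`.

* `exists_z` : the generators `z i`;
* `perm_W` : `N_G(Q)` permutes the `W i` (from the fusion in `Z_J`: `Bg.fus`);
* `syl_Lam` : a 2-group `T ≥ B` which centralises all `z i`, `i ≠ j`, lies in `B`;
* `exists_t`, `exists_d`;
* `cx_of` : `Cx S B (o2 P) (GX S P Y) V (zl S P) W z`; `LO` : `V_P ≤ O₂(C_G(z i))`.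
-/

set_option autoImplicit false
set_option linter.unusedSectionVars false
set_option linter.dupNamespace false

namespace Cfsg.Agent.Omega.NO3S.WY.Tor

open Subgroup Cfsg Cfsg.Agent.ZN Cfsg.Agent.ZN.ChoiceBase Cfsg.Agent.Omega.MinPar Cfsg.Agent.Omega.Frame
open Cfsg.Agent.ZN.ChoiceSit (Syl)
open Cfsg.Agent.Omega.NO3S.Level
open Cfsg.Agent.Omega.NO3S.RedC
open Cfsg.Agent.Omega.NO3S.EThree.Frame (Bg Fg)
open Cfsg.Agent.Omega.Node.MulX (MulL)

universe u

variable {G : Type u} [Group G] [Finite G]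

section bg

variable {S : Sylow 2 G} {P B ZJ : Subgroup G} {ι : Type} {L W Z C : ι → Subgroup G}

theorem exists_z (h : Bg S P B ZJ L W Z C 2) : ∃ z : ι → G, ∀ i x, x ∈ Z i ↔ x = 1 ∨ x = z i := by
  have key : ∀ i, ∃ y : G, ∀ x, x ∈ Z i ↔ x = 1 ∨ x = y := by
    intro i
    obtain ⟨y, hy, hy1⟩ : ∃ y ∈ Z i, y ≠ 1 := by
      by_contra hcon
      push Not at hcon
      exact h.Z_ne i ((eq_bot_iff_forall _).2 hcon)
    have h2 : y ^ 2 = 1 := h.fr.Vsq (h.fr.ZV i hy)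
    have e : zpowers y = Z i := by
      refine Subgroup.eq_of_le_of_card_ge (by rwa [zpowers_le]) ?_
      rw [h.fr.cardZ, Nat.card_zpowers, orderOf_eq_prime h2 hy1]
    refine ⟨y, fun x => ⟨fun hx => ?_, ?_⟩⟩
    · rw [← e, mem_zpowers_iff] at hx
      obtain ⟨n, rfl⟩ := hx
      rcases Int.even_or_odd' n with ⟨m, rfl | rfl⟩
      · left
        rw [zpow_mul]
        have : y ^ (2 : ℤ) = 1 := by exact_mod_cast h2
        rw [this, one_zpow]
      · right
        rw [zpow_add, zpow_mul]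
        have : y ^ (2 : ℤ) = 1 := by exact_mod_cast h2
        rw [this, one_zpow, one_mul, zpow_one]
    · rintro (rfl | rfl)
      · exact one_mem _
      · exact hy
  choose z hz using key
  exact ⟨z, hz⟩

variable (h : Bg S P B ZJ L W Z C 2) {z : ι → G} (hz : ∀ i x, x ∈ Z i ↔ x = 1 ∨ x = z i)
include h hz

theorem Z_eq (i : ι) : Z i = zpowers (z i) := by
  symm
  refine Subgroup.eq_of_le_of_card_ge ?_ ?_
  · rw [zpowers_le]
    exact EK3.z_mem_Z h hz i
  · rw [h.fr.cardZ, Nat.card_zpowers, orderOf_eq_prime (EK3.z_sq h hz i) (EK3.z_ne h hz i)]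

theorem zW (i : ι) : z i ∈ W i := (h.fr.blk i).ZV (EK3.z_mem_Z h hz i)

theorem cardW (i : ι) : Nat.card (W i) = 4 := by
  rw [(h.fr.blk i).card, h.fr.cardZ]

/-- `W i = {1, z, v, vz}` for every `v ∈ W i - Z i` -/
theorem four (i : ι) {v : G} (hv : v ∈ W i) (hvZ : v ∉ Z i) {x : G} (hx : x ∈ W i) :
    x = 1 ∨ x = z i ∨ x = v ∨ x = v * z i := by
  have hzW := zW h hz i
  have hsq := fun {y : G} (hy : y ∈ W i) => h.fr.Vsq (h.fr.WV i hy)
  have hz1 := EK3.z_ne h hz i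
  have hv1 : v ≠ 1 := fun e => hvZ (e ▸ one_mem _)
  have hvz : v ≠ z i := fun e => hvZ (e ▸ EK3.z_mem_Z h hz i)
  have hzz : z i * z i = 1 := by rw [← pow_two]; exact hsq hzW
  by_contra hcon
  push Not at hcon
  obtain ⟨h1, h2, h3, h4⟩ := hcon
  have hfin : (Set.range ![(1 : G), z i, v, v * z i, x]).ncard ≤ 4 := by
    rw [← cardW h hz i]
    refine Set.ncard_le_ncard ?_ (Set.toFinite _)
    rintro _ ⟨j, rfl⟩
    fin_cases j
    · exact one_mem _
    · exact hzW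
    · exact hv
    · exact mul_mem hv hzW
    · exact hx
  have hinj : Function.Injective ![(1 : G), z i, v, v * z i, x] := by
    have hvz1 : v * z i ≠ 1 := fun e => hvz (by
      calc v = v * z i * z i := by rw [mul_assoc, hzz, mul_one]
        _ = z i := by rw [e, one_mul])
    have hvz2 : v * z i ≠ z i := fun e => hv1 (by
      calc v = v * z i * (z i)⁻¹ := by group
        _ = 1 := by rw [e, mul_inv_cancel])
    have hvz3 : v * z i ≠ v := fun e => hz1 (by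
      calc z i = v⁻¹ * (v * z i) := by group
        _ = 1 := by rw [e, inv_mul_cancel])
    intro a b hab
    fin_cases a <;> fin_cases b <;> simp_all [eq_comm]
  rw [Set.ncard_range_of_injective hinj] at hfin
  simp at hfin

/-- the `i`-th component of `c ∈ V_P` can be moved into `Z i` by an element of `P ∩ C(C i)` -/
theorem exists_move (i : ι) {w : G} (hw : w ∈ W i) : ∃ l ∈ P, l ∈ centralizer (C i : Set G) ∧ l * w * l⁻¹ ∈ Z i := by
  by_cases hw1 : w = 1
  · subst hw1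
    exact ⟨1, one_mem _, one_mem _, by simp⟩
  obtain ⟨l, hl, hlc, y, hy, e⟩ := h.tr i w hw hw1
  refine ⟨l⁻¹, inv_mem hl, inv_mem hlc, ?_⟩
  have : l⁻¹ * w * l⁻¹⁻¹ = y := by rw [← e]; group
  rwa [this]

/-- every element of `V_P` is conjugate in `P` to an element of `Z_J` -/
theorem exists_to_ZJ [Finite ι] {c : G} (hc : c ∈ zl (S : Subgroup G) P) : ∃ n ∈ P, n * c * n⁻¹ ∈ ZJ := by
  classical
  have : Fintype ι := Fintype.ofFinite ι
  have key : ∀ s : Finset ι, ∃ n ∈ P, n * c * n⁻¹ ∈ zl (S : Subgroup G) P ∧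
      ∀ i ∈ s, ∃ w ∈ Z i, ∃ d ∈ C i, n * c * n⁻¹ = w * d := by
    intro s
    induction s using Finset.induction_on with
    | empty => exact ⟨1, one_mem _, by simpa using hc, fun i hi => by simp at hi⟩
    | insert j s hj ih =>
      obtain ⟨n, hn, hnV, hns⟩ := ih
      obtain ⟨w, hw, d, hd, e⟩ := h.fr.WC j _ hnV
      obtain ⟨l, hl, hlc, hlw⟩ := exists_move h hz j hw
      have hPV : P ≤ normalizer (zl (S : Subgroup G) P : Set G) := ZN.le_normalizer_zl _ _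
      refine ⟨l * n, mul_mem hl hn, ?_, fun i hi => ?_⟩
      · have e1 : l * n * c * (l * n)⁻¹ = l * (n * c * n⁻¹) * l⁻¹ := by group
        rw [e1]
        exact (mem_normalizer_iff.1 (hPV hl) _).1 hnV
      · have e1 : l * n * c * (l * n)⁻¹ = l * (n * c * n⁻¹) * l⁻¹ := by group
        rcases Finset.mem_insert.1 hi with rfl | hi
        · refine ⟨_, hlw, d, hd, ?_⟩
          rw [e1, e]
          have h3 := mem_centralizer_iff.1 hlc d hd
          calc l * (w * d) * l⁻¹ = l * w * l⁻¹ * (l * d * l⁻¹) := by group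
            _ = l * w * l⁻¹ * d := by rw [← h3]; group
        · have hij : i ≠ j := fun e => hj (e ▸ hi)
          obtain ⟨w', hw', d', hd', e'⟩ := hns i hi
          have hlCi : l * d' * l⁻¹ ∈ C i := by
            obtain ⟨σ, hσ⟩ := h.perm l hl
            have h3 : cj l (W i) = W i := mem_normalizer_iff_cj.1 (centralizer_le_normalizer _
              (centralizer_le (h.fr.WjC j i hij.symm) hlc))
            have h4 : σ i = i := h.W_inj ((hσ i).1.symm.trans h3)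
            have h5 := (hσ i).2
            rw [h4] at h5
            rw [← h5]
            exact ⟨d', hd', rfl⟩
          refine ⟨w', hw', _, hlCi, ?_⟩
          rw [e1, e']
          have h3 := mem_centralizer_iff.1 hlc w' (h.fr.WjC j i hij.symm ((h.fr.blk i).ZV hw'))
          calc l * (w' * d') * l⁻¹ = l * w' * l⁻¹ * (l * d' * l⁻¹) := by group
            _ = w' * (l * d' * l⁻¹) := by rw [← h3]; group
  obtain ⟨n, hn, hnV, hns⟩ := key Finset.univ
  refine ⟨n, hn, (h.fr.mem_ZJ _).2 ⟨hnV, fun b hb => ?_⟩⟩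
  -- `b` fixes the components
  have h1 : b * (n * c * n⁻¹) * b⁻¹ * (n * c * n⁻¹)⁻¹ = 1 := by
    have hbV : b * (n * c * n⁻¹) * b⁻¹ ∈ zl (S : Subgroup G) P :=
      (mem_normalizer_iff.1 (h.bau_norm hb) _).1 hnV
    refine h.fr.C0 _ (mul_mem hbV (inv_mem hnV)) fun i => ?_
    obtain ⟨w, hw, d, hd, e⟩ := hns i (Finset.mem_univ i)
    rw [e]
    have h3 := (h.fr.blk i).cZ b hb w hw
    have h4 := h.fr.BC i b hb d hd
    have h5 : b * (w * d) * b⁻¹ * (w * d)⁻¹ = w * (b * d * b⁻¹ * d⁻¹) * w⁻¹ := by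
      calc b * (w * d) * b⁻¹ * (w * d)⁻¹ = (b * w) * d * b⁻¹ * d⁻¹ * w⁻¹ := by group
        _ = (w * b) * d * b⁻¹ * d⁻¹ * w⁻¹ := by rw [h3]
        _ = w * (b * d * b⁻¹ * d⁻¹) * w⁻¹ := by group
    have h6 : b * d * b⁻¹ * d⁻¹ ∈ C i := mul_mem h4 (inv_mem hd)
    rw [h5, h.fr.Vc (h.fr.WV i ((h.fr.blk i).ZV hw)) (h.fr.CV i h6), mul_assoc, mul_inv_cancel, mul_one]
    exact h6
  calc b * (n * c * n⁻¹) = b * (n * c * n⁻¹) * b⁻¹ * (n * c * n⁻¹)⁻¹ * (n * c * n⁻¹) * b := by group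
    _ = n * c * n⁻¹ * b := by rw [h1, one_mul]

/-- a `G`-conjugate of `z i` in `V_P` lies in some `W j` -/
theorem mem_W_of_conj [Finite ι] {i : ι} {g : G} (hg : g * z i * g⁻¹ ∈ zl (S : Subgroup G) P) :
    ∃ j, g * z i * g⁻¹ ∈ W j := by
  obtain ⟨n, hn, hnJ⟩ := exists_to_ZJ h hz hg
  have e1 : n * (g * z i * g⁻¹) * n⁻¹ = (n * g) * z i * (n * g)⁻¹ := by group
  obtain ⟨j, hj⟩ := h.fus (i := i) (x := n * (g * z i * g⁻¹) * n⁻¹) (g := n * g) hnJ (by
    have : (n * g)⁻¹ * (n * (g * z i * g⁻¹) * n⁻¹) * (n * g) = z i := by group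
    rw [this]
    exact EK3.z_mem_Z h hz i)
  obtain ⟨σ, hσ⟩ := h.perm n⁻¹ (inv_mem hn)
  refine ⟨σ j, ?_⟩
  rw [← (hσ j).1]
  refine ⟨_, (h.fr.blk j).ZV hj, ?_⟩
  simp only [MulEquiv.coe_toMonoidHom, MulAut.conj_apply]
  group

/-- **`N_G(V_P)` permutes the `W i`.** -/
theorem perm_W [Finite ι] {g : G} (hg : g ∈ normalizer (zl (S : Subgroup G) P : Set G)) (i : ι) :
    ∃ j, cj g (W i) = W j := by
  -- every element of `W i` goes into some `W j`
  have key : ∀ w ∈ W i, w ≠ 1 → ∃ j, g * w * g⁻¹ ∈ W j := by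
    intro w hw hw1
    obtain ⟨l, hl, -, y, hy, e⟩ := h.tr i w hw hw1
    have hy1 : y ≠ 1 := fun e1 => hw1 (by rw [← e, e1]; group)
    have hyz : y = z i := EK3.eq_z h hz hy hy1
    subst hyz
    have e1 : g * w * g⁻¹ = (g * l) * z i * (g * l)⁻¹ := by rw [← e]; group
    have h1 : (g * l) * z i * (g * l)⁻¹ ∈ zl (S : Subgroup G) P := by
      rw [← e1]
      exact (mem_normalizer_iff.1 hg _).1 (h.fr.WV i hw)
    rw [e1]
    exact mem_W_of_conj h hz h1
  have hz1 := EK3.z_ne h hz i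
  have hzW := zW h hz i
  obtain ⟨j, hj⟩ := key (z i) hzW hz1
  refine ⟨j, Subgroup.eq_of_le_of_card_ge ?_ (by rw [card_cj, cardW h hz, cardW h hz])⟩
  rintro _ ⟨w, hw, rfl⟩
  change g * w * g⁻¹ ∈ W j
  by_cases hw1 : w = 1
  · rw [hw1]; simp
  by_cases hwz : w = z i
  · rw [hwz]; exact hj
  obtain ⟨m, hm⟩ := key w hw hw1
  obtain ⟨m', hm'⟩ := key (w * z i) (mul_mem hw hzW) (fun e => hwz (by
    have h3 : w = (z i)⁻¹ := by rw [← mul_eq_one_iff_eq_inv]; exact e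
    rw [h3, inv_eq_iff_mul_eq_one, ← pow_two]
    exact EK3.z_sq h hz i))
  have hinj : ∀ x : G, x ≠ 1 → g * x * g⁻¹ ≠ 1 := fun x hx e => hx (conj_eq_one_iff.1 e)
  by_cases hmj : m = j
  · rw [← hmj]; exact hm
  exfalso
  have e2 : g * (w * z i) * g⁻¹ = (g * w * g⁻¹) * (g * z i * g⁻¹) := by group
  rw [e2] at hm'
  by_cases h3 : m' = m
  · -- then `g z g⁻¹ ∈ W m ∩ W j`
    subst h3
    have h4 : g * z i * g⁻¹ ∈ W m' := by
      have := mul_mem (inv_mem hm) hm'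
      rwa [inv_mul_cancel_left] at this
    have h5 : g * z i * g⁻¹ ∈ W m' ⊓ W j := ⟨h4, hj⟩
    rw [h.W_disj hmj, mem_bot] at h5
    exact hinj _ hz1 h5
  · -- `g w g⁻¹ ∈ W m`, the other two in `C m`
    have h4 : (g * w * g⁻¹) * (g * z i * g⁻¹) ∈ C m := h.fr.WjC m m' (Ne.symm h3) hm'
    have h5 : g * z i * g⁻¹ ∈ C m := h.fr.WjC m j hmj hj
    have h6 : g * w * g⁻¹ ∈ C m := by
      have := mul_mem h4 (inv_mem h5)
      rwa [mul_inv_cancel_right] at this
    have h7 : g * w * g⁻¹ ∈ W m ⊓ C m := ⟨hm, h6⟩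
    rw [h.fr.dir m, mem_bot] at h7
    exact hinj _ hw1 h7

/-- **`B` is a Sylow 2-subgroup of `C_G(z_i : i ≠ j)`.** -/
theorem syl_Lam [Finite ι] (j : ι) {T : Subgroup G} (hT : IsPGroup 2 T) (hB : B ≤ T)
    (hc : ∀ i, i ≠ j → ∀ x ∈ T, x * z i = z i * x) : T ≤ B := by
  have hTn := h.le_norm_B hT hB
  have h1 : ∀ x ∈ T, x * z j = z j * x := by
    intro x hx
    obtain ⟨m, hm⟩ := EK3.cj_Z h hz (hTn hx) j
    by_cases hmj : m = j
    · rw [hmj] at hm
      exact mul_inv_eq_iff_eq_mul.1 hm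
    exfalso
    apply hmj
    have h2 := hc m hmj x hx
    apply EK3.z_inj h hz
    have h3 : x * z m * x⁻¹ = z m := by rw [h2]; group
    have h4 : x * z j * x⁻¹ = x * z m * x⁻¹ := hm.trans h3.symm
    have h5 : z j = z m := by
      have := congrArg (fun t => x⁻¹ * t * x) h4
      simpa [mul_assoc] using this
    exact h5.symm
  have h2 : T ≤ centralizer (ZJ : Set G) := fun x hx => EK3.mem_cent_ZJ h hz fun i => by
    by_cases hi : i = j
    · rw [hi]; exact h1 x hx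
    · exact hc i hi x hx
  exact (h.syl_B.2.2 T h2 hT hB).le

theorem exists_W_not_Z (i : ι) : ∃ v ∈ W i, v ∉ Z i := by
  by_contra hcon
  push Not at hcon
  have h1 := Subgroup.card_le_of_le (show W i ≤ Z i from hcon)
  rw [cardW h hz, h.fr.cardZ] at h1
  omega

theorem exists_t (i : ι) : ∃ t ∈ B, (∀ j, j ≠ i → ∀ v ∈ W j, t * v = v * t) ∧ ∃ v ∈ W i, t * v ≠ v * t := by
  obtain ⟨v, hv, hvZ⟩ := exists_W_not_Z h hz i
  obtain ⟨t, ht, htc, e⟩ := h.root i v hv hvZ (z i) (EK3.z_mem_Z h hz i)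
  refine ⟨t, ht, fun j hj w hw => (mem_centralizer_iff.1 htc w (h.fr.WjC i j hj.symm hw)).symm, v, hv, fun e1 => ?_⟩
  apply EK3.z_ne h hz i
  rw [← e, e1]
  group

/-- `d_i` -/
theorem exists_d [Finite ι] (i : ι) : ∃ d ∈ P, Odd (orderOf d) ∧ (∀ j, j ≠ i → ∀ v ∈ W j, d * v = v * d) ∧
    d * z i * d⁻¹ ≠ z i := by
  obtain ⟨v, hv, hvZ⟩ := exists_W_not_Z h hz i
  have hv1 : v ≠ 1 := fun e => hvZ (e ▸ one_mem _)
  obtain ⟨t, ht, htc, et⟩ := h.root i v hv hvZ (z i) (EK3.z_mem_Z h hz i)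
  obtain ⟨l, hl, hlc, y, hy, el⟩ := h.tr i v hv hv1
  have hy1 : y ≠ 1 := fun e1 => hv1 (by rw [← el, e1]; group)
  have hyz : y = z i := EK3.eq_z h hz hy hy1
  subst hyz
  have htP : t ∈ P := h.hyp.star.isLoc.le (h.BS ht)
  -- `a` : an element of `P ∩ C(C i)` with `z ↦ v ↦ v z`
  have hzt : t * z i * t⁻¹ = z i := by
    rw [(h.fr.blk i).cZ t ht (z i) (EK3.z_mem_Z h hz i)]; group
  have hzz : z i * z i = 1 := by rw [← pow_two]; exact EK3.z_sq h hz i
  have htv : t * v * t⁻¹ = v * z i := by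
    have h1 : t * v * t⁻¹ = z i * v := by rw [← et]; group
    rw [h1]
    exact h.fr.Vc (h.fr.WV i (zW h hz i)) (h.fr.WV i hv)
  have key : ∃ a ∈ P, a ∈ centralizer (C i : Set G) ∧ ∃ v' ∈ W i, v' ∉ Z i ∧ a * z i * a⁻¹ = v' ∧
      a * v' * a⁻¹ = v' * z i := by
    have hlW : l * v * l⁻¹ ∈ W i := by
      have h1 := h.fix hl hlc i
      rw [← h1]
      exact ⟨v, hv, rfl⟩
    have hlv1 : l * v * l⁻¹ ≠ 1 := fun e => hv1 (conj_eq_one_iff.1 e)
    have hlvv : l * v * l⁻¹ ≠ v := by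
      intro e
      have h1 : l * v * l⁻¹ = l * z i * l⁻¹ := e.trans el.symm
      have h2 : v = z i := by
        have := congrArg (fun t => l⁻¹ * t * l) h1
        simpa [mul_assoc] using this
      exact hvZ (h2 ▸ EK3.z_mem_Z h hz i)
    rcases four h hz i hv hvZ hlW with h1 | h1 | h1 | h1
    · exact absurd h1 hlv1
    · -- `l` interchanges `z` and `v`: take `t l`
      refine ⟨t * l, mul_mem htP hl, mul_mem htc hlc, v * z i, mul_mem hv (zW h hz i), ?_, ?_, ?_⟩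
      · intro hcon
        apply hvZ
        have := mul_mem hcon (inv_mem (EK3.z_mem_Z h hz i))
        rwa [mul_inv_cancel_right] at this
      · calc t * l * z i * (t * l)⁻¹ = t * (l * z i * l⁻¹) * t⁻¹ := by group
          _ = v * z i := by rw [el, htv]
      · calc t * l * (v * z i) * (t * l)⁻¹ = t * ((l * v * l⁻¹) * (l * z i * l⁻¹)) * t⁻¹ := by group
          _ = t * (z i * v) * t⁻¹ := by rw [h1, el]
          _ = (t * z i * t⁻¹) * (t * v * t⁻¹) := by group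
          _ = z i * (v * z i) := by rw [hzt, htv]
          _ = v * z i * z i := by
            rw [h.fr.Vc (h.fr.WV i (zW h hz i)) (h.fr.WV i (mul_mem hv (zW h hz i)))]
    · exact absurd h1 hlvv
    · exact ⟨l, hl, hlc, v, hv, hvZ, el, h1⟩
  obtain ⟨a, ha, hac, v', hv', hvZ', e1, e2⟩ := key
  have hc : ∀ j, j ≠ i → ∀ w ∈ W j, a * w = w * a := fun j hj w hw =>
    (mem_centralizer_iff.1 hac w (h.fr.WjC i j hj.symm hw)).symm
  have e3 : a * (v' * z i) * a⁻¹ = z i := by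
    calc a * (v' * z i) * a⁻¹ = (a * v' * a⁻¹) * (a * z i * a⁻¹) := by group
      _ = v' * z i * v' := by rw [e1, e2]
      _ = z i * (v' * v') := by
        rw [h.fr.Vc (h.fr.WV i hv') (h.fr.WV i (zW h hz i)), mul_assoc]
      _ = z i := by rw [← pow_two, h.fr.Vsq (h.fr.WV i hv'), mul_one]
  -- `a` has order 3 on `z i`
  have hne1 : a * z i * a⁻¹ ≠ z i := fun e => hvZ' (by rw [← e1, e]; exact EK3.z_mem_Z h hz i)
  have e5 : a ^ 3 * z i * (a ^ 3)⁻¹ = z i := by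
    have e4 : a ^ 3 = a * a * a := by rw [pow_succ, pow_two]
    calc a ^ 3 * z i * (a ^ 3)⁻¹ = a * (a * (a * z i * a⁻¹) * a⁻¹) * a⁻¹ := by rw [e4]; group
      _ = z i := by rw [e1, e2, e3]
  -- the odd part of `a`
  set n := orderOf a with hn
  have hn0 : n ≠ 0 := (orderOf_pos a).ne'
  obtain ⟨s, m, hm, hnm⟩ := Nat.exists_eq_two_pow_mul_odd hn0
  refine ⟨a ^ 2 ^ s, pow_mem ha _, ?_, fun j hj w hw => ?_, ?_⟩
  · rw [orderOf_pow' a (by positivity), ← hn, hnm]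
    have : Nat.gcd (2 ^ s * m) (2 ^ s) = 2 ^ s := Nat.gcd_mul_right_left _ _
    rw [this, Nat.mul_div_cancel_left _ (by positivity)]
    exact hm
  · exact Commute.pow_left (show Commute a w from hc j hj w hw) _
  · -- `2 ^ s` is prime to `3`
    intro e
    apply hne1
    -- stabiliser of `z i`
    have hst1 : a ^ 3 ∈ centralizer ({z i} : Set G) := by
      rw [mem_centralizer_singleton_iff]
      exact mul_inv_eq_iff_eq_mul.1 e5
    have hst2 : a ^ 2 ^ s ∈ centralizer ({z i} : Set G) := by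
      rw [mem_centralizer_singleton_iff]
      exact mul_inv_eq_iff_eq_mul.1 e
    have hcop : Nat.Coprime 3 (2 ^ s) := Nat.Coprime.pow_right _ (by norm_num)
    have hgcd := Nat.gcd_eq_gcd_ab 3 (2 ^ s)
    rw [hcop] at hgcd
    have : a ∈ centralizer ({z i} : Set G) := by
      have e6 : a = (a ^ 3) ^ (Nat.gcdA 3 (2 ^ s)) * (a ^ 2 ^ s) ^ (Nat.gcdB 3 (2 ^ s)) := by
        have e7 : a = a ^ (1 : ℤ) := (zpow_one a).symm
        conv_lhs => rw [e7]
        have e8 : (1 : ℤ) = (3 : ℕ) * Nat.gcdA 3 (2 ^ s) + ((2 ^ s : ℕ) : ℤ) * Nat.gcdB 3 (2 ^ s) := by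
          exact_mod_cast hgcd
        conv_lhs => rw [e8]
        rw [zpow_add, zpow_mul, zpow_mul, zpow_natCast, zpow_natCast]
      rw [e6]
      exact mul_mem (zpow_mem hst1 _) (zpow_mem hst2 _)
    rw [mul_inv_eq_iff_eq_mul]
    exact mem_centralizer_singleton_iff.1 this

theorem W_le_VV_C (i : ι) : VV W i ≤ C i := iSup_le fun j => iSup_le fun hj => h.fr.WjC i j (Ne.symm hj)

end bg

/-- `V_P ≤ O₂(C_G(z_i))` -/
theorem L_le_o2_cent {S : Sylow 2 G} {P B ZJ : Subgroup G} {ι : Type} [Finite ι] {L W Z C : ι → Subgroup G}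
    (h : Bg S P B ZJ L W Z C 2) {z : ι → G} (hz : ∀ i x, x ∈ Z i ↔ x = 1 ∨ x = z i) (i : ι) :
    zl (S : Subgroup G) P ≤ o2 (centralizer ({z i} : Set G)) := by
  have e : normalizer (Z i : Set G) = centralizer ({z i} : Set G) := by
    ext x
    rw [mem_centralizer_singleton_iff]
    constructor
    · intro hx
      have h1 := (mem_normalizer_iff.1 hx (z i)).1 (EK3.z_mem_Z h hz i)
      have h2 := EK3.eq_z h hz h1 (fun e => EK3.z_ne h hz i (conj_eq_one_iff.1 e))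
      exact mul_inv_eq_iff_eq_mul.1 h2
    · intro hx
      have h2 : x ∈ centralizer (Z i : Set G) := by
        rw [mem_centralizer_iff]
        intro y hy
        rcases (hz i y).1 hy with rfl | rfl
        · simp
        · exact hx.symm
      exact centralizer_le_normalizer _ h2
  rw [← e]
  exact h.V_le i

/-- **The frame `Cx` of THEOREM TOR over `MulL`.** -/
theorem cx_of {S : Sylow 2 G} {P B ZJ Y V : Subgroup G} {k : ℕ} {L W Z C A : Fin k → Subgroup G}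
    (h : MulL S P B ZJ L W Z C A 2) (hY : WQ S P B Y) (hV : Md S P Y V) {z : Fin k → G}
    (hz : ∀ i x, x ∈ Z i ↔ x = 1 ∨ x = z i) :
    Cx (S : Subgroup G) B (o2 P) (GX (S : Subgroup G) P Y) V (zl (S : Subgroup G) P) W z where
  char2 := h.cl.ctx.char2
  S2 := S.isPGroup'
  Sidx := by
    have : Fact (Nat.Prime 2) := ⟨Nat.prime_two⟩
    exact S.not_dvd_index
  SM := hY.S_le
  MX := hV.norm
  XS := hV.le.trans hY.V_le_S
  Xc := fun x hx y hy => Lev.zc_comm (hV.le hx) (hV.le hy)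
  Xs := fun x hx => by rw [← pow_two]; exact hY.V_sq x (hV.le hx)
  LX := hY.L_le_zl.trans hV.ge
  QB := h.bg.fr.QB
  BS := h.bg.BS
  cXQ := fun x hx hc => by
    rw [← hY.cvQ]
    exact ⟨hV.le hx, mem_centralizer_iff.2 hc⟩
  cQL := fun q hq l hl => h.bg.fr.cQ hq hl
  cSL := fun s hs hc => by
    rw [← IsParS.inf_centralizer S h.cl.ctx.char2 h.cl.pss.par]
    exact ⟨hs, mem_centralizer_iff.2 fun l hl => (hc l hl).symm⟩
  wc := fun g hg => h.cl.wc.eq g hg
  perm := fun g hg i => perm_W h.bg hz (h.cl.norm_o2_le hg) i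
  eL := le_antisymm (Cfsg.Agent.Omega.Node.MultiOf.Fg_V_le h.bg.fr) (iSup_le h.bg.fr.WV)
  ind := fun i => le_bot_iff.1 ((inf_le_inf_left _ (W_le_VV_C h.bg hz i)).trans (h.bg.fr.dir i).le)
  cV := fun i => cardW h.bg hz i
  zV := fun i => zW h.bg hz i
  z1 := fun i => EK3.z_ne h.bg hz i
  zS := fun s hs i => EK3.cj_Z h.bg hz (h.bg.S_norm_B hs) i
  Bz := fun b hb i => (h.bg.fr.blk i).cZ b hb _ (EK3.z_mem_Z h.bg hz i)
  memB := fun s hs hc => by
    rw [h.bg.eqB]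
    exact ⟨hs, EK3.mem_cent_ZJ h.bg hz hc⟩
  t := fun i => exists_t h.bg hz i
  d := fun i => by
    obtain ⟨d, hd, h1, h2, h3⟩ := exists_d h.bg hz i
    exact ⟨d, hY.P_le hd, MinSimple.VModule.le_normalizer_o2 P hd, h1, h2, h3⟩
  tr := fun i j => h.bg.trans i j
  LO := fun i => L_le_o2_cent h.bg hz i
  sylB := fun j T hT hB hc => syl_Lam h.bg hz j hT hB hc

end Cfsg.Agent.Omega.NO3S.WY.Tor
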