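import Cfsg.Agent.Omega.OM.Lev.Low.TorusK.Sig
import Cfsg.Agent.Omega.OM.Lev.Low.TorusK.EndK
import Cfsg.Agent.MinSimple.MinParabolic

/-!
# THEOREM TOR (helper474 #25011, `q = 2`, every `k ≥ 2`): (Sig) and (6)

`L = V_P = ∏ V i`, `z i ∈ V i`, `B = C_S(z i : i)`; `W = W_j` is a natural `SL₂(4)`-module for `K Q`, `V j = C_W(Q)`
(`j = i₀`); `W^s` depends only on `(V j)^s` (`WS`, (2+) of helper491 #25169 or (chi)); `K` centralises the other `W^s`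
(`KC`, (4+)).  Every `S`-minimal `R ≤ ⟨K, S⟩` normalises `L` or centralises `z₀ = ∏ z i`.

* `Dat.sig` : `N_S(V j)` permutes the five lines of `W` (472's `Sig.N4.sig`);
* `Dat.false` : the contradiction (`EndK.Sys.false_of`).
-/

set_option autoImplicit false
set_option linter.unusedSectionVars false

namespace Cfsg.Agent.Omega.NO3S.WY.Tor.End

open Subgroup Cfsg Cfsg.Agent.ZN.ChoiceBase Cfsg.Agent.MinSimple.MinParabolic
open Cfsg.Agent.Omega.OM.Lev.Low.TorusK (Sig.N4)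
open Cfsg.Agent.Omega.OM.Lev.Low.TorusK.EndK (Sys)

universe u

variable {G : Type u} [Group G] {ι : Type*}

/-- The situation of (5), (6). -/
structure Dat (S Q B L K W : Subgroup G) (V : ι → Subgroup G) (z : ι → G) (z₀ : G) (i₀ : ι) : Prop where
  two : IsPGroup 2 S
  syl : ¬ 2 ∣ S.index
  nS : normalizer (S : Set G) ≤ normalizer (L : Set G)
  par : ∀ R : Subgroup G, IsMinPar S R → R ≤ K ⊔ S →
    R ≤ normalizer (L : Set G) ∨ ∀ r ∈ R, r * z₀ = z₀ * r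
  LV : L = ⨆ i, V i
  dir : ∀ i, V i ⊓ (⨆ j, ⨆ (_ : j ≠ i), V j) = ⊥
  perm : ∀ s ∈ S, ∀ i, ∃ j, cj s (V i) = V j
  tr : ∀ i, ∃ s ∈ S, cj s (V i₀) = V i
  zV : ∀ i, z i ∈ V i
  z1 : z i₀ ≠ 1
  z0 : ∀ i, ∃ y ∈ (⨆ j, ⨆ (_ : j ≠ i), V j), z₀ = z i * y
  zs : ∀ s ∈ S, ∀ i, cj s (V i₀) = V i → s * z i₀ * s⁻¹ = z i
  QB : Q ≤ B
  BS : B ≤ S
  SB : S ≤ normalizer (B : Set G)
  SQ : S ≤ normalizer (Q : Set G)
  Bz : ∀ i, ∀ b ∈ B, b * z i = z i * b
  /-- `B` is a Sylow 2-subgroup of `C_G(z i : i ≠ i₀)` -/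
  Bsyl : ∀ T : Subgroup G, IsPGroup 2 T → B ≤ T → (∀ i, i ≠ i₀ → ∀ t ∈ T, t * z i = z i * t) → T ≤ B
  Bmv : ∃ t ∈ B, ∃ v ∈ V i₀, t * v ≠ v * t
  BK : B ≤ normalizer (K : Set G)
  nat : Sig.N4 Q (K ⊔ Q) W (V i₀)
  /-- (2+) -/
  WS : ∀ s ∈ S, cj s (V i₀) = V i₀ → cj s W = W
  /-- (4+) -/
  KC : ∀ s ∈ S, cj s (V i₀) ≠ V i₀ → K ≤ centralizer ((cj s W : Subgroup G) : Set G)
  Wc : ∀ s ∈ S, ∀ w ∈ W, ∀ w' ∈ W, w * (s * w' * s⁻¹) = s * w' * s⁻¹ * w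

theorem inj_cj {g : G} {H K : Subgroup G} (h : cj g H = cj g K) : H = K := by
  rw [← cj_inv_cj g H, h, cj_inv_cj]

theorem mem_cj_of {g x : G} {H : Subgroup G} (hx : x ∈ H) : g * x * g⁻¹ ∈ cj g H := ⟨x, hx, rfl⟩

theorem exists_of_mem_cj {g x : G} {H : Subgroup G} (hx : x ∈ cj g H) : ∃ y ∈ H, x = g * y * g⁻¹ := by
  obtain ⟨y, hy, e⟩ := hx
  exact ⟨y, hy, e.symm⟩

theorem cj_eq_of_centralizer {g : G} {H : Subgroup G} (h : g ∈ centralizer (H : Set G)) : cj g H = H :=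
  cj_eq_of_mem_normalizer (centralizer_le_normalizer _ h)

theorem exists_fix [Finite G] {P M : Subgroup G} (hP : IsPGroup 2 P) (hM : IsPGroup 2 M) (hM1 : M ≠ ⊥)
    (hn : ∀ x ∈ P, ∀ v ∈ M, x * v * x⁻¹ ∈ M) : ∃ v ∈ M, v ≠ 1 ∧ ∀ x ∈ P, x * v * x⁻¹ = v := by
  have : Fact (Nat.Prime 2) := ⟨Nat.prime_two⟩
  let act : MulAction P M :=
    { smul := fun x v => ⟨(x : G) * v * (x : G)⁻¹, hn x x.2 v v.2⟩
      one_smul := fun v => Subtype.ext (by show (1 : G) * v * (1 : G)⁻¹ = v; group)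
      mul_smul := fun x y v => Subtype.ext (by
        show ((x : G) * y) * v * ((x : G) * y)⁻¹ = x * (y * v * (y : G)⁻¹) * (x : G)⁻¹; group) }
  have h2 : 2 ∣ Nat.card M := by
    obtain ⟨n, hn⟩ := IsPGroup.iff_card.1 hM
    rcases Nat.eq_zero_or_pos n with h0 | h0
    · rw [h0, pow_zero] at hn
      exact absurd (Subgroup.card_eq_one.1 hn) hM1
    · rw [hn]; exact dvd_pow_self 2 h0.ne'
  obtain ⟨v, hv, hv1⟩ := hP.exists_fixed_point_of_prime_dvd_card_of_fixed_point M h2 (a := (1 : M))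
    (fun x => Subtype.ext (by show (x : G) * 1 * (x : G)⁻¹ = 1; group))
  exact ⟨v, v.2, fun h => hv1 (Subtype.ext h.symm), fun x hx => congrArg Subtype.val (hv ⟨x, hx⟩)⟩

namespace Dat

variable {S Q B L K W : Subgroup G} {V : ι → Subgroup G} {z : ι → G} {z₀ : G} {i₀ : ι}
  (h : Dat S Q B L K W V z z₀ i₀)
include h

theorem QS : Q ≤ S := h.QB.trans h.BS

theorem KW : K ≤ normalizer (W : Set G) := le_sup_left.trans h.nat.KV

theorem QW : Q ≤ normalizer (W : Set G) := le_sup_right.trans h.nat.KV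

/-- the element of `S` which maps `V i₀` to `V i` -/
noncomputable def g (i : ι) : G := (h.tr i).choose

theorem gS (i : ι) : h.g i ∈ S := (h.tr i).choose_spec.1

theorem gV (i : ι) : cj (h.g i) (V i₀) = V i := (h.tr i).choose_spec.2

/-- `W i` -/
noncomputable def Wi (i : ι) : Subgroup G := cj (h.g i) W

/-- `W^s` depends only on `(V i₀)^s` -/
theorem W_eq {s s' : G} (hs : s ∈ S) (hs' : s' ∈ S) (e : cj s (V i₀) = cj s' (V i₀)) : cj s W = cj s' W := by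
  have h1 : cj (s'⁻¹ * s) (V i₀) = V i₀ := by rw [← cj_cj, e, cj_inv_cj]
  have h2 := h.WS _ (mul_mem (inv_mem hs') hs) h1
  rw [← cj_cj] at h2
  have h3 := congrArg (cj s') h2
  rwa [cj_cj_inv] at h3

theorem Wi_eq {s : G} (hs : s ∈ S) {i : ι} (e : cj s (V i₀) = V i) : cj s W = h.Wi i :=
  h.W_eq hs (h.gS i) (e.trans (h.gV i).symm)

theorem z_ne (i : ι) : z i ≠ 1 := by
  intro e
  have h1 := h.zs _ (h.gS i) i (h.gV i)
  rw [e] at h1
  apply h.z1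
  have h2 : z i₀ = (h.g i)⁻¹ * (h.g i * z i₀ * (h.g i)⁻¹) * h.g i := by group
  rw [h2, h1]; group

theorem V_inj {i j : ι} (e : V i = V j) : i = j := by
  by_contra hne
  have h1 : V i ≤ ⨆ l, ⨆ (_ : l ≠ i), V l := by
    rw [e]
    exact le_iSup₂_of_le (f := fun l (_ : l ≠ i) => V l) j (Ne.symm hne) le_rfl
  have h2 : z i ∈ V i ⊓ ⨆ l, ⨆ (_ : l ≠ i), V l := ⟨h.zV i, h1 (h.zV i)⟩
  rw [h.dir i, mem_bot] at h2
  exact h.z_ne i h2

theorem Wi₀ : h.Wi i₀ = W := by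
  have h1 := h.Wi_eq (one_mem S) (i := i₀) (cj_one _)
  rw [← h1, cj_one]

theorem V_le (i : ι) : V i ≤ h.Wi i := by
  have h1 := cj_mono (h.g i) h.nat.V1V
  rwa [h.gV i] at h1

/-- `S` permutes the `W i` as the `V i` -/
theorem Wi_perm {s : G} (hs : s ∈ S) {i j : ι} (e : cj s (V i) = V j) : cj s (h.Wi i) = h.Wi j := by
  rw [Wi, cj_cj]
  refine h.Wi_eq (mul_mem hs (h.gS i)) ?_
  rw [← cj_cj, h.gV i, e]

/-- `K^(g i)` centralises `W l`, `l ≠ i` -/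
theorem K_cent {i l : ι} (hl : l ≠ i) {k : G} (hk : k ∈ K) :
    h.g i * k * (h.g i)⁻¹ ∈ centralizer (h.Wi l : Set G) := by
  have h1 : cj ((h.g i)⁻¹ * h.g l) (V i₀) ≠ V i₀ := by
    intro e
    rw [← cj_cj, h.gV l] at e
    have h2 := congrArg (cj (h.g i)) e
    rw [cj_cj_inv, h.gV i] at h2
    exact hl (h.V_inj h2)
  have h2 := h.KC _ (mul_mem (inv_mem (h.gS i)) (h.gS l)) h1 hk
  rw [mem_centralizer_iff] at h2 ⊢
  intro w hw
  obtain ⟨y, hy, rfl⟩ := exists_of_mem_cj hw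
  have h3 := h2 ((h.g i)⁻¹ * h.g l * y * ((h.g i)⁻¹ * h.g l)⁻¹) (mem_cj_of hy)
  calc h.g l * y * (h.g l)⁻¹ * (h.g i * k * (h.g i)⁻¹)
      = h.g i * ((h.g i)⁻¹ * h.g l * y * ((h.g i)⁻¹ * h.g l)⁻¹ * k) * (h.g i)⁻¹ := by group
    _ = h.g i * (k * ((h.g i)⁻¹ * h.g l * y * ((h.g i)⁻¹ * h.g l)⁻¹)) * (h.g i)⁻¹ := by rw [h3]
    _ = h.g i * k * (h.g i)⁻¹ * (h.g l * y * (h.g l)⁻¹) := by group

theorem K_cent₀ {l : ι} (hl : l ≠ i₀) {k : G} (hk : k ∈ K) : k ∈ centralizer (h.Wi l : Set G) := by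
  have h2 := h.KC _ (h.gS l) (by rw [h.gV l]; exact fun e => hl (h.V_inj e)) hk
  exact h2

/-- the `W i` commute -/
theorem Wi_comm (i l : ι) : ∀ u ∈ h.Wi i, ∀ v ∈ h.Wi l, u * v = v * u := by
  intro u hu v hv
  obtain ⟨a, ha, rfl⟩ := exists_of_mem_cj hu
  obtain ⟨b, hb, rfl⟩ := exists_of_mem_cj hv
  have h1 := h.Wc _ (mul_mem (inv_mem (h.gS i)) (h.gS l)) a ha b hb
  calc h.g i * a * (h.g i)⁻¹ * (h.g l * b * (h.g l)⁻¹)
      = h.g i * (a * ((h.g i)⁻¹ * h.g l * b * ((h.g i)⁻¹ * h.g l)⁻¹)) * (h.g i)⁻¹ := by group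
    _ = h.g i * ((h.g i)⁻¹ * h.g l * b * ((h.g i)⁻¹ * h.g l)⁻¹ * a) * (h.g i)⁻¹ := by rw [h1]
    _ = h.g l * b * (h.g l)⁻¹ * (h.g i * a * (h.g i)⁻¹) := by group

/-- `B` normalises the `V i` -/
theorem BV (i : ι) : B ≤ normalizer (V i : Set G) := by
  intro b hb
  rw [mem_normalizer_iff_cj]
  obtain ⟨j, hj⟩ := h.perm b (h.BS hb) i
  by_cases e : j = i
  · rw [hj, e]
  · exfalso
    have h1 : b * z i * b⁻¹ ∈ V j := by rw [← hj]; exact mem_cj_of (h.zV i)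
    have h2 : b * z i * b⁻¹ = z i := by rw [h.Bz i b hb]; group
    rw [h2] at h1
    have h3 : z i ∈ V i ⊓ ⨆ l, ⨆ (_ : l ≠ i), V l :=
      ⟨h.zV i, le_iSup₂_of_le (f := fun l (_ : l ≠ i) => V l) j e le_rfl h1⟩
    rw [h.dir i, mem_bot] at h3
    exact h.z_ne i h3

/-- `B` normalises the `W i` -/
theorem BW (i : ι) {b : G} (hb : b ∈ B) : cj b (h.Wi i) = h.Wi i :=
  h.Wi_perm (h.BS hb) (cj_eq_of_mem_normalizer (h.BV i hb))

/-- **(Sig)** -/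
theorem sig [Finite G] : ∀ s ∈ S, cj s (V i₀) = V i₀ → ∀ k ∈ K ⊔ Q, ∃ k' ∈ K ⊔ Q,
    cj s (cj k (V i₀)) = cj k' (V i₀) := by
  intro s hs hsV
  have hS1 : S ⊓ normalizer (V i₀ : Set G) ≤ S := inf_le_left
  have hz : ∀ x ∈ S ⊓ normalizer (V i₀ : Set G), x * z i₀ = z i₀ * x := by
    rintro x ⟨hx, hxn⟩
    have h1 := h.zs x hx i₀ (cj_eq_of_mem_normalizer hxn)
    calc x * z i₀ = x * z i₀ * x⁻¹ * x := by group
      _ = z i₀ * x := by rw [h1]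
  obtain ⟨t, ht, hmv⟩ := h.Bmv
  have hBV := h.BV i₀
  refine h.nat.sig (S1 := S ⊓ normalizer (V i₀ : Set G)) (B := B) (h.two.to_le inf_le_left) (le_inf h.BS hBV) h.QB
    (inf_le_left.trans h.SB) (inf_le_left.trans h.SQ) ?_ inf_le_right ?_ (h.zV i₀) h.z1 hz ht hmv ?_ s
    ⟨hs, mem_normalizer_iff_cj.2 hsV⟩
  · rintro x ⟨hx, hxn⟩
    exact mem_normalizer_iff_cj.2 (h.WS x hx (cj_eq_of_mem_normalizer hxn))
  · intro b hb k hk
    have h1 := h.BK hb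
    have h2 := h.SQ (h.BS hb)
    have h3 : b ∈ normalizer ((K ⊔ Q : Subgroup G) : Set G) := by
      rw [mem_normalizer_iff_cj] at h1 h2 ⊢
      rw [show cj b (K ⊔ Q) = cj b K ⊔ cj b Q from Subgroup.map_sup _ _ _, h1, h2]
    refine ⟨b * k * b⁻¹, (mem_normalizer_iff.1 h3 k).1 hk, ?_⟩
    conv_rhs => rw [← cj_eq_of_mem_normalizer (hBV hb)]
    rw [cj_cj, cj_cj, inv_mul_cancel_right]
  · rintro x ⟨hx, hxn⟩ T hT hBT hTle
    refine h.Bsyl T hT hBT fun i hi t ht => ?_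
    have hxV := cj_eq_of_mem_normalizer hxn
    -- everything commutes with `z i`
    have hKz : ∀ l, l ≠ i₀ → ∀ k ∈ K ⊔ Q, k * z l = z l * k := by
      intro l hl k hk
      have h1 : K ⊔ Q ≤ centralizer ({z l} : Set G) := by
        refine sup_le (fun k hk => ?_) fun q hq => ?_
        · have h2 := mem_centralizer_iff.1 (h.K_cent₀ hl hk) _ (h.V_le l (h.zV l))
          exact mem_centralizer_singleton_iff.2 h2.symm
        · exact mem_centralizer_singleton_iff.2 (h.Bz l q (h.QB hq))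
      exact mem_centralizer_singleton_iff.1 (h1 hk)
    have h1 : (K ⊔ Q) ⊔ cj x (K ⊔ Q) ⊔ B ≤ centralizer ({z i} : Set G) := by
      refine sup_le (sup_le (fun k hk => mem_centralizer_singleton_iff.2 (hKz i hi k hk)) ?_) fun b hb =>
        mem_centralizer_singleton_iff.2 (h.Bz i b hb)
      rintro _ ⟨k, hk, rfl⟩
      rw [mem_centralizer_singleton_iff]
      -- `x⁻¹ z i x = z l`
      obtain ⟨l, hl⟩ := h.perm x⁻¹ (inv_mem hx) i
      have hli : l ≠ i₀ := by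
        rintro rfl
        have h2 := congrArg (cj x) hl
        rw [cj_cj_inv, hxV] at h2
        exact hi (h.V_inj h2)
      have h3 : x⁻¹ * z i * x = z l := by
        have h4 := h.zs _ (h.gS i) i (h.gV i)
        have h5 := h.zs (x⁻¹ * h.g i) (mul_mem (inv_mem hx) (h.gS i)) l (by rw [← cj_cj, h.gV i, hl])
        rw [← h4, ← h5]; group
      have h4 := hKz l hli k hk
      show x * k * x⁻¹ * z i = z i * (x * k * x⁻¹)
      calc x * k * x⁻¹ * z i = x * (k * (x⁻¹ * z i * x)) * x⁻¹ := by group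
        _ = x * ((x⁻¹ * z i * x) * k) * x⁻¹ := by rw [h3, h4]
        _ = z i * (x * k * x⁻¹) := by group
    exact mem_centralizer_singleton_iff.1 (h1 (hTle ht))

/-- the lines of `W i` -/
def Sp (i : ι) : Set (Subgroup G) := {ℓ | ∃ k ∈ K ⊔ Q, ℓ = cj (h.g i) (cj k (V i₀))}

theorem mem_Sp [Finite G] {s k : G} (hs : s ∈ S) {i : ι} (e : cj s (V i₀) = V i) (hk : k ∈ K ⊔ Q) :
    cj s (cj k (V i₀)) ∈ h.Sp i := by
  have h1 : cj ((h.g i)⁻¹ * s) (V i₀) = V i₀ := by rw [← cj_cj, e, ← h.gV i, cj_inv_cj]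
  obtain ⟨k', hk', h2⟩ := h.sig _ (mul_mem (inv_mem (h.gS i)) hs) h1 k hk
  refine ⟨k', hk', ?_⟩
  rw [← h2, cj_cj (h.g i), mul_inv_cancel_left]

theorem line_le (k : G) (hk : k ∈ K ⊔ Q) : cj k (V i₀) ≤ W := by
  have h1 := cj_mono k h.nat.V1V
  rwa [cj_eq_of_mem_normalizer (h.nat.KV hk)] at h1

theorem Sp_le {i : ι} {ℓ : Subgroup G} (hℓ : ℓ ∈ h.Sp i) : ℓ ≤ h.Wi i := by
  obtain ⟨k, hk, rfl⟩ := hℓ
  exact cj_mono _ (h.line_le k hk)

/-- `P g` : `g` permutes the `(W i, Sp i)` -/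
def Pm (x : G) : Prop := ∀ i, ∃ j, cj x (h.Wi i) = h.Wi j ∧ ∀ ℓ ∈ h.Sp i, cj x ℓ ∈ h.Sp j

theorem pm_one : h.Pm 1 := fun i => ⟨i, cj_one _, fun ℓ hℓ => by rw [cj_one]; exact hℓ⟩

theorem pm_mul {x y : G} (hx : h.Pm x) (hy : h.Pm y) : h.Pm (x * y) := by
  intro i
  obtain ⟨j, h1, h2⟩ := hy i
  obtain ⟨l, h3, h4⟩ := hx j
  refine ⟨l, by rw [← cj_cj, h1, h3], fun ℓ hℓ => ?_⟩
  rw [← cj_cj]
  exact h4 _ (h2 _ hℓ)

theorem pm_pow {x : G} (hx : h.Pm x) (n : ℕ) : h.Pm (x ^ n) := by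
  induction n with
  | zero => rw [pow_zero]; exact h.pm_one
  | succ n ih => rw [pow_succ]; exact h.pm_mul ih hx

theorem pm_inv [Finite G] {x : G} (hx : h.Pm x) : h.Pm x⁻¹ := by
  have h1 : x⁻¹ = x ^ (orderOf x - 1) := by
    rw [inv_eq_iff_mul_eq_one, ← pow_succ', Nat.sub_add_cancel (orderOf_pos x), pow_orderOf_eq_one]
  rw [h1]
  exact h.pm_pow hx _

theorem pm_S [Finite G] {s : G} (hs : s ∈ S) : h.Pm s := by
  intro i
  obtain ⟨j, hj⟩ := h.perm s hs i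
  refine ⟨j, h.Wi_perm hs hj, ?_⟩
  rintro _ ⟨k, hk, rfl⟩
  rw [cj_cj]
  exact h.mem_Sp (mul_mem hs (h.gS i)) (by rw [← cj_cj, h.gV i, hj]) hk

theorem pm_K [Finite G] {k : G} (hk : k ∈ K) : h.Pm k := by
  intro i
  refine ⟨i, ?_⟩
  by_cases e : i = i₀
  · subst e
    refine ⟨by rw [h.Wi₀]; exact cj_eq_of_mem_normalizer (h.KW hk), ?_⟩
    rintro _ ⟨k', hk', rfl⟩
    obtain ⟨k'', hk'', h1⟩ := h.sig _ (h.gS i) (h.gV i) k' hk'
    rw [h1, cj_cj]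
    have h2 := h.mem_Sp (one_mem S) (cj_one (V i)) (mul_mem (mem_sup_left hk) hk'')
    rwa [cj_one] at h2
  · have h1 := h.K_cent₀ e hk
    refine ⟨cj_eq_of_centralizer h1, fun ℓ hℓ => ?_⟩
    rw [cj_eq_of_centralizer (centralizer_le (h.Sp_le hℓ) h1)]
    exact hℓ

theorem pm [Finite G] : ∀ x ∈ K ⊔ S, h.Pm x := by
  let H : Subgroup G :=
    { carrier := {x | h.Pm x}
      one_mem' := h.pm_one
      mul_mem' := fun hx hy => h.pm_mul hx hy
      inv_mem' := fun hx => h.pm_inv hx }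
  have h1 : K ⊔ S ≤ H := sup_le (fun k hk => h.pm_K hk) fun s hs => h.pm_S hs
  exact fun x hx => h1 hx

/-- a point of `W` fixed by `K` and `Q` is trivial -/
theorem fix_one [Finite G] {w : G} (hw : w ∈ W) (hc : ∀ k ∈ K ⊔ Q, k * w = w * k) : w = 1 := by
  obtain ⟨l, hl, hmv⟩ := h.nat.mv
  -- `Q` moves `W`
  have h1 : ∃ b ∈ Q, ∃ v ∈ W, b * v ≠ v * b := by
    by_contra hcon
    push Not at hcon
    have h2 : Q ⊓ centralizer (W : Set G) = Q := inf_eq_left.2 fun b hb => mem_centralizer_iff.2 fun v hv =>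
      (hcon b hb v hv).symm
    have h3 := h.nat.cardB
    rw [h2] at h3
    have h4 : 0 < Nat.card Q := Nat.card_pos
    omega
  obtain ⟨b, hb, v, hv, hne⟩ := h1
  have h2 := h.nat.cent b hb ⟨v, hv, hne⟩ w hw (hc b (mem_sup_right hb))
  refine h.nat.opp l hl hmv w h2 ?_
  rw [hc l hl]
  simpa using h2

/-- the product of the `W i` is direct -/
theorem dirW [Finite G] (i : ι) : h.Wi i ⊓ ⨆ (l) (_ : l ≠ i), h.Wi l = ⊥ := by
  by_contra hne
  have hn : ∀ x ∈ Q, ∀ v ∈ h.Wi i ⊓ ⨆ (l) (_ : l ≠ i), h.Wi l, x * v * x⁻¹ ∈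
      h.Wi i ⊓ ⨆ (l) (_ : l ≠ i), h.Wi l := by
    rintro x hx v ⟨hv, hv'⟩
    refine ⟨?_, ?_⟩
    · have h1 := h.BW i (h.QB hx)
      rw [← h1]
      exact mem_cj_of hv
    · have h1 : cj x (⨆ (l) (_ : l ≠ i), h.Wi l) ≤ ⨆ (l) (_ : l ≠ i), h.Wi l := by
        rw [cj_le_iff]
        refine iSup₂_le fun l hl => ?_
        rw [← cj_le_iff, h.BW l (h.QB hx)]
        exact le_iSup₂_of_le (f := fun l (_ : l ≠ i) => h.Wi l) l hl le_rfl
      exact h1 (mem_cj_of hv')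
  have hp : IsPGroup 2 (h.Wi i ⊓ ⨆ (l) (_ : l ≠ i), h.Wi l : Subgroup G) := fun x => ⟨1, by
    obtain ⟨w, hw, e⟩ := exists_of_mem_cj x.2.1
    have h1 := h.nat.el.2 w hw
    refine Subtype.ext ?_
    show (x : G) ^ (2 ^ 1) = 1
    rw [e, pow_one]
    calc (h.g i * w * (h.g i)⁻¹) ^ 2 = h.g i * w ^ 2 * (h.g i)⁻¹ := by rw [pow_two, pow_two]; group
      _ = 1 := by rw [h1]; group⟩
  obtain ⟨v, ⟨hv, hv'⟩, hv1, hvf⟩ := exists_fix (h.two.to_le h.QS) hp hne hn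
  · obtain ⟨w, hw, rfl⟩ := exists_of_mem_cj hv
    apply hv1
    have h1 : w = 1 := by
      refine h.fix_one hw ?_
      have h2 : K ⊔ Q ≤ centralizer ({w} : Set G) := by
        refine sup_le (fun k hk => ?_) fun q hq => ?_
        · have h3 : ⨆ (l) (_ : l ≠ i), h.Wi l ≤ centralizer ({h.g i * k * (h.g i)⁻¹} : Set G) := by
            refine iSup₂_le fun l hl x hx => ?_
            rw [mem_centralizer_singleton_iff]
            exact mem_centralizer_iff.1 (h.K_cent hl hk) x hx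
          have h4 := mem_centralizer_singleton_iff.1 (h3 hv')
          rw [mem_centralizer_singleton_iff]
          have h5 : h.g i * (w * k) * (h.g i)⁻¹ = h.g i * (k * w) * (h.g i)⁻¹ := by
            calc h.g i * (w * k) * (h.g i)⁻¹ = h.g i * w * (h.g i)⁻¹ * (h.g i * k * (h.g i)⁻¹) := by group
              _ = h.g i * k * (h.g i)⁻¹ * (h.g i * w * (h.g i)⁻¹) := h4
              _ = h.g i * (k * w) * (h.g i)⁻¹ := by group
          exact (mul_left_cancel (mul_right_cancel h5)).symm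
        · have h3 : h.g i * q * (h.g i)⁻¹ ∈ Q := (mem_normalizer_iff.1 (h.SQ (h.gS i)) q).1 hq
          have h4 := hvf _ h3
          rw [mem_centralizer_singleton_iff]
          have h5 : h.g i * (q * w * q⁻¹) * (h.g i)⁻¹ = h.g i * w * (h.g i)⁻¹ := by
            rw [← h4]; group
          have h6 := mul_left_cancel (mul_right_cancel h5)
          calc q * w = q * w * q⁻¹ * q := by group
            _ = w * q := by rw [h6]
      exact fun k hk => mem_centralizer_singleton_iff.1 (h2 hk)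
    rw [h1]; group

theorem sys [Finite G] : Sys (K ⊔ S) h.Wi V h.Sp z₀ where
  comm i l _ := h.Wi_comm i l
  dir := h.dirW
  le i ℓ hℓ := h.Sp_le hℓ
  mem i := ⟨1, one_mem _, by rw [cj_one, h.gV i]⟩
  spr := by
    rintro i _ ⟨k, hk, rfl⟩ _ ⟨k', hk', rfl⟩ u hu hu' hu1
    congr 1
    obtain ⟨v, hv, rfl⟩ := exists_of_mem_cj hu
    have hv' : v ∈ cj k' (V i₀) := by
      obtain ⟨v', hv', e⟩ := exists_of_mem_cj hu'
      have : v = v' := by
        have := mul_left_cancel (mul_right_cancel e)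
        exact this
      rwa [this]
    have hv1 : v ≠ 1 := by
      rintro rfl
      apply hu1; group
    -- `l = k'⁻¹ k` maps `V i₀` to itself
    have hl : k'⁻¹ * k ∈ K ⊔ Q := mul_mem (inv_mem hk') hk
    obtain ⟨a, ha, rfl⟩ := exists_of_mem_cj hv
    obtain ⟨b, hb, e⟩ := exists_of_mem_cj hv'
    have h1 : (k'⁻¹ * k) * a * (k'⁻¹ * k)⁻¹ = b := by
      calc (k'⁻¹ * k) * a * (k'⁻¹ * k)⁻¹ = k'⁻¹ * (k * a * k⁻¹) * k' := by group
        _ = b := by rw [e]; group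
    have h2 : ¬ ∃ v ∈ V i₀, (k'⁻¹ * k) * v * (k'⁻¹ * k)⁻¹ ∉ V i₀ := by
      intro hcon
      have h3 := h.nat.opp _ hl hcon a ha (by rw [h1]; exact hb)
      apply hv1
      rw [h3]; group
    push Not at h2
    have h3 : cj (k'⁻¹ * k) (V i₀) ≤ V i₀ := by
      intro x hx
      obtain ⟨y, hy, rfl⟩ := exists_of_mem_cj hx
      exact h2 y hy
    have h4 : cj (k'⁻¹ * k) (V i₀) = V i₀ := Subgroup.eq_of_le_of_card_ge h3 (by rw [card_cj])
    rw [← cj_cj] at h4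
    have h5 := congrArg (cj k') h4
    rwa [cj_cj_inv] at h5
  perm x hx i := h.pm x hx i
  zV := by
    obtain ⟨y, hy, e⟩ := h.z0 i₀
    rw [e]
    exact mul_mem (mem_iSup_of_mem i₀ (h.zV i₀)) ((iSup₂_le fun j _ => le_iSup V j : _ ≤ _) hy)
  zn i := by
    intro hcon
    obtain ⟨y, hy, e⟩ := h.z0 i
    have h1 : y ∈ ⨆ (l) (_ : l ≠ i), h.Wi l :=
      (iSup₂_mono fun l _ => h.V_le l : _ ≤ ⨆ (l) (_ : l ≠ i), h.Wi l) hy
    have h2 : z i ∈ ⨆ (l) (_ : l ≠ i), h.Wi l := by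
      have : z i = z₀ * y⁻¹ := by rw [e]; group
      rw [this]
      exact mul_mem hcon (inv_mem h1)
    have h3 : z i ∈ h.Wi i ⊓ ⨆ (l) (_ : l ≠ i), h.Wi l := ⟨h.V_le i (h.zV i), h2⟩
    rw [h.dirW i, mem_bot] at h3
    exact h.z_ne i h3

/-- **(6)** : the contradiction -/
theorem false [Finite G] : False := by
  obtain ⟨l, hl, v, hv, hlv⟩ := h.nat.mv
  have hQS := h.QS
  have hlL : l ∈ K ⊔ S := (sup_le_sup le_rfl hQS : _ ≤ _) hl
  refine h.sys.false_of (gen := {x | x ∈ K ⊔ S ∧ x * z₀ = z₀ * x ∨ cj x (⨆ i, V i) = ⨆ i, V i}) ?_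
    (fun x hx => hx) hlL (i := i₀) ?_ ?_
  · refine le_of_forall (S := S) le_sup_right ?_ ?_
    · rintro x ⟨-, hx⟩
      refine subset_closure (Or.inr ?_)
      rw [← h.LV]
      exact cj_eq_of_mem_normalizer (h.nS hx)
    · intro R hR hRL x hx
      refine subset_closure ?_
      rcases h.par R hR hRL with h1 | h1
      · right
        rw [← h.LV]
        exact cj_eq_of_mem_normalizer (h1 hx)
      · exact Or.inl ⟨hRL hx, h1 x hx⟩
  · rw [h.Wi₀]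
    exact cj_eq_of_mem_normalizer (h.nat.KV hl)
  · intro e
    apply hlv
    rw [← e]
    exact mem_cj_of hv

end Dat

end Cfsg.Agent.Omega.NO3S.WY.Tor.End
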