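import Cfsg.Agent.Omega.NO3S.WY.Tor.CxOf

/-!
# THEOREM TOR: the frame `Pr` over `MulL`

* `comp` : every `1 ≠ y ∈ Ω₁(Z(S))` has all components `z i`; `zcS_eq` : `Ω₁(Z(S)) = {1, z₀}`;
* `exists_pr` : `Pr S (GX S P Y) (zl S P) W z z₀`, `z₀ ∈ Ω₁(Z(S))`.
-/

set_option autoImplicit false
set_option linter.unusedSectionVars false
set_option linter.dupNamespace false

namespace Cfsg.Agent.Omega.NO3S.WY.Tor

open Subgroup Cfsg Cfsg.Agent.ZN Cfsg.Agent.ZN.ChoiceBase Cfsg.Agent.Omega.MinPar Cfsg.Agent.Omega.Frame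
open Cfsg.Agent.ZN.ChoiceSit (Syl)
open Cfsg.Agent.MinSimple.MinParabolic (IsMinPar)
open Cfsg.Agent.Omega.NO3S.Level
open Cfsg.Agent.Omega.NO3S.RedC
open Cfsg.Agent.Omega.NO3S.EThree.Frame (Bg Fg)
open Cfsg.Agent.Omega.Node.MulX (MulL)

universe u

variable {G : Type u} [Group G] [Finite G]

section bg

variable {S : Sylow 2 G} {P B ZJ : Subgroup G} {ι : Type} {L W Z C : ι → Subgroup G}

theorem C_le_VV [Finite ι] (h : Bg S P B ZJ L W Z C 2) (i : ι) : C i ≤ VV W i := by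
  refine (h.C_le i).trans (iSup_le fun j => ?_)
  exact le_iSup_of_le j.1 (le_iSup_of_le j.2 le_rfl)

variable (h : Bg S P B ZJ L W Z C 2) {z : ι → G} (hz : ∀ i x, x ∈ Z i ↔ x = 1 ∨ x = z i)
include h hz

/-- `1 ≠ y ∈ Ω₁(Z(S))` has all components `z i` -/
theorem comp {y : G} (hy : y ∈ ZJ) (hyS : ∀ s ∈ (S : Subgroup G), s * y = y * s) (hy1 : y ≠ 1) (i : ι) :
    ∃ c ∈ C i, y = z i * c := by
  obtain ⟨w, hw, c, hc, hcJ, e⟩ := h.fr.split_ZJ i hy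
  rcases (hz i w).1 hw with rfl | rfl
  · exfalso
    apply hy1
    have hyC : y ∈ C i := by rw [e, one_mul]; exact hc
    refine h.fr.C0 y (h.fr.ZJV hy) fun j => ?_
    obtain ⟨s, hs, hsW⟩ := h.trans i j
    obtain ⟨σ, hσ⟩ := h.perm_S hs
    have h1 : σ i = j := h.W_inj ((hσ i).1.symm.trans hsW)
    rw [← h1, ← (hσ i).2.2]
    refine ⟨y, hyC, ?_⟩
    simp only [MulEquiv.coe_toMonoidHom, MulAut.conj_apply]
    rw [hyS s hs]; group
  · exact ⟨c, hc, e⟩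

theorem comp_unique {y y' : G} (hy : y ∈ ZJ) (hyS : ∀ s ∈ (S : Subgroup G), s * y = y * s) (hy1 : y ≠ 1)
    (hy' : y' ∈ ZJ) (hyS' : ∀ s ∈ (S : Subgroup G), s * y' = y' * s) (hy1' : y' ≠ 1) : y = y' := by
  have h1 : y⁻¹ * y' = 1 := by
    refine h.fr.C0 _ (mul_mem (inv_mem (h.fr.ZJV hy)) (h.fr.ZJV hy')) fun i => ?_
    obtain ⟨c, hc, e⟩ := comp h hz hy hyS hy1 i
    obtain ⟨c', hc', e'⟩ := comp h hz hy' hyS' hy1' i
    rw [e, e']
    have : (z i * c)⁻¹ * (z i * c') = c⁻¹ * c' := by group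
    rw [this]
    exact mul_mem (inv_mem hc) hc'
  exact inv_mul_eq_one.1 h1

end bg

/-- `Ω₁(Z(S)) ≤ Z_J` -/
theorem zcS_le {S : Sylow 2 G} {P B ZJ : Subgroup G} {k : ℕ} {L W Z C A : Fin k → Subgroup G} {q : ℕ}
    (h : MulL S P B ZJ L W Z C A q) : zc (S : Subgroup G) ≤ ZJ := by
  intro y hy
  have h1 : y ∈ zl (S : Subgroup G) P := zcT_le_of h.cl le_rfl (h.cl.pss.par.isLoc.o2_le S) hy
  exact (h.bg.fr.mem_ZJ y).2 ⟨h1, fun b hb => (ChoiceBase.mem_zc.1 hy).2.2 b (h.bg.BS hb)⟩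

/-- **The frame `Pr` of THEOREM TOR over `MulL`.** -/
theorem exists_pr {S : Sylow 2 G} {P B ZJ Y : Subgroup G} {k : ℕ} {L W Z C A : Fin k → Subgroup G}
    (h : MulL S P B ZJ L W Z C A 2) (hY : WQ S P B Y) {z : Fin k → G}
    (hz : ∀ i x, x ∈ Z i ↔ x = 1 ∨ x = z i) :
    ∃ z₀ ∈ zc (S : Subgroup G), z₀ ≠ 1 ∧
      Pr (S : Subgroup G) (GX (S : Subgroup G) P Y) (zl (S : Subgroup G) P) W z z₀ := by
  obtain ⟨z₀, hz0, hz01⟩ : ∃ y ∈ zc (S : Subgroup G), y ≠ 1 := by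
    by_contra hcon
    push Not at hcon
    exact hY.zc_ne ((eq_bot_iff_forall _).2 hcon)
  have hmem : ∀ y ∈ zc (S : Subgroup G), y ∈ ZJ ∧ ∀ s ∈ (S : Subgroup G), s * y = y * s := fun y hy =>
    ⟨zcS_le h hy, fun s hs => (ChoiceBase.mem_zc.1 hy).2.2 s hs⟩
  obtain ⟨hJ0, hS0⟩ := hmem z₀ hz0
  refine ⟨z₀, hz0, hz01, fun i => ?_, fun R hR hRM => ?_⟩
  · obtain ⟨c, hc, e⟩ := comp h.bg hz hJ0 hS0 hz01 i
    exact ⟨c, C_le_VV h.bg i hc, e⟩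
  · by_cases hn : R ≤ normalizer (zc (S : Subgroup G) : Set G)
    · right
      intro r hr
      have h1 := (mem_normalizer_iff.1 (hn hr) z₀).1 hz0
      obtain ⟨hJ1, hS1⟩ := hmem _ h1
      exact comp_unique h.bg hz hJ1 hS1 (fun e => hz01 (conj_eq_one_iff.1 e)) hJ0 hS0 hz01
    · left
      have hSR : (S : Subgroup G) ≤ R := hR.le
      have hR2 : o2 R ≠ ⊥ := by
        intro e
        have h2 : o2 (GX (S : Subgroup G) P Y) ≤ o2 R :=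
          MinSimple.Basic.o2_normal_le_o2 ((hY.isLoc_GX.o2_le S).trans hSR) hRM
        rw [e] at h2
        exact hY.isLoc_GX.o2_ne (le_bot_iff.1 h2)
      exact h.cl.par_le { toIsMinPar := hR, o2_ne := hR2, not_zc := hn }

end Cfsg.Agent.Omega.NO3S.WY.Tor
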