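import Cfsg.Agent.Omega.NO3S.WY.Tor.Inst
import Cfsg.Agent.Omega.NO3S.WY.Tor.ActCo
import Cfsg.Agent.Omega.NO3S.WY.Tor.PrOf

/-!
# THEOREM TOR: `TorP` gives the frame `Cx`, `Off`, `TY`, `Pr`

* `TorP.exists_frame`.
-/

set_option autoImplicit false
set_option linter.dupNamespace false

namespace Cfsg.Agent.Omega.NO3S.WY.Tor

open Subgroup Cfsg Cfsg.Agent.ZN Cfsg.Agent.ZN.ChoiceBase
open Cfsg.Agent.Omega.NO3S.RedC

universe u

variable {G : Type u} [Group G] [Finite G]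

/-- **The frame of THEOREM TOR from `TorP`.** -/
theorem exists_frame {S : Sylow 2 G} {P B ZJ : Subgroup G} {k : ℕ} {L W Z C A : Fin k → Subgroup G} {j : Fin k}
    {Y : Subgroup G} (t : TorP S P B ZJ L W Z C A j Y) :
    ∃ (V : Subgroup G) (z : Fin k → G) (𝓦 : Set (Subgroup G)) (W' F' : Subgroup G) (z₀ : G),
      Cx (S : Subgroup G) B (o2 P) (GX (S : Subgroup G) P Y) V (zl (S : Subgroup G) P) W z ∧
      Off (S : Subgroup G) (o2 P) (GX (S : Subgroup G) P Y) V (zl (S : Subgroup G) P) 𝓦 ∧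
      TY (S : Subgroup G) B (o2 P) (GX (S : Subgroup G) P Y) V W z 𝓦 j Y W' F' ∧
      Pr (S : Subgroup G) (GX (S : Subgroup G) P Y) (zl (S : Subgroup G) P) W z z₀ := by
  obtain ⟨h, wj, ⟨V, 𝓕, hf⟩, ⟨F, _, _, _, N, c4, line, rt⟩⟩ := t
  obtain ⟨z, hz⟩ := exists_z h.bg
  have o := co_of h wj hf hz N c4 line rt
  obtain ⟨z₀, -, -, p⟩ := exists_pr h wj.toWQ hz
  exact ⟨V, z, _, _, _, z₀, o.cx, off_of hf, o.ty', p⟩

end Cfsg.Agent.Omega.NO3S.WY.Tor
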