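import Cfsg.Agent.Omega.NO3S.WY.Tor.End
import Cfsg.Agent.Omega.NO3S.WY.Tor.Frame

/-!
# THEOREM TOR: the end over the frame `Cx`, `TY`, `Pr` of helper474

* `TY.n4` : `W` is a natural `SL₂(4)`-module for `O²(Y) Q` (`Sig.N4`), if `F = 1`;
* `TY.endDat` : the structure `End.Dat`;
* `TY.false_end` : `S` permutes the `W_i` (`WS`) and `O²(Y)` centralises the other `W_i` (`KC`) ⇒ contradiction.
-/

set_option autoImplicit false
set_option linter.unusedSectionVars false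

namespace Cfsg.Agent.Omega.NO3S.WY.Tor

open Subgroup Cfsg Cfsg.Agent.ZN Cfsg.Agent.ZN.ChoiceBase
open Cfsg.Agent.ZN.ChoiceSit (Syl)
open Cfsg.Agent.MinSimple.MinParabolic (IsMinPar)
open Cfsg.Agent.MinSimple.VModule (oddGen mem_oddGen)
open Cfsg.Agent.Omega.OM.Lev.Low.TorusK (Sig.N4)

universe u

variable {G : Type u} [Group G] {ι : Type}

namespace Cx

variable {S B Q M X L : Subgroup G} {V : ι → Subgroup G} {z : ι → G} (c : Cx S B Q M X L V z)
include c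

theorem SnQ : S ≤ normalizer (Q : Set G) := by
  intro s hs
  rw [mem_normalizer_iff_cj]
  apply c.wc
  have h1 := cj_mono s (c.QB.trans c.BS)
  rwa [cj_eq_of_mem_normalizer (le_normalizer hs)] at h1

theorem SnB : S ≤ normalizer (B : Set G) := by
  have key : ∀ s ∈ S, ∀ b ∈ B, s * b * s⁻¹ ∈ B := by
    intro s hs b hb
    refine c.memB _ (mul_mem (mul_mem hs (c.BS hb)) (inv_mem hs)) fun i => ?_
    obtain ⟨j, hj⟩ := c.zS s⁻¹ (inv_mem hs) i
    rw [inv_inv] at hj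
    have h1 := c.Bz b hb j
    rw [← hj] at h1
    calc s * b * s⁻¹ * z i = s * (b * (s⁻¹ * z i * s)) * s⁻¹ := by group
      _ = s * (s⁻¹ * z i * s * b) * s⁻¹ := by rw [h1]
      _ = z i * (s * b * s⁻¹) := by group
  intro s hs
  rw [mem_normalizer_iff]
  intro b
  refine ⟨key s hs b, fun h => ?_⟩
  have := key s⁻¹ (inv_mem hs) _ h
  have e : s⁻¹ * (s * b * s⁻¹) * s⁻¹⁻¹ = b := by group
  rwa [e] at this

theorem VLe (i : ι) : V i ≤ L := by
  rw [c.eL]; exact le_iSup V i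

theorem NQ_L : normalizer (Q : Set G) ≤ normalizer (L : Set G) := by
  have key : ∀ g ∈ normalizer (Q : Set G), cj g L ≤ L := by
    intro g hg
    rw [c.eL, show cj g (⨆ i, V i) = (⨆ i, V i).map (MulAut.conj g).toMonoidHom from rfl, Subgroup.map_iSup]
    refine iSup_le fun i => ?_
    obtain ⟨j, hj⟩ := c.perm g hg i
    rw [show (V i).map (MulAut.conj g).toMonoidHom = cj g (V i) from rfl, hj]
    exact le_iSup V j
  intro g hg
  rw [mem_normalizer_iff_cj]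
  refine le_antisymm (key g hg) ?_
  have h1 := key g⁻¹ (inv_mem hg)
  rwa [cj_le_iff, inv_inv] at h1

theorem nS : normalizer (S : Set G) ≤ normalizer (L : Set G) := by
  intro g hg
  refine c.NQ_L ?_
  rw [mem_normalizer_iff_cj]
  apply c.wc
  have h1 := cj_mono g (c.QB.trans c.BS)
  rwa [cj_eq_of_mem_normalizer hg] at h1

theorem V_inj' {i m : ι} {x : G} (hx : x ∈ V i) (hx' : x ∈ V m) (h1 : x ≠ 1) : m = i := by
  by_contra hne
  have h2 : x ∈ V i ⊓ VV V i := ⟨hx, le_iSup₂_of_le (f := fun l (_ : l ≠ i) => V l) m hne le_rfl hx'⟩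
  rw [c.ind i, mem_bot] at h2
  exact h1 h2

theorem zs' {s : G} (hs : s ∈ S) {i j : ι} (e : cj s (V j) = V i) : s * z j * s⁻¹ = z i := by
  obtain ⟨m, hm⟩ := c.zS s hs j
  have h1 : z m ∈ V i := by
    rw [← hm, ← e]
    exact ⟨z j, c.zV j, rfl⟩
  rw [hm, c.V_inj' h1 (c.zV m) (c.z1 m)]

end Cx

theorem sw_pow (a : ℕ) : (Equiv.swap (0 : Fin 5) 1 * Equiv.swap (1 : Fin 5) 2 : Equiv.Perm (Fin 5)) ^ 2 ^ a =
      (Equiv.swap (0 : Fin 5) 1 * Equiv.swap (1 : Fin 5) 2) ∨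
    (Equiv.swap (0 : Fin 5) 1 * Equiv.swap (1 : Fin 5) 2 : Equiv.Perm (Fin 5)) ^ 2 ^ a =
      (Equiv.swap (0 : Fin 5) 1 * Equiv.swap (1 : Fin 5) 2) ^ 2 := by
  induction a with
  | zero => left; rw [pow_zero, pow_one]
  | succ a ih =>
    rw [pow_succ, pow_mul]
    rcases ih with ih | ih
    · right; rw [ih]
    · left; rw [ih]; decide

theorem sw_ne (a : ℕ) :
    ((Equiv.swap (0 : Fin 5) 1 * Equiv.swap (1 : Fin 5) 2 : Equiv.Perm (Fin 5)) ^ 2 ^ a) 0 ≠ 0 := by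
  rcases sw_pow a with h | h
  · rw [h]; decide
  · rw [h]; decide

namespace TY

variable {S B Q M X L : Subgroup G} {V : ι → Subgroup G} {z : ι → G} {𝓦 : Set (Subgroup G)} {j : ι}
  {Y W F : Subgroup G} {z₀ : G}

theorem n4 [Finite G] (h : TY S B Q M X V z 𝓦 j Y W F) (c : Cx S B Q M X L V z) (hF : F = ⊥) :
    Sig.N4 Q (oddGen Y ⊔ Q) W (V j) := by
  subst hF
  have hBY : B ≤ Y := h.min.le
  have hKY : oddGen Y ⊔ Q ≤ Y := sup_le (MinSimple.VModule.oddGen_le Y) (c.QB.trans hBY)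
  obtain ⟨ℓ, π, e0, hℓW, hℓ, hπ, hA, hker⟩ := h.act
  rw [sup_bot_eq] at e0
  refine ⟨?_, ?_, h.VW, c.cV j, le_sup_right, hKY.trans h.YW, ?_, ?_, ?_, ?_, ?_, ?_⟩
  · refine ⟨⟨⟨fun x y => Subtype.ext (c.Xc x (h.WX x.2) y (h.WX y.2))⟩⟩, fun x hx => ?_⟩
    rw [pow_two]; exact c.Xs x (h.WX hx)
  · rw [h.cW, Subgroup.card_bot]
  · intro b hb v hv
    exact c.cQL b hb v (c.VLe j hv)
  · intro b hb v hv
    have := h.quad b hb v hv
    rwa [sup_bot_eq] at this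
  · rintro b hb ⟨w, hw, hne⟩ v hv hc
    by_contra hcon
    refine hne (h.free b hb v hv (by rwa [sup_bot_eq]) ?_ w hw)
    rw [hc, mem_bot]; group
  · rw [h.cardQ, mul_comm]
  · rintro l hl ⟨v, hv, hne⟩ w hw hlw
    have hlY := hKY hl
    have h1 := hπ ⟨l, hlY⟩ 0
    rw [e0] at h1
    by_cases e : π ⟨l, hlY⟩ 0 = 0
    · exfalso
      rw [e, e0] at h1
      apply hne
      rw [← h1]
      exact ⟨v, hv, rfl⟩
    · have h2 := hℓ _ _ e
      have h3 : l * w * l⁻¹ ∈ ℓ (π ⟨l, hlY⟩ 0) ⊓ ℓ 0 := by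
        refine ⟨?_, by rw [e0]; exact hlw⟩
        rw [← h1]
        exact ⟨w, hw, rfl⟩
      rw [h2, mem_bot] at h3
      calc w = l⁻¹ * (l * w * l⁻¹) * l := by group
        _ = 1 := by rw [h3]; group
  · -- a 3-element
    have h3c : (Equiv.swap (0 : Fin 5) 1 * Equiv.swap (1 : Fin 5) 2 : Equiv.Perm (Fin 5)) ∈ alternatingGroup (Fin 5) := by
      rw [Equiv.Perm.mem_alternatingGroup]
      decide
    obtain ⟨y, hy⟩ := hA h3c
    obtain ⟨a, m, hm, e⟩ := Nat.exists_eq_two_pow_mul_odd (n := orderOf (y : G)) (orderOf_pos (y : G)).ne'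
    have ho : Odd (orderOf ((y : G) ^ 2 ^ a)) := by
      rw [orderOf_pow_of_dvd (by positivity) (by rw [e]; exact Dvd.intro _ rfl), e,
        Nat.mul_div_cancel_left _ (by positivity)]
      exact hm
    have hyK : (y : G) ^ 2 ^ a ∈ oddGen Y ⊔ Q := mem_sup_left (mem_oddGen (pow_mem y.2 _) ho)
    refine ⟨_, hyK, ?_⟩
    by_contra hcon
    push Not at hcon
    have h1 := hπ (y ^ 2 ^ a) 0
    rw [e0, map_pow, hy] at h1
    -- the image of the line is another line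
    have h2 := sw_ne a
    have h4 := hℓ _ _ h2
    rw [e0, ← h1] at h4
    have h5 : cj ((y ^ 2 ^ a : Y) : G) (V j) ≤ V j := by
      rintro _ ⟨v, hv, rfl⟩
      exact hcon v hv
    rw [inf_eq_left.2 h5] at h4
    have h6 := card_cj ((y ^ 2 ^ a : Y) : G) (V j)
    rw [h4, c.cV j, Subgroup.card_bot] at h6
    omega

/-- the structure of `End.lean` -/
theorem endDat [Finite G] (h : TY S B Q M X V z 𝓦 j Y W F) (c : Cx S B Q M X L V z) (hF : F = ⊥)
    (p : Pr S M L V z z₀) (WS : ∀ s ∈ S, cj s (V j) = V j → cj s W = W)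
    (KC : ∀ s ∈ S, cj s (V j) ≠ V j → oddGen Y ≤ centralizer ((cj s W : Subgroup G) : Set G)) :
    End.Dat S Q B L (oddGen Y) W V z z₀ j where
  two := c.S2
  syl := c.Sidx
  nS := c.nS
  par R hR hRL := by
    have hKM : oddGen Y ⊔ S ≤ M := sup_le ((MinSimple.VModule.oddGen_le Y).trans h.YM) c.SM
    rcases p.par R hR (hRL.trans hKM) with h1 | h1
    · exact Or.inl h1
    · refine Or.inr fun r hr => ?_
      calc r * z₀ = r * z₀ * r⁻¹ * r := by group
        _ = z₀ * r := by rw [h1 r hr]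
  LV := c.eL
  dir := c.ind
  perm s hs i := c.perm s (c.SnQ hs) i
  tr i := c.tr j i
  zV := c.zV
  z1 := c.z1 j
  z0 := p.z0
  zs s hs i e := c.zs' hs e
  QB := c.QB
  BS := c.BS
  SB := c.SnB
  SQ := c.SnQ
  Bz i b hb := c.Bz b hb i
  Bsyl T hT hBT hz := c.sylB j T hT hBT fun i hi x hx => hz i hi x hx
  Bmv := by
    obtain ⟨t, ht, -, v, hv, hne⟩ := c.t j
    exact ⟨t, ht, v, hv, hne⟩
  BK := h.min.le.trans (MinSimple.VModule.le_normalizer_oddGen Y)
  nat := h.n4 c hF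
  WS := WS
  KC := KC
  Wc s hs w hw w' hw' := by
    have h1 : s * w' * s⁻¹ ∈ X := (mem_normalizer_iff.1 (c.MX (c.SM hs)) w').1 (h.WX hw')
    exact c.Xc w (h.WX hw) _ h1

/-- **(Sig), (6)**: the contradiction. -/
theorem false_end [Finite G] (h : TY S B Q M X V z 𝓦 j Y W F) (c : Cx S B Q M X L V z) (hF : F = ⊥)
    (p : Pr S M L V z z₀) (WS : ∀ s ∈ S, cj s (V j) = V j → cj s W = W)
    (KC : ∀ s ∈ S, cj s (V j) ≠ V j → oddGen Y ≤ centralizer ((cj s W : Subgroup G) : Set G)) : False :=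
  (h.endDat c hF p WS KC).false

end TY

end Cfsg.Agent.Omega.NO3S.WY.Tor
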