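import Cfsg.Agent.Omega.NO3S.WY.Tor.Base
import Cfsg.Agent.Omega.NOne.Flat.Off

/-!
# THEOREM TOR, (2): the extremal class (helper491 #25169)

`Γ = N_M(Q) ∩ N(V_j)`, `U = ⟨W^⟨Y,Γ⟩⟩`: some `A ≤ Q` which is extremal in the family moves `W`; `U = W C_U(A)`,
`O²(Y)` centralises `U / W`.
-/

set_option autoImplicit false
set_option linter.unusedSectionVars false

namespace Cfsg.Agent.Omega.NO3S.WY.Tor

open Subgroup Cfsg Cfsg.Agent.ZN Cfsg.Agent.ZN.ChoiceBase
open Cfsg.Agent.ZN.ChoiceSit (Syl)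
open Cfsg.Agent.MinSimple.MinParabolic (IsMinPar)
open Cfsg.Agent.MinSimple.VModule (oddGen oddGen_le mem_oddGen)
open Cfsg.Agent.Omega.SQ1.Bau (mem_sup_comm card_sup_comm)
open Cfsg.Agent.Omega.NO3b.EZero (cl cl_le le_cl cj_le_cl le_normalizer_cl)

universe u

variable {G : Type u} [Group G] {ι : Type}

/-- output of (1) -/
structure OneOut (Q : Subgroup G) (V : ι → Subgroup G) (j : ι) (Y : Subgroup G) : Prop where
  nVV : Y ≤ normalizer (VV V j : Set G)
  cVV : oddGen Y ≤ centralizer (VV V j : Set G)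
  PI : Y ≤ normalizer ((Q ⊓ o2 Y : Subgroup G) : Set G)

/-- the elements of `Y` which are trivial on `U / W` -/
def CC (Y U W : Subgroup G) (hW : Y ≤ normalizer (W : Set G)) : Subgroup G where
  carrier := {y | y ∈ Y ∧ ∀ u ∈ U, y * u * y⁻¹ * u⁻¹ ∈ W}
  one_mem' := ⟨one_mem _, fun w _ => by simp⟩
  mul_mem' := by
    rintro a b ⟨ha, ha'⟩ ⟨hb, hb'⟩
    refine ⟨mul_mem ha hb, fun w hw => ?_⟩
    have e : a * b * w * (a * b)⁻¹ * w⁻¹ = (a * (b * w * b⁻¹ * w⁻¹) * a⁻¹) * (a * w * a⁻¹ * w⁻¹) := by group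
    rw [e]
    exact mul_mem (conj_mem (hW ha) (hb' w hw)) (ha' w hw)
  inv_mem' := by
    rintro a ⟨ha, ha'⟩
    refine ⟨inv_mem ha, fun w hw => ?_⟩
    have e : a⁻¹ * w * a⁻¹⁻¹ * w⁻¹ = a⁻¹ * (a * w * a⁻¹ * w⁻¹)⁻¹ * a⁻¹⁻¹ := by group
    rw [e]
    exact conj_mem (hW (inv_mem ha)) (inv_mem (ha' w hw))

theorem CC_norm [Finite G] {Y U W : Subgroup G} (hU : Y ≤ normalizer (U : Set G)) (hW : Y ≤ normalizer (W : Set G)) :
    Y ≤ normalizer (CC Y U W hW : Set G) := by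
  intro y hy
  refine mem_normalizer_of_cj_le ?_
  rintro x ⟨k, ⟨hk, hk'⟩, rfl⟩
  refine ⟨mul_mem (mul_mem hy hk) (inv_mem hy), fun w hw => ?_⟩
  have h3 : y⁻¹ * w * y ∈ U := by
    have := conj_mem (hU (inv_mem hy)) hw
    simpa using this
  have h1 := hk' _ h3
  show (y * k * y⁻¹) * w * (y * k * y⁻¹)⁻¹ * w⁻¹ ∈ W
  have e : (y * k * y⁻¹) * w * (y * k * y⁻¹)⁻¹ * w⁻¹ =
      y * (k * (y⁻¹ * w * y) * k⁻¹ * (y⁻¹ * w * y)⁻¹) * y⁻¹ := by group
  rw [e]
  exact conj_mem (hW hy) h1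

/-- `A` is a best offender on `U` -/
def Bst (U A : Subgroup G) : Prop :=
  ∀ A' ≤ A, Nat.card A' * Nat.card ↥(U ⊓ centralizer (A' : Set G)) ≤
    Nat.card A * Nat.card ↥(U ⊓ centralizer (A : Set G))

theorem Bst.mono [Finite G] {U U' A : Subgroup G} (h : Bst U A) (hU : U' ≤ U)
    (hc : ∀ x ∈ U, ∀ y ∈ U, x * y = y * x) : Bst U' A := by
  intro A' hA'
  have h1 := card_sup_comm (A := U' ⊓ centralizer (A' : Set G)) (B := U ⊓ centralizer (A : Set G))
    (fun a ha b hb => hc a (hU ha.1) b hb.1)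
  have h2 : (U' ⊓ centralizer (A' : Set G)) ⊓ (U ⊓ centralizer (A : Set G)) = U' ⊓ centralizer (A : Set G) :=
    le_antisymm (le_inf (inf_le_left.trans inf_le_left) (inf_le_right.trans inf_le_right))
      (le_inf (inf_le_inf_left _ (centralizer_le hA')) (inf_le_inf_right _ hU))
  have h3 : (U' ⊓ centralizer (A' : Set G)) ⊔ (U ⊓ centralizer (A : Set G)) ≤ U ⊓ centralizer (A' : Set G) :=
    sup_le (inf_le_inf_right _ hU) (inf_le_inf_left _ (centralizer_le hA'))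
  have h4 := h A' hA'
  have h5 := Subgroup.card_le_of_le h3
  rw [h2] at h1
  have hK : 0 < Nat.card ↥(U ⊓ centralizer (A : Set G)) := Nat.card_pos
  refine Nat.le_of_mul_le_mul_right ?_ hK
  calc Nat.card A' * Nat.card ↥(U' ⊓ centralizer (A' : Set G)) * Nat.card ↥(U ⊓ centralizer (A : Set G))
      = Nat.card A' * (Nat.card ↥(U' ⊓ centralizer (A' : Set G)) * Nat.card ↥(U ⊓ centralizer (A : Set G))) := by ring
    _ = Nat.card A' * (Nat.card ↥((U' ⊓ centralizer (A' : Set G)) ⊔ (U ⊓ centralizer (A : Set G)) : Subgroup G) *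
          Nat.card ↥(U' ⊓ centralizer (A : Set G))) := by rw [h1]
    _ ≤ Nat.card A' * (Nat.card ↥(U ⊓ centralizer (A' : Set G)) * Nat.card ↥(U' ⊓ centralizer (A : Set G))) :=
        Nat.mul_le_mul_left _ (Nat.mul_le_mul_right _ h5)
    _ = (Nat.card A' * Nat.card ↥(U ⊓ centralizer (A' : Set G))) * Nat.card ↥(U' ⊓ centralizer (A : Set G)) := by ring
    _ ≤ (Nat.card A * Nat.card ↥(U ⊓ centralizer (A : Set G))) * Nat.card ↥(U' ⊓ centralizer (A : Set G)) :=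
        Nat.mul_le_mul_right _ h4
    _ = _ := by ring

theorem norm_o2_cent (D : Subgroup G) :
    normalizer (D : Set G) ≤ normalizer ((o2 (centralizer (D : Set G)) : Subgroup G) : Set G) :=
  normalizer_le_of_cj (F := fun T => o2 (centralizer (T : Set G)))
    (fun g T => by
      show o2 (centralizer ((cj g T : Subgroup G) : Set G)) = cj g (o2 (centralizer (T : Set G)))
      rw [← cj_centralizer, ChoiceSit.o2_cj]) D

variable {S B Q M X L : Subgroup G} {V : ι → Subgroup G} {z : ι → G} {𝓦 : Set (Subgroup G)} {j : ι}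
  {Y W F : Subgroup G}

/-- `Γ = N_M(Q) ∩ N(V_j)` -/
def Gam (Q M : Subgroup G) (V : ι → Subgroup G) (j : ι) : Subgroup G :=
  M ⊓ normalizer (Q : Set G) ⊓ normalizer (V j : Set G)

/-- `V_P ≤ O₂(C_G(V_(j)))`, `k ≥ 2` -/
theorem Cx.L_le_o2VV [Finite G] (c : Cx S B Q M X L V z) (hne : ∃ i, i ≠ j) :
    L ≤ o2 (centralizer ((VV V j : Subgroup G) : Set G)) := by
  obtain ⟨i, hi⟩ := hne
  have h1 : centralizer ((VV V j : Subgroup G) : Set G) ≤ centralizer ({z i} : Set G) := by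
    refine centralizer_le ?_
    rintro x hx
    rw [Set.mem_singleton_iff.1 hx]
    exact c.V_VV hi (c.zV i)
  have h2 : L ≤ centralizer ((VV V j : Subgroup G) : Set G) := fun l hl =>
    mem_centralizer_iff.2 fun x hx => c.xc (c.VV_X j hx) (c.LX hl)
  have h3 : L ≤ o2 (centralizer ({z i} : Set G)) ⊓ centralizer ((VV V j : Subgroup G) : Set G) := le_inf (c.LO i) h2
  refine h3.trans (ChoiceSit.le_o2 ((ChoiceSit.isPGroup_o2 _).to_le inf_le_left) inf_le_right ?_)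
  intro g hg
  refine mem_normalizer_of_cj_le ?_
  rw [cj_inf, cj_eq_of_mem_normalizer (le_normalizer hg),
    cj_eq_of_mem_normalizer (ChoiceSit.le_normalizer_o2 _ (h1 hg))]

theorem exists_ext [Finite G] (c : Cx S B Q M X L V z) (o : Off S Q M X L 𝓦) (h : TY S B Q M X V z 𝓦 j Y W F)
    (one : OneOut Q V j Y) (hne : ∃ i, i ≠ j) :
    ∃ U A : Subgroup G, W ≤ U ∧ U ≤ X ∧ Y ≤ normalizer (U : Set G) ∧ Gam Q M V j ≤ normalizer (U : Set G) ∧
      U ≤ cl W (Y ⊔ Gam Q M V j) ∧ A ≤ Q ∧ ¬ A ≤ centralizer (W : Set G) ∧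
      A ⊔ (Q ⊓ centralizer (W : Set G)) = Q ∧ U = W ⊔ (U ⊓ centralizer (A : Set G)) ∧
      ∀ k ∈ oddGen Y, ∀ u ∈ U, k * u * k⁻¹ * u⁻¹ ∈ W := by
  classical
  set Λ : Subgroup G := VV V j with hΛd
  have hΛ : Λ ≠ ⊥ := by
    obtain ⟨i, hi⟩ := hne
    intro e
    have h1 := c.V_VV hi
    rw [← hΛd, e] at h1
    exact c.V_ne_bot i (le_bot_iff.1 h1)
  set Γ : Subgroup G := Gam Q M V j with hΓd
  set H : Subgroup G := Y ⊔ Γ with hHd
  have hΓM : Γ ≤ M := inf_le_left.trans inf_le_left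
  have hHM : H ≤ M := sup_le h.YM hΓM
  have hΓΛ : Γ ≤ normalizer (Λ : Set G) := fun g hg => c.norm_VV' hg.1.2 (cj_eq_of_mem_normalizer hg.2)
  have hHΛ : H ≤ normalizer (Λ : Set G) := sup_le one.nVV hΓΛ
  set E : Subgroup G := X ⊓ o2 (centralizer (Λ : Set G)) with hEd
  have hHE : H ≤ normalizer (E : Set G) := by
    intro g hg
    rw [mem_normalizer_iff_cj, hEd, cj_inf, cj_eq_of_mem_normalizer (c.MX (hHM hg)),
      cj_eq_of_mem_normalizer (norm_o2_cent Λ (hHΛ hg))]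
  have hLE : L ≤ E := le_inf c.LX (c.L_le_o2VV hne)
  have hzE : z j ∈ E := hLE (c.VL j (c.zV j))
  have hWE : W ≤ E := h.gen E hzE (le_sup_left.trans hHE)
  set U : Subgroup G := cl W H with hUd
  have hUE : U ≤ E := cl_le fun g hg => by
    have := cj_mono g hWE
    rwa [cj_eq_of_mem_normalizer (hHE hg)] at this
  have hUH : H ≤ normalizer (U : Set G) := le_normalizer_cl _ _
  have hWU : W ≤ U := le_cl _ _
  have hcE : ∀ x ∈ E, ∀ y ∈ E, x * y = y * x := fun x hx y hy => c.Xc x hx.1 y hy.1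
  -- the family
  let 𝓖 : Subgroup G → Prop := fun B' => ∃ A₀ ∈ 𝓦, A₀ ≤ S ∧ ∃ g ∈ M, Λ ≤ cj g L ∧ B' = cj g A₀
  have h𝓖b : ∀ B', 𝓖 B' → Bst E B' := by
    rintro _ ⟨A₀, hA, hAS, g, hg, hl, rfl⟩ A' hA'
    exact o.best A₀ hA hAS g hg Λ hΛ hl E inf_le_left inf_le_right A' hA'
  have h𝓖c : ∀ B', 𝓖 B' → ∀ x ∈ H, 𝓖 (cj x B') := by
    rintro _ ⟨A₀, hA, hAS, g, hg, hl, rfl⟩ x hx
    refine ⟨A₀, hA, hAS, x * g, mul_mem (hHM hx) hg, ?_, cj_cj x g A₀⟩
    have := cj_mono x hl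
    rwa [cj_eq_of_mem_normalizer (hHΛ hx), cj_cj] at this
  let 𝓐 : Subgroup G → Prop := fun A => ∃ B', 𝓖 B' ∧ A ≤ B' ∧
    Nat.card A * Nat.card ↥(E ⊓ centralizer (A : Set G)) = Nat.card B' * Nat.card ↥(E ⊓ centralizer (B' : Set G))
  have hAb : ∀ A, 𝓐 A → Bst E A := by
    rintro A ⟨B', hB, hAB, e⟩ A' hA'
    rw [e]; exact h𝓖b B' hB A' (hA'.trans hAB)
  have hAc : ∀ A, 𝓐 A → ∀ x ∈ H, 𝓐 (cj x A) := by
    rintro A ⟨B', hB, hAB, e⟩ x hx
    refine ⟨cj x B', h𝓖c B' hB x hx, cj_mono x hAB, ?_⟩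
    have key : ∀ T : Subgroup G, Nat.card (cj x T) * Nat.card ↥(E ⊓ centralizer ((cj x T : Subgroup G) : Set G)) =
        Nat.card T * Nat.card ↥(E ⊓ centralizer (T : Set G)) := by
      intro T
      have e1 : E ⊓ centralizer ((cj x T : Subgroup G) : Set G) = cj x (E ⊓ centralizer (T : Set G)) := by
        rw [cj_inf, cj_centralizer, cj_eq_of_mem_normalizer (hHE hx)]
      rw [e1, card_cj, card_cj]
    rw [key, key, e]
  -- the class
  let m : Subgroup G → ℕ := fun A => Nat.card A / Nat.card ↥(A ⊓ centralizer (U : Set G))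
  let 𝓒 : Set (Subgroup G) := {A | 𝓐 A ∧ A ≤ Q ∧ ¬ A ≤ centralizer (U : Set G)}
  have hne𝓒 : 𝓒.Nonempty := by
    obtain ⟨A, hA, hAS, hAW⟩ := h.mv
    refine ⟨A, ⟨A, ⟨A, hA, hAS, 1, one_mem _, ?_, (cj_one A).symm⟩, le_rfl, rfl⟩, o.AQ A hA hAS,
      fun hc => hAW (hc.trans (centralizer_le hWU))⟩
    rw [cj_one]; exact c.VV_L j
  obtain ⟨A₁, hA₁, hmin⟩ := Set.exists_min_image 𝓒 m (Set.toFinite _) hne𝓒
  have hcU : ∀ x ∈ H, cj x (centralizer (U : Set G)) = centralizer (U : Set G) := fun x hx => by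
    rw [cj_centralizer, cj_eq_of_mem_normalizer (hUH hx)]
  have hmc : ∀ x ∈ H, ∀ A, m (cj x A) = m A := by
    intro x hx A
    show Nat.card (cj x A) / Nat.card ↥(cj x A ⊓ centralizer (U : Set G)) = _
    rw [card_cj, show cj x A ⊓ centralizer (U : Set G) = cj x (A ⊓ centralizer (U : Set G)) by
      rw [cj_inf, hcU x hx], card_cj]
  have hCc : ∀ x ∈ H, ∀ A ∈ 𝓒, cj x A ≤ Q → cj x A ∈ 𝓒 := by
    rintro x hx A ⟨h1, h2, h3⟩ h4
    refine ⟨hAc A h1 x hx, h4, fun h5 => h3 ?_⟩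
    have h6 := cj_mono x⁻¹ h5
    rwa [cj_inv_cj, hcU x⁻¹ (inv_mem hx)] at h6
  -- some extremal member moves `W`
  have hmv : ∃ A ∈ 𝓒, m A = m A₁ ∧ ¬ A ≤ centralizer (W : Set G) := by
    by_contra hcon
    push Not at hcon
    have hst : ∀ x ∈ H, (∀ A ∈ 𝓒, m A = m A₁ → cj x A ∈ 𝓒) ∧ (∀ A ∈ 𝓒, m A = m A₁ → cj x⁻¹ A ∈ 𝓒) := by
      have hb : ∀ x, (x ∈ Y ∨ x ∈ Γ) → ∀ A ∈ 𝓒, m A = m A₁ → cj x A ∈ 𝓒 := by
        intro x hx A hA hm
        rcases hx with hx | hx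
        · refine hCc x (le_sup_left (a := Y) hx) A hA ?_
          have h1 : A ≤ Q ⊓ o2 Y := by
            rw [h.PIW c]
            exact le_inf hA.2.1 (hcon A hA hm)
          have h2 := cj_mono x h1
          rw [cj_eq_of_mem_normalizer (one.PI hx)] at h2
          exact h2.trans inf_le_left
        · refine hCc x ((le_sup_right : Γ ≤ Y ⊔ Γ) hx) A hA ?_
          have h2 := cj_mono x hA.2.1
          rwa [cj_eq_of_mem_normalizer hx.1.2] at h2
      have hHx : ∀ x ∈ Subgroup.closure ((Y : Set G) ∪ (Γ : Set G)), x ∈ H := by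
        intro x hx
        rwa [Subgroup.closure_union, Subgroup.closure_eq, Subgroup.closure_eq] at hx
      have key : ∀ x ∈ Subgroup.closure ((Y : Set G) ∪ (Γ : Set G)),
          (∀ A ∈ 𝓒, m A = m A₁ → cj x A ∈ 𝓒) ∧ (∀ A ∈ 𝓒, m A = m A₁ → cj x⁻¹ A ∈ 𝓒) := by
        intro x hx'
        induction hx' using Subgroup.closure_induction with
        | mem x hx =>
          refine ⟨hb x hx, hb x⁻¹ ?_⟩
          rcases hx with hx | hx
          · exact Or.inl (inv_mem hx)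
          · exact Or.inr (inv_mem hx)
        | one => simp only [cj_one, inv_one]; exact ⟨fun A hA _ => hA, fun A hA _ => hA⟩
        | mul x y hx hy hx1 hy1 =>
          constructor
          · intro A hA hm
            rw [← cj_cj]
            exact hx1.1 _ (hy1.1 A hA hm) ((hmc y (hHx y hy) A).trans hm)
          · intro A hA hm
            rw [mul_inv_rev, ← cj_cj]
            exact hy1.2 _ (hx1.2 A hA hm) ((hmc x⁻¹ (inv_mem (hHx x hx)) A).trans hm)
        | inv x hx hx1 =>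
          rw [inv_inv]
          exact ⟨hx1.2, hx1.1⟩
      intro x hx
      refine key x ?_
      rwa [Subgroup.closure_union, Subgroup.closure_eq, Subgroup.closure_eq]
    apply hA₁.2.2
    rw [le_centralizer_iff]
    refine cl_le fun x hx => ?_
    have h1 := hcon _ ((hst x hx).2 A₁ hA₁ rfl) (hmc x⁻¹ (inv_mem hx) A₁)
    have h2 := cj_mono x h1
    rw [cj_cj_inv, cj_centralizer] at h2
    rw [le_centralizer_iff]
    exact h2
  obtain ⟨A, hA, hmA, hAW⟩ := hmv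
  obtain ⟨hA𝓐, hAQ, hAU⟩ := hA
  -- `C_W(A) = V_j F`
  have hQY : Q ≤ Y := h.QY c
  have hVFc : V j ⊔ F ≤ centralizer (Q : Set G) := fun x hx => mem_centralizer_iff.2 fun q hq =>
    c.cQL q hq x (h.VF_L c hx)
  have hWA : W ⊓ centralizer (A : Set G) = V j ⊔ F := by
    refine le_antisymm ?_ (le_inf h.VF_W (hVFc.trans (centralizer_le hAQ)))
    rintro w ⟨hw, hwA⟩
    by_contra hn
    apply hAW
    intro a ha
    rw [mem_centralizer_iff]
    intro u hu
    refine (h.free a (hAQ ha) w hw hn ?_ u hu).symm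
    have h1 : a * w = w * a := mem_centralizer_iff.1 hwA a ha
    rw [comm_iff.2 h1]; exact one_mem _
  have hbE : Bst E A := hAb A hA𝓐
  have hbW : Bst W A := hbE.mono hWE hcE
  have hbU : Bst U A := hbE.mono hUE hcE
  set A' : Subgroup G := A ⊓ centralizer (W : Set G) with hA'd
  have hA'A : A' ≤ A := inf_le_left
  have hF0 : 0 < Nat.card F := Nat.card_pos
  have hcW := h.cW
  have hcVF := h.card_VF c
  have h4a : 4 * Nat.card A' ≤ Nat.card A := by
    have h1 := hbW A' hA'A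
    have h2 : W ⊓ centralizer (A' : Set G) = W := inf_eq_left.2 (le_centralizer_iff.1 inf_le_right)
    rw [h2, hWA, hcW, hcVF] at h1
    have h3 : (4 * Nat.card A') * (4 * Nat.card F) ≤ Nat.card A * (4 * Nat.card F) := by
      calc (4 * Nat.card A') * (4 * Nat.card F) = Nat.card A' * (16 * Nat.card F) := by ring
        _ ≤ _ := h1
    exact Nat.le_of_mul_le_mul_right h3 (by positivity)
  set PI : Subgroup G := Q ⊓ centralizer (W : Set G) with hPId
  have hAPI : A ≤ normalizer (PI : Set G) := by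
    rw [hPId, ← h.PIW c]
    exact (hAQ.trans hQY).trans one.PI
  have hinf : A ⊓ PI = A' := le_antisymm (le_inf inf_le_left (inf_le_right.trans inf_le_right))
    (le_inf inf_le_left (le_inf (inf_le_left.trans hAQ) inf_le_right))
  have hcs := NOne.Flat.Off.card_sup_mul_inf hAPI
  rw [hinf] at hcs
  have hsQ : A ⊔ PI ≤ Q := sup_le hAQ inf_le_left
  have hcQ := h.cardQ
  have hPI0 : 0 < Nat.card PI := Nat.card_pos
  have hA'0 : 0 < Nat.card A' := Nat.card_pos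
  have h4b : Nat.card A = 4 * Nat.card A' := by
    refine le_antisymm ?_ h4a
    have h1 := Subgroup.card_le_of_le hsQ
    rw [hcQ] at h1
    have h3 : Nat.card A * Nat.card PI ≤ (4 * Nat.card A') * Nat.card PI := by
      calc Nat.card A * Nat.card PI = Nat.card ↥(A ⊔ PI) * Nat.card A' := hcs.symm
        _ ≤ (4 * Nat.card PI) * Nat.card A' := Nat.mul_le_mul_right _ h1
        _ = _ := by ring
    exact Nat.le_of_mul_le_mul_right h3 hPI0
  have hAPQ : A ⊔ PI = Q := by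
    refine Subgroup.eq_of_le_of_card_ge hsQ ?_
    rw [hcQ]
    rw [h4b] at hcs
    have h3 : Nat.card ↥(A ⊔ PI) * Nat.card A' = (4 * Nat.card PI) * Nat.card A' := by rw [hcs]; ring
    exact (Nat.eq_of_mul_eq_mul_right hA'0 h3).ge
  -- sums
  have hsum : ∀ T : Subgroup G, W ≤ T → T ≤ E → Nat.card ↥(W ⊔ (T ⊓ centralizer (A : Set G))) =
      4 * Nat.card ↥(T ⊓ centralizer (A : Set G)) := by
    intro T hWT hTE
    have h1 := card_sup_comm (A := W) (B := T ⊓ centralizer (A : Set G))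
      (fun a ha b hb => hcE a (hWE ha) b (hTE hb.1))
    have h2 : W ⊓ (T ⊓ centralizer (A : Set G)) = V j ⊔ F := by
      rw [← inf_assoc, inf_eq_left.2 hWT, hWA]
    rw [h2, hcW, hcVF] at h1
    have h3 : Nat.card ↥(W ⊔ (T ⊓ centralizer (A : Set G))) * (4 * Nat.card F) =
        (4 * Nat.card ↥(T ⊓ centralizer (A : Set G))) * (4 * Nat.card F) := by
      rw [h1]; ring
    exact Nat.eq_of_mul_eq_mul_right (by positivity) h3
  have hA'𝓐 : 𝓐 A' := by
    obtain ⟨B', hB, hAB, e⟩ := hA𝓐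
    refine ⟨B', hB, hA'A.trans hAB, le_antisymm (h𝓖b B' hB A' (hA'A.trans hAB)) ?_⟩
    rw [← e, h4b]
    have h1 : W ⊔ (E ⊓ centralizer (A : Set G)) ≤ E ⊓ centralizer (A' : Set G) :=
      sup_le (le_inf hWE (le_centralizer_iff.1 inf_le_right)) (inf_le_inf_left _ (centralizer_le hA'A))
    have h2 := Subgroup.card_le_of_le h1
    rw [hsum E hWE le_rfl] at h2
    calc 4 * Nat.card A' * Nat.card ↥(E ⊓ centralizer (A : Set G))
        = Nat.card A' * (4 * Nat.card ↥(E ⊓ centralizer (A : Set G))) := by ring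
      _ ≤ _ := Nat.mul_le_mul_left _ h2
  have hA'U : A' ≤ centralizer (U : Set G) := by
    by_contra hcon
    have h1 := hmin A' ⟨hA'𝓐, hA'A.trans hAQ, hcon⟩
    rw [← hmA] at h1
    have h2 : A ⊓ centralizer (U : Set G) = A' ⊓ centralizer (U : Set G) :=
      le_antisymm (le_inf (le_inf inf_le_left (inf_le_right.trans (centralizer_le hWU))) inf_le_right)
        (inf_le_inf_right _ hA'A)
    have h3 : m A = 4 * m A' := by
      show Nat.card A / Nat.card ↥(A ⊓ centralizer (U : Set G)) = 4 * (Nat.card A' / Nat.card ↥(A' ⊓ centralizer (U : Set G)))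
      rw [h2, h4b]
      exact Nat.mul_div_assoc 4 (Subgroup.card_dvd_of_le inf_le_left)
    have h4 : 0 < m A' := Nat.div_pos (Nat.le_of_dvd hA'0 (Subgroup.card_dvd_of_le inf_le_left)) Nat.card_pos
    omega
  have hUeq : U = W ⊔ (U ⊓ centralizer (A : Set G)) := by
    symm
    refine Subgroup.eq_of_le_of_card_ge (sup_le hWU inf_le_left) ?_
    rw [hsum U hWU hUE]
    have h1 := hbU A' hA'A
    have h2 : U ⊓ centralizer (A' : Set G) = U := inf_eq_left.2 (le_centralizer_iff.1 hA'U)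
    rw [h2, h4b] at h1
    have h3 : Nat.card A' * Nat.card U ≤ Nat.card A' * (4 * Nat.card ↥(U ⊓ centralizer (A : Set G))) := by
      calc Nat.card A' * Nat.card U ≤ _ := h1
        _ = _ := by ring
    exact Nat.le_of_mul_le_mul_left h3 hA'0
  refine ⟨U, A, hWU, hUE.trans inf_le_left, le_sup_left.trans hUH, le_sup_right.trans hUH, le_rfl, hAQ, hAW, hAPQ, hUeq,
    ?_⟩
  -- `O²(Y)` centralises `U / W`
  have hYU : Y ≤ normalizer (U : Set G) := le_sup_left.trans hUH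
  have hACC : A ≤ CC Y U W h.YW := by
    intro a ha
    refine ⟨hQY (hAQ ha), fun u hu => ?_⟩
    rw [hUeq] at hu
    obtain ⟨w, hw, x, hx, rfl⟩ := mem_sup_comm (A := W) (B := U ⊓ centralizer (A : Set G))
      (fun p hp q hq => hcE p (hWE hp) q (hUE hq.1)) hu
    have h1 : a * x = x * a := mem_centralizer_iff.1 hx.2 a ha
    have e : a * (w * x) * a⁻¹ * (w * x)⁻¹ = a * w * a⁻¹ * w⁻¹ := by
      calc a * (w * x) * a⁻¹ * (w * x)⁻¹ = a * w * (x * a⁻¹) * (x⁻¹ * w⁻¹) := by group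
        _ = a * w * (a⁻¹ * (a * x) * a⁻¹) * (x⁻¹ * w⁻¹) := by group
        _ = a * w * (a⁻¹ * (x * a) * a⁻¹) * (x⁻¹ * w⁻¹) := by rw [h1]
        _ = a * w * a⁻¹ * w⁻¹ := by group
    rw [e]
    exact h.VF_W (h.quad a (hAQ ha) w hw)
  rcases NO3b.K0.min_or (h.syl c) h.min (K := CC Y U W h.YW) (fun x hx => hx.1) (CC_norm hYU h.YW) with h2 | h2
  · exact fun k hk => (h2 hk).2
  · exact absurd ((le_inf (hAQ.trans c.QB) hACC).trans (h2.trans (h.o2_cW c))) hAW

end Cfsg.Agent.Omega.NO3S.WY.Tor
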