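import Cfsg.Agent.Omega.NO3b.Closed.Pow
import Cfsg.Agent.MinSimple.VModule
import Cfsg.Agent.PLocal.ElemAbSup

/-!
# THEOREM TOR (bb OMEGA #25011, helper474): part (4); (4+) of #25169 (helper491)

`A` elementary abelian, normalised by `Y = Y_j`; `Ker0 Y Q A` = conclusion of (0), the odd kernel lemma, for the
sections of `A`; `O = O₂(Y)`.

* `norm_W`, `comm_W` : `V = V_i ≤ W = W_i ≤ A`, `|W/V| = 4`, `V` normalised by `Y`, `W` by `N_Y(Q)`, `O` moves `W/V`: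
  then `Y` normalises `W` (this is (4+));
* `cent_W` : if moreover `O²(Y)` centralises `V`, it centralises `W`;
* `four` : (4) as printed: if only `W_i L` is normalised by `N_Y(Q)`, then `Y` normalises `W_i W_j L`, and
  `C_A(Π) = W_j L`.
-/

set_option autoImplicit false
set_option linter.unusedSectionVars false

namespace Cfsg.Agent.Omega.NO3S.WY.Tor.Four

open Subgroup
open Cfsg.Agent.MinSimple.VModule (oddGen oddGen_def)
open scoped commutatorElement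

variable {G : Type*} [Group G]

/-- **(0)** as an input: `Y` fixes, in every section `⟨v^Y⟩ N₁ / N₁` of `A`, every vector `v` fixed by `N_Y(Q)`. -/
def Ker0 (Y Q A : Subgroup G) : Prop :=
  ∀ N₁ : Subgroup G, N₁ ≤ A → Y ≤ normalizer (N₁ : Set G) → ∀ v ∈ A,
    (∀ g ∈ Y, g ∈ normalizer (Q : Set G) → ⁅g, v⁆ ∈ N₁) → ∀ y ∈ Y, ⁅y, v⁆ ∈ N₁

theorem le_norm_of_comm {Y W : Subgroup G} (h : ∀ y ∈ Y, ∀ w ∈ W, ⁅y, w⁆ ∈ W) : Y ≤ normalizer (W : Set G) := by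
  have key : ∀ y ∈ Y, ∀ w ∈ W, y * w * y⁻¹ ∈ W := fun y hy w hw => by
    have h1 := mul_mem (h y hy w hw) hw
    rwa [commutatorElement_def, inv_mul_cancel_right] at h1
  intro y hy
  rw [mem_normalizer_iff]
  refine fun w => ⟨key y hy w, fun hw => ?_⟩
  have h1 := key y⁻¹ (inv_mem hy) _ hw
  have e : y⁻¹ * (y * w * y⁻¹) * y⁻¹⁻¹ = w := by group
  rwa [e] at h1

theorem comm_of_mem_norm {g w : G} {W : Subgroup G} (hg : g ∈ normalizer (W : Set G)) (hw : w ∈ W) : ⁅g, w⁆ ∈ W := by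
  rw [commutatorElement_def]
  exact mul_mem ((mem_normalizer_iff.1 hg w).1 hw) (inv_mem hw)

/-- `g` acts trivially on a section of order 2. -/
theorem comm_mem_of_two {g : G} {W W₀ : Subgroup G} (_h0 : W₀ ≤ W) (h2 : W₀.relIndex W = 2)
    (hg : g ∈ normalizer (W : Set G)) (hg0 : g ∈ normalizer (W₀ : Set G)) {w : G} (hw : w ∈ W) : ⁅g, w⁆ ∈ W₀ := by
  by_cases h : w ∈ W₀
  · exact comm_of_mem_norm hg0 h
  · have h1 : g * w * g⁻¹ ∈ W := (mem_normalizer_iff.1 hg w).1 hw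
    have h3 : g * w * g⁻¹ ∉ W₀ := fun h4 => h ((mem_normalizer_iff.1 hg0 w).2 h4)
    have h5 : (W₀.subgroupOf W).index = 2 := h2
    have h6 := Subgroup.mul_mem_iff_of_index_two h5 (a := ⟨_, h1⟩) (b := ⟨w⁻¹, inv_mem hw⟩)
    have h7 : (⟨_, h1⟩ * ⟨w⁻¹, inv_mem hw⟩ : W) ∈ W₀.subgroupOf W := by
      rw [h6, mem_subgroupOf, mem_subgroupOf]
      exact ⟨fun h8 => absurd h8 h3, fun h8 => absurd ((inv_mem_iff).1 h8) h⟩
    exact mem_subgroupOf.1 h7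

/-- `{w ∈ W | [w, O] ⊆ V}` -/
def Fx (O V W : Subgroup G) (h : ∀ x ∈ V, ∀ w ∈ W, w * x * w⁻¹ ∈ V) : Subgroup G where
  carrier := {w | w ∈ W ∧ ∀ o ∈ O, ⁅o, w⁆ ∈ V}
  one_mem' := ⟨one_mem _, fun o _ => by simp⟩
  mul_mem' := by
    rintro a b ⟨ha, ha'⟩ ⟨hb, hb'⟩
    refine ⟨mul_mem ha hb, fun o ho => ?_⟩
    have e : ⁅o, a * b⁆ = ⁅o, a⁆ * (a * ⁅o, b⁆ * a⁻¹) := by
      simp only [commutatorElement_def]; group
    rw [e]
    exact mul_mem (ha' o ho) (h _ (hb' o ho) _ ha)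
  inv_mem' := by
    rintro a ⟨ha, ha'⟩
    refine ⟨inv_mem ha, fun o ho => ?_⟩
    have e : ⁅o, a⁻¹⁆ = a⁻¹ * ⁅o, a⁆⁻¹ * a⁻¹⁻¹ := by
      simp only [commutatorElement_def]; group
    rw [e]
    exact h _ (inv_mem (ha' o ho)) _ (inv_mem ha)

theorem mem_Fx {O V W : Subgroup G} {h : ∀ x ∈ V, ∀ w ∈ W, w * x * w⁻¹ ∈ V} {w : G} :
    w ∈ Fx O V W h ↔ w ∈ W ∧ ∀ o ∈ O, ⁅o, w⁆ ∈ V := Iff.rfl

theorem rel_mul_card {A B : Subgroup G} (h : A ≤ B) : A.relIndex B * Nat.card A = Nat.card B := by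
  have h1 := (A.subgroupOf B).index_mul_card
  rwa [Nat.card_congr (Subgroup.subgroupOfEquivOfLe h).toEquiv] at h1

section main

variable [Finite G] {Y Q A V W O : Subgroup G}

/-- the chain `V < W₀ < W` of (4) -/
theorem exists_chain (h0 : Ker0 Y Q A) (Aab : ∀ a ∈ A, ∀ b ∈ A, a * b = b * a) (WA : W ≤ A) (W2 : IsPGroup 2 W)
    (VW : V ≤ W) (YV : Y ≤ normalizer (V : Set G))
    (NW : ∀ g ∈ Y, g ∈ normalizer (Q : Set G) → g ∈ normalizer (W : Set G)) (OY : O ≤ Y)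
    (ON : Y ≤ normalizer (O : Set G)) (OQ : O ≤ normalizer (Q : Set G)) (O2 : IsPGroup 2 O)
    (c4 : Nat.card W = 4 * Nat.card V) (mv : ¬ ⁅O, W⁆ ≤ V) :
    ∃ W₀ : Subgroup G, V ≤ W₀ ∧ W₀ ≤ W ∧ (∀ y ∈ Y, ∀ v ∈ W₀, ⁅y, v⁆ ∈ V) ∧ ∀ y ∈ Y, ∀ w ∈ W, ⁅y, w⁆ ∈ W₀ := by
  have hV : ∀ x ∈ V, ∀ w ∈ W, w * x * w⁻¹ ∈ V := fun x hx w hw => by
    rw [Aab w (WA hw) x (WA (VW hx)), mul_inv_cancel_right]; exact hx
  have hOW : O ≤ normalizer (W : Set G) := fun o ho => NW o (OY ho) (OQ ho)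
  set W₀ := Fx O V W hV with hW₀
  have h1 : V ≤ W₀ := fun v hv => ⟨VW hv, fun o ho => comm_of_mem_norm (YV (OY ho)) hv⟩
  have h2 : W₀ ≤ W := fun w hw => hw.1
  have h3 : ∀ g ∈ Y, g ∈ normalizer (Q : Set G) → g ∈ normalizer (W₀ : Set G) := by
    have key : ∀ g ∈ Y ⊓ normalizer (Q : Set G), ∀ w ∈ W₀, g * w * g⁻¹ ∈ W₀ := by
      rintro g ⟨hg, hgQ⟩ w ⟨hw, hw'⟩
      refine ⟨(mem_normalizer_iff.1 (NW g hg hgQ) w).1 hw, fun o ho => ?_⟩
      have h4 : g⁻¹ * o * g ∈ O := by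
        have := (mem_normalizer_iff.1 (ON (inv_mem hg)) o).1 ho
        rwa [inv_inv] at this
      have e : ⁅o, g * w * g⁻¹⁆ = g * ⁅g⁻¹ * o * g, w⁆ * g⁻¹ := by
        simp only [commutatorElement_def]; group
      rw [e]
      exact (mem_normalizer_iff.1 (YV hg) _).1 (hw' _ h4)
    intro g hg hgQ
    refine (le_norm_of_comm (Y := Y ⊓ normalizer (Q : Set G)) fun y hy w hw => ?_) ⟨hg, hgQ⟩
    rw [commutatorElement_def]
    exact mul_mem (key y hy w hw) (inv_mem hw)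
  -- `V < W₀ < W`
  have h4 : ¬ W ≤ W₀ := fun h => mv (by
    rw [commutator_le]
    exact fun o ho w hw => (h hw).2 o ho)
  have h5 : ¬ W ≤ V := fun h => by
    have := card_le_of_le h
    have h6 : 0 < Nat.card V := Nat.card_pos
    omega
  have h6 : ¬ W₀ ≤ V := by
    obtain ⟨m, hm, hmV, hmO⟩ := NO3b.ClosedPow.exists_fixed_mod (S := O) (B := W) (A := V) O2 W2
      (fun x hx b hb => (mem_normalizer_iff.1 (hOW hx) b).1 hb)
      (fun x hx b hb => (mem_normalizer_iff.1 (YV (OY hx)) b).1 hb)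
      (fun x hx b hb => hV b hb x hx) h5
    exact fun h => hmV (h ⟨hm, hmO⟩)
  have e1 := relIndex_mul_relIndex V W₀ W h1 h2
  have e2 : V.relIndex W * Nat.card V = Nat.card W := rel_mul_card VW
  have h7 : V.relIndex W = 4 := by
    have h8 : 0 < Nat.card V := Nat.card_pos
    rw [c4] at e2
    exact Nat.eq_of_mul_eq_mul_right h8 e2
  have h8 : V.relIndex W₀ ≠ 1 := fun h => h6 (relIndex_eq_one.1 h)
  have h9 : W₀.relIndex W ≠ 1 := fun h => h4 (relIndex_eq_one.1 h)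
  rw [h7] at e1
  have h10 : V.relIndex W₀ = 2 ∧ W₀.relIndex W = 2 := by
    have hd : V.relIndex W₀ ∣ 4 := ⟨_, e1.symm⟩
    have hle : V.relIndex W₀ ≤ 4 := Nat.le_of_dvd (by norm_num) hd
    generalize V.relIndex W₀ = a at *
    generalize W₀.relIndex W = b at *
    interval_cases a <;> omega
  have A1 : ∀ y ∈ Y, ∀ v ∈ W₀, ⁅y, v⁆ ∈ V := fun y hy v hv =>
    h0 V (VW.trans WA) YV v (WA (h2 hv)) (fun g hg hgQ => comm_mem_of_two h1 h10.1 (h3 g hg hgQ) (YV hg) hv) y hy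
  have A2 : Y ≤ normalizer (W₀ : Set G) := le_norm_of_comm fun y hy v hv => h1 (A1 y hy v hv)
  exact ⟨W₀, h1, h2, A1, fun y hy w hw => h0 W₀ (h2.trans WA) A2 w (WA hw)
    (fun g hg hgQ => comm_mem_of_two h2 h10.2 (NW g hg hgQ) (A2 hg) hw) y hy⟩

/-- **(4+)**: `Y` normalises `W`. -/
theorem norm_W (h0 : Ker0 Y Q A) (Aab : ∀ a ∈ A, ∀ b ∈ A, a * b = b * a) (WA : W ≤ A) (W2 : IsPGroup 2 W)
    (VW : V ≤ W) (YV : Y ≤ normalizer (V : Set G))
    (NW : ∀ g ∈ Y, g ∈ normalizer (Q : Set G) → g ∈ normalizer (W : Set G)) (OY : O ≤ Y)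
    (ON : Y ≤ normalizer (O : Set G)) (OQ : O ≤ normalizer (Q : Set G)) (O2 : IsPGroup 2 O)
    (c4 : Nat.card W = 4 * Nat.card V) (mv : ¬ ⁅O, W⁆ ≤ V) : Y ≤ normalizer (W : Set G) := by
  obtain ⟨W₀, -, h2, -, h4⟩ := exists_chain h0 Aab WA W2 VW YV NW OY ON OQ O2 c4 mv
  exact le_norm_of_comm fun y hy w hw => h2 (h4 y hy w hw)

/-- An element of odd order which centralises `[x, w]` (of order at most 2) centralises `w`. -/
theorem comm_eq_one_of_odd {x w : G} (hx : Odd (orderOf x)) (h1 : x * ⁅x, w⁆ = ⁅x, w⁆ * x) (h2 : ⁅x, w⁆ ^ 2 = 1) :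
    ⁅x, w⁆ = 1 := by
  set c := ⁅x, w⁆ with hc
  have h3 : x * w * x⁻¹ = c * w := by rw [hc, commutatorElement_def]; group
  have h4 : x * c * x⁻¹ = c := by rw [h1, mul_inv_cancel_right]
  have key : ∀ n : ℕ, x ^ n * w * (x ^ n)⁻¹ = c ^ n * w := by
    intro n
    induction n with
    | zero => simp
    | succ n ih =>
      have e : x ^ (n + 1) * w * (x ^ (n + 1))⁻¹ = x * (x ^ n * w * (x ^ n)⁻¹) * x⁻¹ := by
        rw [pow_succ']; group
      have e2 : x * (c ^ n * w) * x⁻¹ = (x * c * x⁻¹) ^ n * (x * w * x⁻¹) := by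
        rw [conj_pow]; group
      rw [e, ih, e2, h4, h3, pow_succ]
      group
  have h5 := key (orderOf x)
  rw [pow_orderOf_eq_one] at h5
  have h6 : c ^ orderOf x = 1 := by
    have : c ^ orderOf x * w = 1 * w := by rw [← h5]; group
    exact mul_right_cancel this
  obtain ⟨m, hm⟩ := hx
  rw [hm, pow_succ, pow_mul, h2, one_pow, one_mul] at h6
  exact h6

/-- `O²(Y)` centralises `W` if it centralises `V`. -/
theorem cent_W (h0 : Ker0 Y Q A) (Aab : ∀ a ∈ A, ∀ b ∈ A, a * b = b * a) (A2 : ∀ a ∈ A, a ^ 2 = 1) (WA : W ≤ A)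
    (VW : V ≤ W) (YV : Y ≤ normalizer (V : Set G))
    (NW : ∀ g ∈ Y, g ∈ normalizer (Q : Set G) → g ∈ normalizer (W : Set G)) (OY : O ≤ Y)
    (ON : Y ≤ normalizer (O : Set G)) (OQ : O ≤ normalizer (Q : Set G)) (O2 : IsPGroup 2 O)
    (c4 : Nat.card W = 4 * Nat.card V) (mv : ¬ ⁅O, W⁆ ≤ V) (hV : oddGen Y ≤ centralizer (V : Set G)) :
    oddGen Y ≤ centralizer (W : Set G) := by
  have W2 : IsPGroup 2 W := fun w => ⟨1, by
    have := A2 w (WA w.2)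
    ext
    simpa using this⟩
  obtain ⟨W₀, h1, h2, h3, h4⟩ := exists_chain h0 Aab WA W2 VW YV NW OY ON OQ O2 c4 mv
  rw [oddGen_def, closure_le]
  rintro x ⟨hx, ho⟩
  have a1 : ∀ v ∈ V, ⁅x, v⁆ = 1 := fun v hv => by
    rw [commutatorElement_eq_one_iff_mul_comm]
    exact (mem_centralizer_iff.1 (hV (subset_closure ⟨hx, ho⟩)) v hv).symm
  have a2 : ∀ v ∈ W₀, ⁅x, v⁆ = 1 := fun v hv =>
    comm_eq_one_of_odd ho (commutatorElement_eq_one_iff_mul_comm.1 (a1 _ (h3 x hx v hv)))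
      (A2 _ (WA (VW (h3 x hx v hv))))
  have a3 : ∀ w ∈ W, ⁅x, w⁆ = 1 := fun w hw =>
    comm_eq_one_of_odd ho (commutatorElement_eq_one_iff_mul_comm.1 (a2 _ (h4 x hx w hw)))
      (A2 _ (WA (h2 (h4 x hx w hw))))
  exact mem_centralizer_iff.2 fun w hw => (commutatorElement_eq_one_iff_mul_comm.1 (a3 w hw)).symm

end main

section four

theorem mem_norm_sup {g : G} {A B : Subgroup G} (hA : g ∈ normalizer (A : Set G)) (hB : g ∈ normalizer (B : Set G)) :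
    g ∈ normalizer ((A ⊔ B : Subgroup G) : Set G) := by
  rw [Subgroup.mem_normalizer_iff_map_conj_eq] at *
  rw [Subgroup.map_sup, hA, hB]

variable [Finite G] {Y Q A L Wi Wj O P F : Subgroup G}

theorem card_sup_mul {A B V : Subgroup G} (hV : ∀ a ∈ V, ∀ b ∈ V, a * b = b * a) (hA : A ≤ V) (hB : B ≤ V) :
    Nat.card ↥(A ⊔ B) * Nat.card ↥(A ⊓ B) = Nat.card A * Nat.card B :=
  Cfsg.Agent.PLocal.ElemAbSup.card_sup_mul_card_inf fun b hb => mem_centralizer_iff.2 fun a ha =>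
    hV a (hA ha) b (hB hb)

/-- `C_A(Π) = W_j L` -/
theorem cent_eq (WjA : Wj ≤ A) (LA : L ≤ A) (Pj : P ≤ centralizer (Wj : Set G)) (PL : P ≤ centralizer (L : Set G))
    (CQ : A ⊓ centralizer (P : Set G) ⊓ centralizer (F : Set G) ≤ L)
    (off : Nat.card (A ⊓ centralizer (P : Set G) : Subgroup G) ≤
      4 * Nat.card (A ⊓ centralizer (P : Set G) ⊓ centralizer (F : Set G) : Subgroup G))
    (cj : 4 * Nat.card L ≤ Nat.card (Wj ⊔ L : Subgroup G)) : A ⊓ centralizer (P : Set G) = Wj ⊔ L := by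
  refine (Subgroup.eq_of_le_of_card_ge (sup_le (le_inf WjA ?_) (le_inf LA ?_)) ?_).symm
  · rwa [le_centralizer_iff]
  · rwa [le_centralizer_iff]
  · have h1 := card_le_of_le CQ
    omega

/-- **(4)** as printed; `P = Π_j = C_Q(W_j L)`, `F = W_F`. -/
theorem four (h0 : Ker0 Y Q A) (Aab : ∀ a ∈ A, ∀ b ∈ A, a * b = b * a) (A2 : ∀ a ∈ A, a ^ 2 = 1)
    (YA : Y ≤ normalizer (A : Set G)) (YP : Y ≤ normalizer (P : Set G)) (WiA : Wi ≤ A) (WjA : Wj ≤ A) (LA : L ≤ A)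
    (Pj : P ≤ centralizer (Wj : Set G)) (PL : P ≤ centralizer (L : Set G))
    (NW : ∀ g ∈ Y, g ∈ normalizer (Q : Set G) → g ∈ normalizer ((Wi ⊔ L : Subgroup G) : Set G)) (OY : O ≤ Y)
    (ON : Y ≤ normalizer (O : Set G)) (OQ : O ≤ normalizer (Q : Set G)) (O2 : IsPGroup 2 O)
    (ci : Nat.card Wi = 4 * Nat.card (Wi ⊓ centralizer (P : Set G) : Subgroup G))
    (mv : ¬ ⁅O, Wi⁆ ≤ centralizer (P : Set G))
    (CQ : A ⊓ centralizer (P : Set G) ⊓ centralizer (F : Set G) ≤ L)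
    (off : Nat.card (A ⊓ centralizer (P : Set G) : Subgroup G) ≤
      4 * Nat.card (A ⊓ centralizer (P : Set G) ⊓ centralizer (F : Set G) : Subgroup G))
    (cj : 4 * Nat.card L ≤ Nat.card (Wj ⊔ L : Subgroup G)) :
    Y ≤ normalizer ((Wi ⊔ (Wj ⊔ L) : Subgroup G) : Set G) := by
  have hN := cent_eq WjA LA Pj PL CQ off cj
  set N₁ : Subgroup G := A ⊓ centralizer (P : Set G) with hN₁
  rw [← hN]
  have hYN : Y ≤ normalizer (N₁ : Set G) := le_norm_of_comm fun y hy v hv => by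
    have h1 : y * v * y⁻¹ ∈ A := (mem_normalizer_iff.1 (YA hy) v).1 hv.1
    have h2 : y * v * y⁻¹ ∈ centralizer (P : Set G) := by
      rw [mem_centralizer_iff]
      intro p hp
      have h3 : y⁻¹ * p * y ∈ P := by
        have := (mem_normalizer_iff.1 (YP (inv_mem hy)) p).1 hp
        rwa [inv_inv] at this
      have h4 := mem_centralizer_iff.1 hv.2 _ h3
      calc p * (y * v * y⁻¹) = y * (y⁻¹ * p * y * v) * y⁻¹ := by group
        _ = y * (v * (y⁻¹ * p * y)) * y⁻¹ := by rw [h4]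
        _ = y * v * y⁻¹ * p := by group
    rw [commutatorElement_def]
    exact mul_mem (⟨h1, h2⟩ : y * v * y⁻¹ ∈ N₁) (inv_mem hv)
  have A2' : IsPGroup 2 A := fun a => ⟨1, by
    have := A2 a a.2
    ext
    simpa using this⟩
  have hLN : L ≤ N₁ := by rw [hN]; exact le_sup_right
  have hNA : N₁ ≤ A := inf_le_left
  have e1 : Wi ⊔ N₁ = (Wi ⊔ L) ⊔ N₁ := by rw [sup_assoc, sup_eq_right.2 hLN]
  refine norm_W h0 Aab (sup_le WiA hNA) (A2'.to_le (sup_le WiA hNA)) le_sup_right hYN (fun g hg hgQ => ?_) OY ON OQ O2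
    ?_ fun h => mv ?_
  · rw [e1]
    exact mem_norm_sup (NW g hg hgQ) (hYN hg)
  · have h1 := card_sup_mul Aab WiA hNA
    have h2 : Wi ⊓ N₁ = Wi ⊓ centralizer (P : Set G) := by
      rw [hN₁, ← inf_assoc, inf_eq_left.2 WiA]
    rw [h2, ci] at h1
    have h3 : 0 < Nat.card (Wi ⊓ centralizer (P : Set G) : Subgroup G) := Nat.card_pos
    nlinarith
  · exact (commutator_mono le_rfl le_sup_left).trans (h.trans inf_le_right)

end four

end Cfsg.Agent.Omega.NO3S.WY.Tor.Four
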