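import Cfsg.Agent.Omega.NO3S.WY.Tor.Four
import Cfsg.Agent.Omega.NO3S.WY.Tor.Base

/-!
# THEOREM TOR: `Ker0` and (4+) over the frame `Cx`, `Off`, `TY` of helper474

* `OddK X Q Y` : the conclusion of (0) (literal `TY.odd_ker` of helper491);
* `QW` : a member of `𝓦` in `S` which moves `W` covers `Q / C_Q(W)`;
* `ker0` : `Four.Ker0 Y Q (X ⊓ O₂(C_G(D)))` for every `1 ≠ D ≤ L` normalised by `Y`;
* `Ln5`, `exists_ln5` : the five lines if `F = 1`; `Ln5.cent` : `y ∈ Y` which centralises a line and one vector `≠ 1` of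
  another line centralises `W`; `exists_q` : `[Q, w] = V_j` for `w ∈ W - V_j`;
* `mem_QO` : `t ∈ B`, `t` centralises `V_j` ⇒ `t ∈ Q O₂(Y)`; `mv_quot` : `t ∈ B` moves `V_j` ⇒ `t` moves `W / V_j`;
* `kc` : **(4+)** = the input `KC` of `TY.false_end`.
-/

set_option autoImplicit false
set_option linter.unusedSectionVars false

namespace Cfsg.Agent.Omega.NO3S.WY.Tor.FourTY

open Subgroup Cfsg Cfsg.Agent.ZN Cfsg.Agent.ZN.ChoiceBase
open Cfsg.Agent.ZN.ChoiceSit (Syl)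
open Cfsg.Agent.MinSimple.VModule (oddGen oddGen_le mem_oddGen)
open Cfsg.Agent.Omega.SQ1.Bau (mem_sup_comm card_sup_comm)
open scoped commutatorElement

universe u

variable {G : Type u} [Group G] {ι : Type}

/-- **(0)**: literal of `TY.odd_ker` -/
def OddK (X Q Y : Subgroup G) : Prop :=
  ∀ N N₀ : Subgroup G, N ≤ X → N₀ ≤ N → Y ≤ normalizer (N : Set G) → Y ≤ normalizer (N₀ : Set G) →
    (∀ n ∈ N, ∀ y ∈ o2 Y, y * n * y⁻¹ * n⁻¹ ∈ N₀) →
    (∀ n ∈ N, ∀ a ∈ Q, ∀ b ∈ Q, b * (a * n * a⁻¹ * n⁻¹) * b⁻¹ * (a * n * a⁻¹ * n⁻¹)⁻¹ ∈ N₀) →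
    ∀ v ∈ N, (∀ y ∈ Y, y ∈ normalizer (Q : Set G) → y * v * y⁻¹ * v⁻¹ ∈ N₀) → ∀ y ∈ Y, y * v * y⁻¹ * v⁻¹ ∈ N₀

variable [Finite G] {S B Q M X L : Subgroup G} {V : ι → Subgroup G} {z : ι → G} {𝓦 : Set (Subgroup G)} {j : ι}
  {Y W F : Subgroup G}

/-- a member of `𝓦` which moves `W` covers `Q / C_Q(W)` -/
theorem QW (c : Cx S B Q M X L V z) (o : Off S Q M X L 𝓦) (h : TY S B Q M X V z 𝓦 j Y W F)
    {D : Subgroup G} (hD : D ≠ ⊥) (hDL : D ≤ L) (hW : W ≤ o2 (centralizer (D : Set G)))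
    {A : Subgroup G} (hA : A ∈ 𝓦) (hAS : A ≤ S) (hm : ¬ A ≤ centralizer (W : Set G)) :
    Q ≤ A ⊔ (Q ⊓ centralizer (W : Set G)) := by
  have hAQ : A ≤ Q := o.AQ A hA hAS
  have h1 := o.best A hA hAS 1 (one_mem _) D hD (by rw [cj_one]; exact hDL) W h.WX hW
    (A ⊓ centralizer (W : Set G)) (by rw [cj_one]; exact inf_le_left)
  rw [cj_one] at h1
  have h2 : W ⊓ centralizer ((A ⊓ centralizer (W : Set G) : Subgroup G) : Set G) = W := by
    refine inf_eq_left.2 ?_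
    rw [le_centralizer_iff]
    exact inf_le_right
  have h3 : W ⊓ centralizer (A : Set G) ≤ V j ⊔ F := by
    rintro w ⟨hw, hwA⟩
    by_contra hcon
    apply hm
    intro a ha
    have h4 := h.free a (hAQ ha) w hw hcon (by
      have h5 : a * w = w * a := mem_centralizer_iff.1 hwA a ha
      rw [h5, mul_inv_cancel_right, mul_inv_cancel]
      exact one_mem _)
    exact mem_centralizer_iff.2 fun u hu => (h4 u hu).symm
  have h4 := Subgroup.card_le_of_le h3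
  rw [h.card_VF c] at h4
  rw [h2, h.cW] at h1
  have hF : 0 < Nat.card F := Nat.card_pos
  have h5 : 4 * Nat.card ↥(A ⊓ centralizer (W : Set G)) ≤ Nat.card A := by
    have h6 : Nat.card ↥(A ⊓ centralizer (W : Set G)) * (16 * Nat.card F) ≤ Nat.card A * (4 * Nat.card F) :=
      h1.trans (Nat.mul_le_mul_left _ h4)
    have h7 : (4 * Nat.card ↥(A ⊓ centralizer (W : Set G))) * (4 * Nat.card F) ≤ Nat.card A * (4 * Nat.card F) := by
      calc (4 * Nat.card ↥(A ⊓ centralizer (W : Set G))) * (4 * Nat.card F)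
          = Nat.card ↥(A ⊓ centralizer (W : Set G)) * (16 * Nat.card F) := by ring
        _ ≤ _ := h6
    exact Nat.le_of_mul_le_mul_right h7 (by omega)
  set C := Q ⊓ centralizer (W : Set G) with hC
  have hAC : A ⊓ centralizer (W : Set G) = A ⊓ C := by
    rw [hC, ← inf_assoc, inf_eq_left.2 hAQ]
  -- indices
  have i1 : C.relIndex Q * Nat.card C = Nat.card Q := Four.rel_mul_card inf_le_left
  rw [h.cardQ] at i1
  have hCp : 0 < Nat.card C := Nat.card_pos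
  have i2 : C.relIndex Q = 4 := Nat.eq_of_mul_eq_mul_right hCp i1
  have i3 : (A ⊓ C).relIndex A * Nat.card ↥(A ⊓ C) = Nat.card A := Four.rel_mul_card inf_le_left
  have i4 : 4 ≤ C.relIndex A := by
    have e : (A ⊓ C).relIndex A = C.relIndex A := inf_relIndex_left A C
    rw [e, ← hAC] at i3
    have hp : 0 < Nat.card ↥(A ⊓ centralizer (W : Set G)) := Nat.card_pos
    rw [← i3] at h5
    exact Nat.le_of_mul_le_mul_right h5 hp
  have i5 : C.relIndex (A ⊔ C) * (A ⊔ C).relIndex Q = C.relIndex Q :=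
    relIndex_mul_relIndex C (A ⊔ C) Q le_sup_right (sup_le hAQ inf_le_left)
  have i6 : C.relIndex A ≤ C.relIndex (A ⊔ C) := relIndex_le_of_le_right le_sup_left (by
    intro h0; rw [h0] at i5; omega)
  rw [i2] at i5
  have i7 : (A ⊔ C).relIndex Q = 1 := by
    have h8 : 0 < (A ⊔ C).relIndex Q := Nat.pos_of_ne_zero (by intro h0; rw [h0] at i5; omega)
    by_contra h9
    have h10 : 2 ≤ (A ⊔ C).relIndex Q := by omega
    nlinarith
  exact relIndex_eq_one.1 i7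

/-- **`Ker0` over the frame.** -/
theorem ker0 (c : Cx S B Q M X L V z) (o : Off S Q M X L 𝓦) (h : TY S B Q M X V z 𝓦 j Y W F)
    {D : Subgroup G} (hD : D ≠ ⊥) (hDL : D ≤ L) (hYD : Y ≤ normalizer (D : Set G))
    (hW : W ≤ o2 (centralizer (D : Set G))) (ok : OddK X Q Y) :
    Four.Ker0 Y Q (X ⊓ o2 (centralizer (D : Set G))) := by
  set A := X ⊓ o2 (centralizer (D : Set G)) with hA
  intro N₁ hN₁ hYN v hv hf
  have hYA : Y ≤ normalizer (A : Set G) := by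
    intro y hy
    rw [hA, mem_normalizer_iff_cj, cj_inf, cj_eq_of_mem_normalizer (c.MX (h.YM hy)),
      cj_eq_of_mem_normalizer (normalizer_le_of_cj (F := fun T => o2 (centralizer (T : Set G)))
        (fun g T => by rw [← ChoiceSit.o2_cj, cj_centralizer]) D (hYD hy))]
  have hVn : ∀ x ∈ N₁, ∀ w ∈ A, w * x * w⁻¹ ∈ N₁ := fun x hx w hw => by
    rw [c.xc hw.1 (hN₁ hx).1, mul_inv_cancel_right]; exact hx
  obtain ⟨A₀, hA₀, hA₀S, hA₀m⟩ := h.mv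
  have hA₀Q : A₀ ≤ Q := o.AQ A₀ hA₀ hA₀S
  have hQW := QW c o h hD hDL hW hA₀ hA₀S hA₀m
  have hBY := h.BY
  have hQY : Q ≤ Y := c.QB.trans hBY
  have ho2Q : o2 Y ≤ normalizer (Q : Set G) := (h.o2B c).trans c.BQ
  set N := Four.Fx (o2 Y) N₁ A hVn with hN
  have hN₁N : N₁ ≤ N := fun x hx => ⟨hN₁ hx, fun y hy => by
    have h1 : y ∈ Y := MinSimple.VModule.o2_le Y hy
    exact Four.comm_of_mem_norm (hYN h1) hx⟩
  have hNA : N ≤ A := fun x hx => hx.1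
  have hYNN : Y ≤ normalizer (N : Set G) := Four.le_norm_of_comm fun y hy w hw => by
    have h2 : y * w * y⁻¹ ∈ N := by
      refine ⟨(mem_normalizer_iff.1 (hYA hy) w).1 hw.1, fun o ho => ?_⟩
      have h4 : y⁻¹ * o * y ∈ o2 Y := by
        have := (mem_normalizer_iff.1 (ChoiceSit.le_normalizer_o2 Y (inv_mem hy)) o).1 ho
        rwa [inv_inv] at this
      have e : ⁅o, y * w * y⁻¹⁆ = y * ⁅y⁻¹ * o * y, w⁆ * y⁻¹ := by
        simp only [commutatorElement_def]; group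
      rw [e]
      exact (mem_normalizer_iff.1 (hYN hy) _).1 (hw.2 _ h4)
    rw [commutatorElement_def]
    exact mul_mem h2 (inv_mem hw)
  have hvN : v ∈ N := ⟨hv, fun y hy => hf y (MinSimple.VModule.o2_le Y hy) (ho2Q hy)⟩
  have hYX : ∀ y ∈ Y, ∀ x ∈ X, y * x * y⁻¹ ∈ X := fun y hy x hx =>
    (mem_normalizer_iff.1 (c.MX (h.YM hy)) x).1 hx
  -- decomposition
  have hdec : ∀ a ∈ Q, ∃ a₁ ∈ A₀, ∃ p ∈ o2 Y, a = a₁ * p := by
    intro a ha
    have hnC : A₀ ≤ normalizer ((Q ⊓ centralizer (W : Set G) : Subgroup G) : Set G) := by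
      rw [← h.PIW c]
      intro x hx
      have hxY := hQY (hA₀Q hx)
      rw [mem_normalizer_iff_cj, cj_inf, cj_eq_of_mem_normalizer (c.BQ (c.QB (hA₀Q hx))),
        cj_eq_of_mem_normalizer (ChoiceSit.le_normalizer_o2 Y hxY)]
    obtain ⟨a₁, ha₁, p, hp, e⟩ := SQ1.Bau.mem_sup_norm hnC (hQW ha)
    rw [← h.PIW c] at hp
    exact ⟨a₁, ha₁, p, hp.2, e⟩
  have hq : ∀ n ∈ N, ∀ a ∈ A₀, ∀ b ∈ A₀, b * (a * n * a⁻¹ * n⁻¹) = (a * n * a⁻¹ * n⁻¹) * b := by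
    intro n hn a ha b hb
    exact o.quad A₀ hA₀ hA₀S 1 (one_mem _) D hD (by rw [cj_one]; exact hDL) n (hNA hn).1 (hNA hn).2 a
      (by rw [cj_one]; exact ha) b (by rw [cj_one]; exact hb)
  intro y hy
  rw [commutatorElement_def]
  refine ok N N₁ (hNA.trans inf_le_left) hN₁N hYNN hYN (fun n hn y hy => hn.2 y hy) ?_ v hvN
    (fun y hy hyQ => hf y hy hyQ) y hy
  intro n hn a ha b hb
  obtain ⟨a₁, ha₁, p, hp, rfl⟩ := hdec a ha
  obtain ⟨b₁, hb₁, p', hp', rfl⟩ := hdec b hb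
  have ha₁Y := hQY (hA₀Q ha₁)
  have hb₁Y := hQY (hA₀Q hb₁)
  have hpY : p ∈ Y := MinSimple.VModule.o2_le Y hp
  have hp'Y : p' ∈ Y := MinSimple.VModule.o2_le Y hp'
  set m := a₁ * n * a₁⁻¹ * n⁻¹ with hm
  have hmN : m ∈ N := mul_mem ((mem_normalizer_iff.1 (hYNN ha₁Y) n).1 hn) (inv_mem hn)
  set k := a₁ * (p * n * p⁻¹ * n⁻¹) * a₁⁻¹ with hk
  have hkN : k ∈ N₁ := (mem_normalizer_iff.1 (hYN ha₁Y) _).1 (hn.2 p hp)
  have e1 : a₁ * p * n * (a₁ * p)⁻¹ * n⁻¹ = k * m := by rw [hk, hm]; group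
  rw [e1]
  have hmX : m ∈ X := (hNA hmN).1
  have hkX : k ∈ X := (hN₁ hkN).1
  have e2 : b₁ * m = m * b₁ := hq n hn a₁ ha₁ b₁ hb₁
  have hk2 : b₁ * (p' * m * p'⁻¹ * m⁻¹) * b₁⁻¹ ∈ N₁ := (mem_normalizer_iff.1 (hYN hb₁Y) _).1 (hmN.2 p' hp')
  have hk3 : b₁ * p' * k * (b₁ * p')⁻¹ ∈ N₁ := (mem_normalizer_iff.1 (hYN (mul_mem hb₁Y hp'Y)) _).1 hkN
  have e3 : b₁ * p' * (k * m) * (b₁ * p')⁻¹ * (k * m)⁻¹ =
      (b₁ * p' * k * (b₁ * p')⁻¹) * (b₁ * (p' * m * p'⁻¹ * m⁻¹) * b₁⁻¹) * ((b₁ * m) * b₁⁻¹ * m⁻¹) * k⁻¹ := by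
    group
  rw [e3, e2]
  have e4 : m * b₁ * b₁⁻¹ * m⁻¹ = 1 := by group
  rw [e4, mul_one]
  exact mul_mem (mul_mem hk3 hk2) (inv_mem hkN)

/-! ### The lines, `F = 1` -/

/-- the five lines -/
structure Ln5 (Y W V₀ : Subgroup G) (ℓ : Fin 5 → Subgroup G) (π : ↥Y →* Equiv.Perm (Fin 5)) : Prop where
  e0 : ℓ 0 = V₀
  le : ∀ a, ℓ a ≤ W
  disj : ∀ a b, a ≠ b → ℓ a ⊓ ℓ b = ⊥
  act : ∀ (y : Y) a, cj (y : G) (ℓ a) = ℓ (π y a)
  card : ∀ a, Nat.card (ℓ a) = 4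
  sup : ∀ a b, a ≠ b → W ≤ ℓ a ⊔ ℓ b

theorem exists_ln5 (c : Cx S B Q M X L V z) (h : TY S B Q M X V z 𝓦 j Y W F) (hF : F = ⊥) :
    ∃ ℓ π, Ln5 Y W (V j) ℓ π := by
  subst hF
  obtain ⟨ℓ, π, e0, hℓW, hℓ, hπ, hA, -⟩ := h.act
  rw [sup_bot_eq] at e0
  have htr : ∀ a, ∃ g : Y, π g 0 = a := by
    intro a
    by_cases ha : a = 0
    · exact ⟨1, by rw [ha]; simp⟩
    · obtain ⟨b, hb0, hba⟩ : ∃ b : Fin 5, b ≠ 0 ∧ b ≠ a := by
        by_cases h1 : a = 1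
        · exact ⟨2, by decide, by rw [h1]; decide⟩
        · exact ⟨1, by decide, fun e => h1 e.symm⟩
      have h4 : (Equiv.swap (0 : Fin 5) b * Equiv.swap 0 a) ∈ alternatingGroup (Fin 5) := by
        rw [Equiv.Perm.mem_alternatingGroup, map_mul, Equiv.Perm.sign_swap (Ne.symm ha),
          Equiv.Perm.sign_swap hb0.symm]
        decide
      obtain ⟨g, hg⟩ := hA h4
      refine ⟨g, ?_⟩
      rw [hg, Equiv.Perm.mul_apply, Equiv.swap_apply_left, Equiv.swap_apply_of_ne_of_ne ha hba.symm]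
  have hcard : ∀ a, Nat.card (ℓ a) = 4 := by
    intro a
    obtain ⟨g, hg⟩ := htr a
    rw [← hg, ← hπ g 0, card_cj, e0, c.cV j]
  refine ⟨ℓ, π, e0, hℓW, hℓ, hπ, hcard, fun a b hab => ?_⟩
  have h1 := card_sup_comm (A := ℓ a) (B := ℓ b) (fun x hx y hy => c.xc (h.WX (hℓW a hx)) (h.WX (hℓW b hy)))
  rw [hℓ a b hab, Subgroup.card_bot, mul_one, hcard, hcard] at h1
  have h2 := h.cW
  rw [Subgroup.card_bot] at h2
  exact (Subgroup.eq_of_le_of_card_ge (sup_le (hℓW a) (hℓW b)) (by rw [h1, h2])).ge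

namespace Ln5

variable {V₀ : Subgroup G} {ℓ : Fin 5 → Subgroup G} {π : ↥Y →* Equiv.Perm (Fin 5)}

/-- an element with a fixed vector on a line normalises the line -/
theorem fix (l : Ln5 Y W V₀ ℓ π) {y x : G} (hy : y ∈ Y) {a : Fin 5} (hx : x ∈ ℓ a) (hx1 : x ≠ 1)
    (hyx : y * x = x * y) : cj y (ℓ a) = ℓ a := by
  have h1 := l.act ⟨y, hy⟩ a
  by_cases e : π ⟨y, hy⟩ a = a
  · rw [e] at h1; exact h1
  · exfalso
    have h2 : x ∈ ℓ (π ⟨y, hy⟩ a) := by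
      rw [← h1]
      refine ⟨x, hx, ?_⟩
      show y * x * y⁻¹ = x
      rw [hyx, mul_inv_cancel_right]
    have h3 : x ∈ ℓ (π ⟨y, hy⟩ a) ⊓ ℓ a := ⟨h2, hx⟩
    rw [l.disj _ _ e, mem_bot] at h3
    exact hx1 h3

theorem conj_mem (l : Ln5 Y W V₀ ℓ π) {y x u : G} (hy : y ∈ Y) {a : Fin 5} (hx : x ∈ ℓ a) (hx1 : x ≠ 1)
    (hyx : y * x = x * y) (hu : u ∈ ℓ a) : y * u * y⁻¹ ∈ ℓ a := by
  rw [← l.fix hy hx hx1 hyx]
  exact ⟨u, hu, rfl⟩

/-- an element which centralises a line and a vector of another line centralises `W` -/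
theorem cent (l : Ln5 Y W V₀ ℓ π) (hW : ∀ x ∈ W, ∀ y ∈ W, x * y = y * x) {y : G} (hy : y ∈ Y) {a b : Fin 5}
    (hab : a ≠ b) (hca : ∀ v ∈ ℓ a, y * v = v * y) {x : G} (hx : x ∈ ℓ b) (hx1 : x ≠ 1) (hyx : y * x = x * y) :
    ∀ w ∈ W, y * w = w * y := by
  obtain ⟨d, hda, hdb⟩ : ∃ d : Fin 5, d ≠ a ∧ d ≠ b := by
    have : ∀ a b : Fin 5, ∃ d, d ≠ a ∧ d ≠ b := by decide
    exact this a b
  have hcm : ∀ p ∈ ℓ d, ∀ q ∈ ℓ a, p * q = q * p := fun p hp q hq => hW p (l.le d hp) q (l.le a hq)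
  obtain ⟨e, he, v, hv, hxe⟩ := mem_sup_comm hcm (l.sup d a hda (l.le b hx))
  have he1 : e ≠ 1 := by
    rintro rfl
    rw [one_mul] at hxe
    have h3 : x ∈ ℓ a ⊓ ℓ b := ⟨hxe ▸ hv, hx⟩
    rw [l.disj _ _ hab, mem_bot] at h3
    exact hx1 h3
  have hye : y * e = e * y := by
    have h1 := hca v hv
    have h2 : y * (e * v) = (e * v) * y := by rw [← hxe]; exact hyx
    have h3 : y * e * v = e * y * v := by
      calc y * e * v = y * (e * v) := by group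
        _ = e * (v * y) := by rw [h2]; group
        _ = e * y * v := by rw [← h1]; group
    exact mul_right_cancel h3
  have hb : ∀ u ∈ ℓ b, y * u = u * y := by
    intro u hu
    obtain ⟨e', he', v', hv', hue⟩ := mem_sup_comm hcm (l.sup d a hda (l.le b hu))
    have h1 := hca v' hv'
    have h2 : y * u * y⁻¹ * u⁻¹ ∈ ℓ b := mul_mem (l.conj_mem hy hx hx1 hyx hu) (inv_mem hu)
    have h3 : y * e' * y⁻¹ * e'⁻¹ ∈ ℓ d := mul_mem (l.conj_mem hy he he1 hye he') (inv_mem he')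
    have h4 : y * u * y⁻¹ * u⁻¹ = y * e' * y⁻¹ * e'⁻¹ := by
      rw [hue]
      calc y * (e' * v') * y⁻¹ * (e' * v')⁻¹ = y * e' * (v' * y⁻¹) * v'⁻¹ * e'⁻¹ := by group
        _ = y * e' * (y⁻¹ * v') * v'⁻¹ * e'⁻¹ := by
            have h5 : v' * y⁻¹ = y⁻¹ * v' := by
              calc v' * y⁻¹ = y⁻¹ * (y * v') * y⁻¹ := by group
                _ = y⁻¹ * (v' * y) * y⁻¹ := by rw [h1]
                _ = _ := by group
            rw [h5]
        _ = _ := by group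
    have h5 : y * u * y⁻¹ * u⁻¹ ∈ ℓ d ⊓ ℓ b := ⟨h4 ▸ h3, h2⟩
    rw [l.disj _ _ hdb, mem_bot] at h5
    exact comm_iff.1 h5
  intro w hw
  obtain ⟨p, hp, q, hq, rfl⟩ := mem_sup_comm (fun p hp q hq => hW p (l.le a hp) q (l.le b hq)) (l.sup a b hab hw)
  calc y * (p * q) = (y * p) * q := by group
    _ = p * (y * q) := by rw [hca p hp]; group
    _ = p * q * y := by rw [hb q hq]; group

end Ln5

/-- `[Q, w] = V_j` for `w ∈ W - V_j` -/
theorem exists_q (c : Cx S B Q M X L V z) (h : TY S B Q M X V z 𝓦 j Y W F) (hF : F = ⊥) {w v : G} (hw : w ∈ W)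
    (hwV : w ∉ V j) (hv : v ∈ V j) : ∃ q ∈ Q, q * w * q⁻¹ * w⁻¹ = v := by
  subst hF
  have hQV : ∀ q ∈ Q, ∀ u ∈ V j, q * u = u * q := fun q hq u hu => c.cQL q hq u (c.VL j hu)
  have hq : ∀ q ∈ Q, q * w * q⁻¹ * w⁻¹ ∈ V j := fun q hq => by
    have := h.quad q hq w hw
    rwa [sup_bot_eq] at this
  let f : Q →* V j :=
    { toFun := fun q => ⟨(q : G) * w * (q : G)⁻¹ * w⁻¹, hq q q.2⟩
      map_one' := by ext; simp
      map_mul' := fun a b => by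
        ext
        have h1 := hQV a a.2 _ (hq b b.2)
        have h2 := c.xc (c.VX j (hq a a.2)) (c.VX j (hq b b.2))
        show (a : G) * b * w * ((a : G) * b)⁻¹ * w⁻¹ =
          ((a : G) * w * (a : G)⁻¹ * w⁻¹) * ((b : G) * w * (b : G)⁻¹ * w⁻¹)
        calc (a : G) * b * w * ((a : G) * b)⁻¹ * w⁻¹
            = ((a : G) * ((b : G) * w * (b : G)⁻¹ * w⁻¹)) * w * (a : G)⁻¹ * w⁻¹ := by group
          _ = ((b : G) * w * (b : G)⁻¹ * w⁻¹) * ((a : G) * w * (a : G)⁻¹ * w⁻¹) := by rw [h1]; group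
          _ = _ := h2.symm }
  have hk : Nat.card f.ker = Nat.card ↥(Q ⊓ centralizer (W : Set G)) := by
    have e : f.ker.map Q.subtype = Q ⊓ centralizer (W : Set G) := by
      ext x
      constructor
      · rintro ⟨q, hq', rfl⟩
        refine ⟨q.2, mem_centralizer_iff.2 fun u hu => ?_⟩
        have h1 : (q : G) * w * (q : G)⁻¹ * w⁻¹ = 1 := congrArg Subtype.val ((MonoidHom.mem_ker).1 hq')
        exact (h.free q q.2 w hw (by rwa [sup_bot_eq]) (by rw [h1]; exact one_mem _) u hu).symm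
      · rintro ⟨hx, hxW⟩
        refine ⟨⟨x, hx⟩, MonoidHom.mem_ker.2 (Subtype.ext ?_), rfl⟩
        show x * w * x⁻¹ * w⁻¹ = 1
        exact comm_iff.2 (mem_centralizer_iff.1 hxW w hw).symm
    rw [← e]
    exact (Nat.card_congr (f.ker.equivMapOfInjective Q.subtype Q.subtype_injective).toEquiv)
  have h1 := f.ker.card_mul_index
  rw [Subgroup.index_ker, hk, h.cardQ] at h1
  have h2 : Nat.card f.range = 4 := by
    have h3 : 0 < Nat.card ↥(Q ⊓ centralizer (W : Set G)) := Nat.card_pos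
    rw [mul_comm] at h1
    exact Nat.eq_of_mul_eq_mul_right h3 h1
  have h3 : f.range = ⊤ := Subgroup.eq_top_of_card_eq _ (by rw [h2, c.cV j])
  have h4 : (⟨v, hv⟩ : V j) ∈ f.range := by rw [h3]; exact mem_top _
  obtain ⟨q, hq'⟩ := h4
  exact ⟨q, q.2, congrArg Subtype.val hq'⟩

/-- **`C_B(V_j) = Q O₂(Y)`** -/
theorem mem_QO (c : Cx S B Q M X L V z) (h : TY S B Q M X V z 𝓦 j Y W F) (hF : F = ⊥) {t : G} (ht : t ∈ B)
    (htV : ∀ v ∈ V j, t * v = v * t) : ∃ q ∈ Q, ∃ o ∈ o2 Y, t = q * o := by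
  obtain ⟨ℓ, π, l⟩ := exists_ln5 c h hF
  have hWc : ∀ x ∈ W, ∀ y ∈ W, x * y = y * x := fun x hx y hy => c.xc (h.WX hx) (h.WX hy)
  have hW2 : IsPGroup 2 W := c.S2.to_le (h.WX.trans c.XS)
  have hne : ¬ W ≤ V j := by
    intro h1
    have h2 := Subgroup.card_le_of_le h1
    rw [h.cW, c.cV j] at h2
    have h3 : 0 < Nat.card F := Nat.card_pos
    omega
  obtain ⟨w, hw, hwV, hwB⟩ := NO3b.ClosedPow.exists_fixed_mod (S := B) (B := W) (A := V j) c.B2 hW2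
    (fun x hx b hb => (mem_normalizer_iff.1 (h.YW (h.BY hx)) b).1 hb)
    (fun x hx b hb => (mem_normalizer_iff.1 (c.BV j hx) b).1 hb)
    (fun x hx b hb => by rw [hWc x hx b (h.VW hb), mul_inv_cancel_right]; exact hb) hne
  have h01 : (0 : Fin 5) ≠ 1 := by decide
  obtain ⟨v, hv, e, he, hwe⟩ := mem_sup_comm (fun p hp q hq => hWc p (l.le 0 hp) q (l.le 1 hq)) (l.sup 0 1 h01 hw)
  rw [l.e0] at hv
  have heW := l.le 1 he
  have heV : e ∉ V j := fun h1 => hwV (by rw [hwe]; exact mul_mem hv h1)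
  have he1 : e ≠ 1 := fun h1 => heV (by rw [h1]; exact one_mem _)
  have hte : t * e * t⁻¹ * e⁻¹ ∈ V j := by
    have h1 : t * w * t⁻¹ * w⁻¹ ∈ V j := hwB t ht
    have h2 := htV v hv
    have h3 : t * w * t⁻¹ * w⁻¹ = v * (t * e * t⁻¹ * e⁻¹) * v⁻¹ := by
      rw [hwe]
      calc t * (v * e) * t⁻¹ * (v * e)⁻¹ = (t * v) * e * t⁻¹ * e⁻¹ * v⁻¹ := by group
        _ = v * (t * e * t⁻¹ * e⁻¹) * v⁻¹ := by rw [h2]; group
    rw [h3] at h1
    have h4 := mul_mem (mul_mem (inv_mem hv) h1) hv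
    have e5 : v⁻¹ * (v * (t * e * t⁻¹ * e⁻¹) * v⁻¹) * v = t * e * t⁻¹ * e⁻¹ := by group
    rwa [e5] at h4
  obtain ⟨q, hq, hqe⟩ := exists_q c h hF heW heV hte
  have hqV : ∀ u ∈ V j, q * u = u * q := fun u hu => c.cQL q hq u (c.VL j hu)
  set t' := q⁻¹ * t with ht'
  have ht'B : t' ∈ B := mul_mem (inv_mem (c.QB hq)) ht
  have h1 : t' * e = e * t' := by
    have h2 : q * e * q⁻¹ = t * e * t⁻¹ := mul_right_cancel hqe
    calc t' * e = q⁻¹ * (t * e * t⁻¹) * t := by rw [ht']; group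
      _ = q⁻¹ * (q * e * q⁻¹) * t := by rw [h2]
      _ = e * t' := by rw [ht']; group
  have h2 : ∀ u ∈ ℓ 0, t' * u = u * t' := by
    intro u hu
    rw [l.e0] at hu
    have h3 := hqV u hu
    have h4 : q⁻¹ * u = u * q⁻¹ := by
      calc q⁻¹ * u = q⁻¹ * (u * q) * q⁻¹ := by group
        _ = q⁻¹ * (q * u) * q⁻¹ := by rw [h3]
        _ = _ := by group
    calc t' * u = q⁻¹ * (t * u) := by rw [ht']; group
      _ = (q⁻¹ * u) * t := by rw [htV u hu]; group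
      _ = u * t' := by rw [h4, ht']; group
  have h3 := l.cent hWc (h.BY ht'B) h01 h2 he he1 h1
  refine ⟨q, hq, t', ?_, by rw [ht']; group⟩
  rw [h.o2W c]
  exact ⟨ht'B, mem_centralizer_iff.2 fun w hw => (h3 w hw).symm⟩

/-- **an element of `B` which moves `V_j` moves `W / V_j`** -/
theorem mv_quot (c : Cx S B Q M X L V z) (h : TY S B Q M X V z 𝓦 j Y W F) (hF : F = ⊥) {t : G} (ht : t ∈ B)
    (htV : ∃ v ∈ V j, t * v ≠ v * t) : ∃ w ∈ W, t * w * t⁻¹ * w⁻¹ ∉ V j := by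
  by_contra hcon
  push Not at hcon
  obtain ⟨ℓ, π, l⟩ := exists_ln5 c h hF
  have hWc : ∀ x ∈ W, ∀ y ∈ W, x * y = y * x := fun x hx y hy => c.xc (h.WX hx) (h.WX hy)
  have h01 : (0 : Fin 5) ≠ 1 := by decide
  obtain ⟨e, he, he1⟩ : ∃ e ∈ ℓ 1, e ≠ 1 := by
    by_contra h1
    push Not at h1
    have h2 : ℓ 1 = ⊥ := (Subgroup.eq_bot_iff_forall _).2 h1
    have h3 := l.card 1
    rw [h2, Subgroup.card_bot] at h3
    omega
  have heV : e ∉ V j := fun h1 => by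
    have h2 : e ∈ ℓ 0 ⊓ ℓ 1 := ⟨by rw [l.e0]; exact h1, he⟩
    rw [l.disj _ _ h01, mem_bot] at h2
    exact he1 h2
  obtain ⟨q, hq, hqe⟩ := exists_q c h hF (l.le 1 he) heV (hcon e (l.le 1 he))
  have hqV : ∀ u ∈ V j, q * u = u * q := fun u hu => c.cQL q hq u (c.VL j hu)
  set t' := q⁻¹ * t with ht'
  have ht'B : t' ∈ B := mul_mem (inv_mem (c.QB hq)) ht
  have ht'Y := h.BY ht'B
  have h1 : t' * e = e * t' := by
    have h2 : q * e * q⁻¹ = t * e * t⁻¹ := mul_right_cancel hqe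
    calc t' * e = q⁻¹ * (t * e * t⁻¹) * t := by rw [ht']; group
      _ = q⁻¹ * (q * e * q⁻¹) * t := by rw [h2]
      _ = e * t' := by rw [ht']; group
  have hQW : ∀ u ∈ W, q⁻¹ * u * q * u⁻¹ ∈ V j := fun u hu => by
    have := h.quad q⁻¹ (inv_mem hq) u hu
    rwa [hF, sup_bot_eq, inv_inv] at this
  have h2 : ∀ u ∈ ℓ 1, t' * u = u * t' := by
    intro u hu
    have hu' := l.le 1 hu
    have h3 : t' * u * t'⁻¹ * u⁻¹ ∈ ℓ 1 := mul_mem (l.conj_mem ht'Y he he1 h1 hu) (inv_mem hu)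
    have h4 : t' * u * t'⁻¹ * u⁻¹ ∈ V j := by
      have h5 := hcon u hu'
      have hk : q⁻¹ * (t * u * t⁻¹ * u⁻¹) * q = t * u * t⁻¹ * u⁻¹ := by
        have h6 := hqV _ h5
        calc q⁻¹ * (t * u * t⁻¹ * u⁻¹) * q = q⁻¹ * ((t * u * t⁻¹ * u⁻¹) * q) := by group
          _ = q⁻¹ * (q * (t * u * t⁻¹ * u⁻¹)) := by rw [h6]
          _ = _ := by group
      have e6 : t' * u * t'⁻¹ * u⁻¹ = (q⁻¹ * (t * u * t⁻¹ * u⁻¹) * q) * (q⁻¹ * u * q * u⁻¹) := by rw [ht']; group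
      rw [e6, hk]
      exact mul_mem h5 (hQW u hu')
    have h5 : t' * u * t'⁻¹ * u⁻¹ ∈ ℓ 0 ⊓ ℓ 1 := ⟨by rw [l.e0]; exact h4, h3⟩
    rw [l.disj _ _ h01, mem_bot] at h5
    exact comm_iff.1 h5
  have h3 := l.cent hWc ht'Y h01.symm h2 (x := z j) (by rw [l.e0]; exact c.zV j) (c.z1 j) (c.Bz t' ht'B j)
  obtain ⟨v, hv, hne⟩ := htV
  apply hne
  have h4 := h3 v (h.VW hv)
  have h5 := hqV v hv
  have e6 : t = q * t' := by rw [ht']; group
  calc t * v = q * (t' * v) := by rw [e6]; group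
    _ = (q * v) * t' := by rw [h4]; group
    _ = v * t := by rw [h5, e6]; group

/-- `S` normalises `B` -/
theorem conj_B (c : Cx S B Q M X L V z) {s b : G} (hs : s ∈ S) (hb : b ∈ B) : s * b * s⁻¹ ∈ B := by
  refine c.memB _ (mul_mem (mul_mem hs (c.BS hb)) (inv_mem hs)) fun i => ?_
  obtain ⟨m, hm⟩ := c.zS s⁻¹ (inv_mem hs) i
  rw [inv_inv] at hm
  have h1 := c.Bz b hb m
  rw [← hm] at h1
  calc s * b * s⁻¹ * z i = s * (b * (s⁻¹ * z i * s)) * s⁻¹ := by group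
    _ = s * (s⁻¹ * z i * s * b) * s⁻¹ := by rw [h1]
    _ = z i * (s * b * s⁻¹) := by group

/-- **(4+)** `i ≠ j`: `O²(Y_j)` centralises `W_i`. -/
theorem kc (c : Cx S B Q M X L V z) (o : Off S Q M X L 𝓦) (h : TY S B Q M X V z 𝓦 j Y W F) (hF : F = ⊥)
    (ok : OddK X Q Y) (cVV : oddGen Y ≤ centralizer ((VV V j : Subgroup G) : Set G))
    (W3 : ∀ i, W ≤ o2 (centralizer (V i : Set G)))
    (up : ∀ g ∈ M, g ∈ normalizer (Q : Set G) → cj g (V j) = V j → cj g W = W) :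
    ∀ s ∈ S, cj s (V j) ≠ V j → oddGen Y ≤ centralizer ((cj s W : Subgroup G) : Set G) := by
  intro s hs hne
  obtain ⟨i, hi⟩ := c.perm s (c.SQ hs) j
  have hij : i ≠ j := by rintro rfl; exact hne hi
  have hsX : s ∈ normalizer (X : Set G) := c.MX (c.SM hs)
  have hsWX : cj s W ≤ X := by
    have := cj_mono s h.WX
    rwa [cj_eq_of_mem_normalizer hsX] at this
  have hs3 : ∀ m, cj s W ≤ o2 (centralizer (V m : Set G)) := by
    intro m
    obtain ⟨k, hk⟩ := c.perm s⁻¹ (inv_mem (c.SQ hs)) m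
    have h1 := cj_mono s (W3 k)
    rw [← ChoiceSit.o2_cj, cj_centralizer, ← hk, cj_cj_inv] at h1
    exact h1
  have hYi : Y ≤ normalizer (V i : Set G) := by
    rw [← h.oddB c]
    refine sup_le ((cVV.trans (centralizer_le (c.V_VV hij))).trans (centralizer_le_normalizer _)) (c.BV i)
  have k0 := ker0 c o h (c.V_ne_bot i) (c.VL i) hYi (W3 i) ok
  have hYQ : o2 Y ≤ normalizer (Q : Set G) := (h.o2B c).trans c.BQ
  refine Four.cent_W (V := V i) (O := o2 Y) k0 (fun a ha b hb => c.xc ha.1 hb.1)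
    (fun a ha => by rw [pow_two]; exact c.Xs a ha.1) (le_inf hsWX (hs3 i)) ?_ hYi ?_
    (MinSimple.VModule.o2_le Y) (ChoiceSit.le_normalizer_o2 Y) hYQ (MinSimple.VModule.o2_isPGroup Y) ?_ ?_
    (cVV.trans (centralizer_le (c.V_VV hij)))
  · rw [← hi]; exact cj_mono s h.VW
  · intro g hg hgQ
    have h1 : cj (s⁻¹ * g * s) (V j) = V j := by
      rw [← cj_cj, ← cj_cj, hi, cj_eq_of_mem_normalizer (hYi hg), ← hi, cj_inv_cj]
    have h2 := up (s⁻¹ * g * s) (mul_mem (mul_mem (inv_mem (c.SM hs)) (h.YM hg)) (c.SM hs))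
      (mul_mem (mul_mem (inv_mem (c.SQ hs)) hgQ) (c.SQ hs)) h1
    rw [mem_normalizer_iff_cj]
    have h3 := congrArg (cj s) h2
    rwa [← cj_cj, ← cj_cj, cj_cj_inv] at h3
  · rw [card_cj, h.cW, hF, Subgroup.card_bot, c.cV i]
  · -- `O₂(Y)` moves `W_i / V_i`
    obtain ⟨t, ht, htV, v, hv, hvt⟩ := c.t i
    obtain ⟨q, hq, p, hp, e⟩ := mem_QO c h hF ht (htV j (Ne.symm hij))
    have hsv : s⁻¹ * v * s ∈ V j := by
      rw [← mem_cj, hi]; exact hv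
    have hst : s⁻¹ * t * s ∈ B := by
      have := conj_B c (inv_mem hs) ht
      rwa [inv_inv] at this
    obtain ⟨w, hw, hwn⟩ := mv_quot c h hF hst ⟨_, hsv, fun h1 => hvt (by
      calc t * v = s * ((s⁻¹ * t * s) * (s⁻¹ * v * s)) * s⁻¹ := by group
        _ = s * ((s⁻¹ * v * s) * (s⁻¹ * t * s)) * s⁻¹ := by rw [h1]
        _ = v * t := by group)⟩
    have hmv : t * (s * w * s⁻¹) * t⁻¹ * (s * w * s⁻¹)⁻¹ ∉ V i := by
      intro h1
      rw [← hi, mem_cj] at h1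
      apply hwn
      have e1 : s⁻¹ * (t * (s * w * s⁻¹) * t⁻¹ * (s * w * s⁻¹)⁻¹) * s =
          s⁻¹ * t * s * w * (s⁻¹ * t * s)⁻¹ * w⁻¹ := by group
      rwa [e1] at h1
    intro hle
    apply hmv
    have hw' : s * w * s⁻¹ ∈ cj s W := ⟨w, hw, rfl⟩
    set u := s * w * s⁻¹ with hu
    have h1 : p * u * p⁻¹ * u⁻¹ ∈ V i := hle (commutator_mem_commutator hp hw')
    have h2 : p * u * p⁻¹ ∈ cj s W := by
      have h3 : p * u * p⁻¹ * u⁻¹ ∈ cj s W := by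
        have := cj_mono s h.VW
        rw [hi] at this
        exact this h1
      have h4 := mul_mem h3 hw'
      rwa [inv_mul_cancel_right] at h4
    have h3 : q * (p * u * p⁻¹) * q⁻¹ * (p * u * p⁻¹)⁻¹ ∈ V i := by
      obtain ⟨w', hw'', e1⟩ := h2
      have e1' : s * w' * s⁻¹ = p * u * p⁻¹ := e1
      rw [← e1', ← hi, mem_cj]
      have h4 : s⁻¹ * q * s ∈ Q := by
        have := (mem_normalizer_iff.1 (c.SQ (inv_mem hs)) q).1 hq
        rwa [inv_inv] at this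
      have h5 := h.quad _ h4 w' hw''
      rw [hF, sup_bot_eq] at h5
      have e2 : s⁻¹ * (q * (s * w' * s⁻¹) * q⁻¹ * (s * w' * s⁻¹)⁻¹) * s =
          s⁻¹ * q * s * w' * (s⁻¹ * q * s)⁻¹ * w'⁻¹ := by group
      rwa [e2]
    have e3 : t * u * t⁻¹ * u⁻¹ = (q * (p * u * p⁻¹) * q⁻¹ * (p * u * p⁻¹)⁻¹) * (p * u * p⁻¹ * u⁻¹) := by
      rw [e]; group
    rw [e3]
    exact mul_mem h3 h1

end Cfsg.Agent.Omega.NO3S.WY.Tor.FourTY
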