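import Cfsg.Agent.Omega.NO3S.WY.Tor.Base
import Cfsg.Agent.Omega.NO3S.WY.OddKer
import Cfsg.Agent.Omega.NO3S.WY.OddKerSol

/-!
# THEOREM TOR (0): the odd kernel lemma over the frame (helper491)

* `TY.lines` : the five lines contain `F` properly;
* `nil_of_min` : odd normal subgroups of (quotients of) a minimal parabolic are nilpotent: no Feit-Thompson;
* `TY.datKer` : helper570's `OddKer.Dat` for `Y`, `Q`, `O₂(Y)`;
* `TY.odd_ker` : a vector of a section `N / N₀` of `X` which is fixed by `N_Y(Q)` is fixed by `Y`;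
* `TY.ker0` : helper594's `Ker0`.
-/

set_option autoImplicit false
set_option linter.unusedSectionVars false
set_option linter.unusedVariables false

namespace Cfsg.Agent.Omega.NO3S.WY.Tor

open Subgroup Cfsg Cfsg.Agent.ZN Cfsg.Agent.ZN.ChoiceBase
open Cfsg.Agent.ZN.ChoiceSit (Syl)
open Cfsg.Agent.MinSimple.MinParabolic (IsMinPar)
open scoped commutatorElement

universe u

variable {G : Type u} [Group G] {ι : Type} {S B Q M X L : Subgroup G} {V : ι → Subgroup G} {z : ι → G}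
  {𝓦 : Set (Subgroup G)} {j : ι} {Y W F : Subgroup G}

theorem relIndex_sup_normal {H : Type*} [Group H] [Finite H] (K B : Subgroup H) [K.Normal] :
    B.relIndex (K ⊔ B) = B.relIndex K := by
  have e1 : K.relIndex (K ⊔ B) = K.relIndex B := relIndex_sup_left _ _
  have e2 := relIndex_mul_relIndex (K ⊓ B) K (K ⊔ B) inf_le_left le_sup_left
  have e3 := relIndex_mul_relIndex (K ⊓ B) B (K ⊔ B) inf_le_right le_sup_right
  rw [e1, inf_relIndex_left] at e2
  rw [inf_relIndex_right] at e3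
  have e4 : K.relIndex B ≠ 0 := by
    intro h
    have := Subgroup.relIndex_eq_zero_of_le_right (le_top : B ≤ ⊤) h
    rw [relIndex_top_right] at this
    exact index_ne_zero_of_finite this
  have e5 : K.relIndex B * B.relIndex (K ⊔ B) = K.relIndex B * B.relIndex K := by
    rw [e3, ← e2, mul_comm]
  exact Nat.eq_of_mul_eq_mul_left (Nat.pos_of_ne_zero e4) e5

/-- `ψ : Y → H` surjective, `B ≤ Y` a 2-subgroup with a unique maximal overgroup, `K ⊴ H` odd, `⟨ψ⁻¹(K), B⟩ ≠ Y`: then `K` is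
nilpotent. -/
theorem nil_of_min {Y H : Type*} [Group Y] [Finite Y] [Group H] [Finite H] (ψ : Y →* H) (hψ : Function.Surjective ψ)
    {B M : Subgroup Y} (hB : IsPGroup 2 B) (hM : M ≠ ⊤) (hmax : ∀ X : Subgroup Y, B ≤ X → X ≠ ⊤ → X ≤ M)
    (K : Subgroup H) [hKn : K.Normal] (hodd : Odd (Nat.card K)) (hKB : K.comap ψ ⊔ B ≠ ⊤) : Group.IsNilpotent K := by
  have h2 : Fact (Nat.Prime 2) := ⟨Nat.prime_two⟩
  refine (Group.isNilpotent_of_finite_tfae (G := K)).out 0 3 |>.2 fun p hp P => ?_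
  have hp' : Fact (Nat.Prime p) := hp
  -- a Sylow `p`-subgroup fixed by `B`
  have hB' : IsPGroup 2 (B.map ψ) := hB.map ψ
  let _ : MulAction (B.map ψ) (Sylow p K) :=
    MulAction.compHom (Sylow p K) ((MulAut.conjNormal (H := K)).comp (B.map ψ).subtype)
  have hcard : ¬ 2 ∣ Nat.card (Sylow p K) := by
    intro h
    have h3 := (h.trans (Sylow.card_dvd_index P)).trans (index_dvd_card (P : Subgroup K))
    rcases hodd with ⟨m, hm⟩
    omega
  obtain ⟨P₀, hP₀⟩ := hB'.nonempty_fixed_point_of_prime_not_dvd_card (Sylow p K) hcard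
  have hfix : ∀ b ∈ B.map ψ, MulAut.conjNormal (H := K) b • P₀ = P₀ := fun b hb =>
    MulAction.mem_fixedPoints.1 hP₀ ⟨b, hb⟩
  set R : Subgroup H := (P₀ : Subgroup K).map K.subtype with hR
  have hBR : B.map ψ ≤ normalizer (R : Set H) := by
    have key : ∀ b ∈ B.map ψ, ∀ x ∈ R, b * x * b⁻¹ ∈ R := by
      intro b hb x hx
      obtain ⟨k, hk, rfl⟩ := hx
      have h3 : MulAut.conjNormal (H := K) b • k ∈ (MulAut.conjNormal (H := K) b • P₀ : Sylow p K) :=
        Subgroup.smul_mem_pointwise_smul _ _ _ hk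
      rw [hfix b hb] at h3
      refine ⟨_, h3, ?_⟩
      simp
    intro b hb
    rw [mem_normalizer_iff]
    intro x
    refine ⟨fun hx => key b hb x hx, fun hx => ?_⟩
    have h3 := key b⁻¹ (inv_mem hb) _ hx
    have e : b⁻¹ * (b * x * b⁻¹) * b⁻¹⁻¹ = x := by group
    rwa [e] at h3
  have hFr : normalizer (R : Set H) ⊔ K = ⊤ := Sylow.normalizer_sup_eq_top P₀
  have hRtop : normalizer (R : Set H) = ⊤ := by
    by_contra hne
    have h4 : (normalizer (R : Set H)).comap ψ ≤ M := by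
      refine hmax _ ?_ ?_
      · rw [← map_le_iff_le_comap]; exact hBR
      · intro h5
        apply hne
        rw [eq_top_iff]
        intro x _
        obtain ⟨y, rfl⟩ := hψ x
        have : y ∈ (normalizer (R : Set H)).comap ψ := h5 ▸ mem_top y
        exact this
    have h5 : K.comap ψ ≤ M := le_sup_left.trans (hmax _ le_sup_right hKB)
    have h6 := comap_sup_eq ψ (normalizer (R : Set H)) K hψ
    rw [hFr, comap_top] at h6
    exact hM (top_le_iff.1 (h6 ▸ sup_le h4 h5))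
  have hP₀n : (P₀ : Subgroup K).Normal := by
    refine ⟨fun k hk g => ?_⟩
    have h3 : (g : H) ∈ normalizer (R : Set H) := hRtop ▸ mem_top _
    have h4 : (g : H) * (k : H) * (g : H)⁻¹ ∈ R := (mem_normalizer_iff.1 h3 _).1 ⟨k, hk, rfl⟩
    obtain ⟨k', hk', e⟩ := h4
    have : k' = g * k * g⁻¹ := Subtype.ext (by simpa using e)
    rwa [← this]
  have hu := Sylow.unique_of_normal P₀ hP₀n
  have : P = P₀ := Subsingleton.elim _ _
  rw [this]
  exact hP₀n


/-- the kernel is solvable -/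
theorem sol_of_min {Y : Type*} [Group Y] [Finite Y] {B M K D : Subgroup Y} (nD : D.Normal) (hD : IsPGroup 2 D)
    (hB : IsPGroup 2 B) (hM : M ≠ ⊤) (hmax : ∀ X : Subgroup Y, B ≤ X → X ≠ ⊤ → X ≤ M) [hK : K.Normal]
    (hDK : D ≤ K) (hko : Odd (D.relIndex K)) (hKB : K ⊔ B ≠ ⊤) : Group.IsSolvable ↥K := by
  have hnD := nD
  refine OddKer.sol_of_quot K D nD hD ?_
  set ψ : Y →* Y ⧸ D := QuotientGroup.mk' D with hψ
  have hsur : Function.Surjective ψ := QuotientGroup.mk'_surjective D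
  have hker : ψ.ker = D := QuotientGroup.ker_mk' D
  set φ : ↥K →* Y ⧸ D := ψ.comp K.subtype with hφ
  have hkφ : φ.ker = D.subgroupOf K := by
    ext x
    rw [MonoidHom.mem_ker, mem_subgroupOf]
    exact QuotientGroup.eq_one_iff (x : Y)
  have hr : φ.range = K.map ψ := by rw [hφ, MonoidHom.range_comp, range_subtype]
  have hn : (K.map ψ).Normal := hK.map ψ hsur
  have hodd : Odd (Nat.card (K.map ψ)) := by
    rw [← hr, ← index_ker, hkφ]
    exact hko
  have hcom : (K.map ψ).comap ψ = K := by rw [comap_map_eq, hker, sup_eq_left.2 hDK]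
  have hnil := nil_of_min ψ hsur hB hM hmax (K.map ψ) hodd (by rwa [hcom])
  have hs : Group.IsSolvable ↥(K.map ψ) := IsNilpotent.to_isSolvable
  have e : (↥K ⧸ D.subgroupOf K) ≃* ↥(K.map ψ) :=
    ((QuotientGroup.quotientMulEquivOfEq hkφ.symm).trans (QuotientGroup.quotientKerEquivRange φ)).trans
      (MulEquiv.subgroupCongr hr)
  exact Group.isSolvable_of_isSolvable_injective (f := e.toMonoidHom) e.injective

/-- the alternating group of degree 5 is not a 2-group -/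
theorem not_two_alt {X : Subgroup (Equiv.Perm (Fin 5))} (hX : IsPGroup 2 X) : ¬ alternatingGroup (Fin 5) ≤ X := by
  intro hle
  have h3 : (Equiv.swap (0 : Fin 5) 1 * Equiv.swap 1 2) ∈ X := hle (by
    rw [Equiv.Perm.mem_alternatingGroup]
    decide)
  obtain ⟨k, hk⟩ := hX ⟨_, h3⟩
  have h4 : orderOf (Equiv.swap (0 : Fin 5) 1 * Equiv.swap 1 2) = 3 := by
    apply orderOf_eq_prime
    · decide
    · decide
  have h5 : (Equiv.swap (0 : Fin 5) 1 * Equiv.swap 1 2) ^ 2 ^ k = 1 := congrArg Subtype.val hk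
  have h6 := orderOf_dvd_of_pow_eq_one h5
  rw [h4] at h6
  have h7 := Nat.Prime.dvd_of_dvd_pow Nat.prime_three h6
  omega

namespace TY

/-- the five lines contain `F` properly -/
theorem lines [Finite G] (c : Cx S B Q M X L V z) (h : TY S B Q M X V z 𝓦 j Y W F) {ℓ : Fin 5 → Subgroup G}
    {π : ↥Y →* Equiv.Perm (Fin 5)} (h0 : ℓ 0 = V j ⊔ F) (hi : ∀ a b, a ≠ b → ℓ a ⊓ ℓ b = F)
    (hc : ∀ (y : Y) a, cj (y : G) (ℓ a) = ℓ (π y a)) (hA : alternatingGroup (Fin 5) ≤ π.range) :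
    (∀ a, F ≤ ℓ a) ∧ ∀ a, ℓ a ≠ F := by
  have hF : ∀ a, F ≤ ℓ a := fun a => by
    have : ∃ b : Fin 5, a ≠ b := by
      by_cases h5 : a = 0
      · exact ⟨1, by rw [h5]; decide⟩
      · exact ⟨0, h5⟩
    obtain ⟨b, hb⟩ := this
    rw [← hi a b hb]; exact inf_le_left
  refine ⟨hF, ?_⟩
  intro a e
  have htr : ∃ g : Y, π g 0 = a := by
    by_cases ha : a = 0
    · exact ⟨1, by rw [ha]; simp⟩
    · obtain ⟨b, hb0, hba⟩ : ∃ b : Fin 5, b ≠ 0 ∧ b ≠ a := by
        by_cases h1 : a = 1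
        · exact ⟨2, by decide, by rw [h1]; decide⟩
        · exact ⟨1, by decide, fun e => h1 e.symm⟩
      have h4 : (Equiv.swap (0 : Fin 5) b * Equiv.swap 0 a) ∈ alternatingGroup (Fin 5) := by
        rw [Equiv.Perm.mem_alternatingGroup, map_mul, Equiv.Perm.sign_swap (Ne.symm ha),
          Equiv.Perm.sign_swap hb0.symm]
        decide
      obtain ⟨g, hg⟩ := hA h4
      refine ⟨g, ?_⟩
      rw [hg, Equiv.Perm.mul_apply, Equiv.swap_apply_left, Equiv.swap_apply_of_ne_of_ne ha hba.symm]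
  obtain ⟨g, hg⟩ := htr
  have h6 := hc g 0
  rw [hg, h0, e] at h6
  have h7 := card_cj (g : G) (V j ⊔ F)
  rw [h6, h.card_VF c] at h7
  have h8 : 0 < Nat.card F := Nat.card_pos
  omega

/-- `q² ∈ C(W)` for `q ∈ Q` -/
theorem sq_comm (c : Cx S B Q M X L V z) (h : TY S B Q M X V z 𝓦 j Y W F) {q : G} (hq : q ∈ Q) {w : G} (hw : w ∈ W) :
    (q * q) * w = w * (q * q) := by
  have h1 := h.quad q hq w hw
  set u := q * w * q⁻¹ * w⁻¹ with hu
  have h2 : q * u = u * q := c.cQL q hq u (h.VF_L c h1)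
  have h3 : u * u = 1 := c.Xs u (((h.VF_L c).trans c.LX) h1)
  have e1 : q * w = u * w * q := by rw [hu]; group
  calc q * q * w = q * (q * w) := by group
    _ = q * u * w * q := by rw [e1]; group
    _ = u * (q * w) * q := by rw [h2]; group
    _ = (u * u) * w * q * q := by rw [e1]; group
    _ = w * (q * q) := by rw [h3]; group

/-- **helper570's data** -/
theorem datKer [Finite G] (c : Cx S B Q M X L V z) (h : TY S B Q M X V z 𝓦 j Y W F) :
    ∃ π : ↥Y →* Equiv.Perm (Fin 5), OddKer.Dat π (Q.subgroupOf Y) ((o2 Y).subgroupOf Y) := by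
  obtain ⟨ℓ, π, h0, hW, hi, hc, hA, hk⟩ := h.act
  obtain ⟨hF, hne⟩ := h.lines c h0 hi hc hA
  have hQY := h.QY c
  -- `O₂(Y)` is trivial on the lines
  have hDk : ∀ d : ↥Y, (d : G) ∈ o2 Y → π d = 1 := by
    intro d hd
    refine ker_le hW hF hne hi hc fun w hw => ?_
    have h1 : (d : G) * w * (d : G)⁻¹ * w⁻¹ = 1 := comm_iff.2 (mem_centralizer_iff.1 (h.o2_cW c hd) w hw).symm
    rw [h1]; exact one_mem _
  have hDle : (o2 Y).subgroupOf Y ≤ π.ker := fun d hd => hDk d (mem_subgroupOf.1 hd)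
  -- `q ∈ Q` fixes `ℓ 0`
  have hq0 : ∀ q : ↥Y, (q : G) ∈ Q → π q 0 = 0 := by
    intro q hq
    have h1 : cj (q : G) (ℓ 0) = ℓ 0 := by
      refine cj_eq_of_mem_normalizer ?_
      rw [h0]
      have h2 : Q ≤ centralizer ((V j ⊔ F : Subgroup G) : Set G) := fun x hx =>
        mem_centralizer_iff.2 fun l hl => (c.cQL x hx l (h.VF_L c hl)).symm
      exact (h2.trans (centralizer_le_normalizer _)) hq
    by_contra hne'
    have h2 := hc q 0
    rw [h1] at h2
    have h3 := hi 0 (π q 0) (Ne.symm hne')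
    rw [← h2, inf_idem] at h3
    exact hne 0 h3
  -- `q² = 1` on the lines
  have hq2 : ∀ q : ↥Y, (q : G) ∈ Q → π q * π q = 1 := by
    intro q hq
    rw [← map_mul]
    refine ker_le hW hF hne hi hc fun w hw => ?_
    have h1 : ((q * q : ↥Y) : G) * w * ((q * q : ↥Y) : G)⁻¹ * w⁻¹ = 1 := comm_iff.2 (h.sq_comm c hq hw)
    rw [h1]; exact one_mem _
  -- free on the other lines
  have hfree : ∀ q : ↥Y, (q : G) ∈ Q → ∀ i, i ≠ 0 → π q i = i → (q : G) ∈ centralizer (W : Set G) := by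
    intro q hq i hi0 hqi
    obtain ⟨w, hw, hwF⟩ : ∃ w ∈ ℓ i, w ∉ F := by
      by_contra hcon
      push Not at hcon
      exact hne i (le_antisymm hcon (hF i))
    have hwV : w ∉ V j ⊔ F := by
      intro h2
      apply hwF
      rw [← hi i 0 hi0, h0]
      exact ⟨hw, h2⟩
    have h2 : (q : G) * w * (q : G)⁻¹ * w⁻¹ ∈ F := by
      have h3 : (q : G) * w * (q : G)⁻¹ ∈ cj (q : G) (ℓ i) := mem_cj' hw
      rw [hc, hqi] at h3
      have h4 : (q : G) * w * (q : G)⁻¹ * w⁻¹ ∈ ℓ i := (ℓ i).mul_mem h3 ((ℓ i).inv_mem hw)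
      have h5 : (q : G) * w * (q : G)⁻¹ * w⁻¹ ∈ ℓ 0 := by
        rw [h0]
        exact h.quad _ hq w (hW i hw)
      rw [← hi i 0 hi0]
      exact mem_inf.2 ⟨h4, h5⟩
    rw [mem_centralizer_iff]
    intro u hu
    exact (h.free _ hq w (hW i hw) hwV h2 u hu).symm
  -- transitive on the other lines
  have hqt : ∀ i : Fin 5, i ≠ 0 → ∀ k : Fin 5, k ≠ 0 → ∃ q : ↥Y, (q : G) ∈ Q ∧ π q i = k := by
    intro i hi0 k hk0
    set K : Subgroup ↥Q := (Q ⊓ centralizer (W : Set G)).subgroupOf Q with hK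
    have hcard : Nat.card (↥Q ⧸ K) = 4 := by
      have h1 := Subgroup.card_mul_index K
      have h2 : Nat.card K = Nat.card ↥(Q ⊓ centralizer (W : Set G)) :=
        Nat.card_congr (subgroupOfEquivOfLe inf_le_left).toEquiv
      have h3 := h.cardQ
      have h4 : 0 < Nat.card ↥(Q ⊓ centralizer (W : Set G)) := Nat.card_pos
      rw [h2, h3, mul_comm] at h1
      have h5 : K.index = 4 := Nat.eq_of_mul_eq_mul_right h4 h1
      exact h5
    let e : ↥Q → ↥Y := fun q => ⟨(q : G), hQY q.2⟩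
    have hnz : ∀ q : ↥Q, π (e q) i ≠ 0 := by
      intro q hq
      apply hi0
      have h1 := hq0 (e q) q.2
      exact (π (e q)).injective (hq.trans h1.symm)
    let f : ↥Q ⧸ K → {k : Fin 5 // k ≠ 0} := fun x => ⟨π (e x.out) i, hnz _⟩
    have hinj : Function.Injective f := by
      intro x y hxy
      have h1 : π (e x.out) i = π (e y.out) i := congrArg Subtype.val hxy
      have h2 : π (e (x.out⁻¹ * y.out)) i = i := by
        have h3 : e (x.out⁻¹ * y.out) = (e x.out)⁻¹ * e y.out := rfl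
        rw [h3, map_mul, map_inv, Equiv.Perm.mul_apply, ← h1]
        simp
      have h4 := hfree _ (x.out⁻¹ * y.out).2 i hi0 h2
      have h5 : x.out⁻¹ * y.out ∈ K := mem_subgroupOf.2 ⟨(x.out⁻¹ * y.out).2, h4⟩
      rw [← QuotientGroup.eq] at h5
      rw [← x.out_eq', ← y.out_eq']
      exact h5
    have hbij := hinj.bijective_of_nat_card_le (by
      rw [hcard, Nat.card_eq_fintype_card]
      decide)
    obtain ⟨x, hx⟩ := hbij.2 ⟨k, hk0⟩
    exact ⟨e x.out, x.out.2, congrArg Subtype.val hx⟩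
  -- the index of `O₂(Y)` in the kernel is odd
  have hko : Odd (((o2 Y).subgroupOf Y).relIndex π.ker) := by
    have h2 : B.subgroupOf Y ⊓ π.ker ≤ (o2 Y).subgroupOf Y := by
      rintro b ⟨hb, hbk⟩
      rw [mem_subgroupOf]
      exact h.mem_o2_of c (mem_subgroupOf.1 hb) (hk b hbk)
    have h3 : ¬ 2 ∣ (B.subgroupOf Y).index := ChoiceSit.syl_not_dvd (h.syl c)
    have h4 : (B.subgroupOf Y).relIndex (π.ker ⊔ B.subgroupOf Y) * (π.ker ⊔ B.subgroupOf Y).index =
        (B.subgroupOf Y).index := relIndex_mul_index le_sup_right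
    have h5 : (B.subgroupOf Y).relIndex (π.ker ⊔ B.subgroupOf Y) = (B.subgroupOf Y).relIndex π.ker :=
      relIndex_sup_normal _ _
    have h6 : (B.subgroupOf Y ⊓ π.ker).relIndex π.ker = (B.subgroupOf Y).relIndex π.ker := inf_relIndex_right _ _
    have h7 : (B.subgroupOf Y ⊓ π.ker).relIndex ((o2 Y).subgroupOf Y) * ((o2 Y).subgroupOf Y).relIndex π.ker =
        (B.subgroupOf Y ⊓ π.ker).relIndex π.ker := relIndex_mul_relIndex _ _ _ h2 hDle
    rw [← Nat.not_even_iff_odd, even_iff_two_dvd]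
    intro h8
    apply h3
    rw [← h4, h5, ← h6, ← h7]
    exact Dvd.dvd.mul_right (Dvd.dvd.mul_left h8 _) _
  -- the kernel is solvable
  have hsol : Group.IsSolvable ↥π.ker := by
    obtain ⟨M₀, hM₀, hmax⟩ := h.min.exists_max
    have hnD : ((o2 Y).subgroupOf Y).Normal := normal_subgroupOf_of_le_normalizer (ChoiceSit.le_normalizer_o2 Y)
    have hB' : IsPGroup 2 (B.subgroupOf Y) := c.B2.comap_of_injective Y.subtype Y.subtype_injective
    have hD' : IsPGroup 2 ((o2 Y).subgroupOf Y) :=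
      (ChoiceSit.isPGroup_o2 Y).comap_of_injective Y.subtype Y.subtype_injective
    refine sol_of_min (M := M₀.subgroupOf Y) hnD hD' hB' ?_ (fun X' hX' hne' => ?_) hDle hko ?_
    · intro e
      rw [subgroupOf_eq_top] at e
      exact hM₀.not_ge e
    · have h1 : X'.map Y.subtype ≤ M₀ := by
        refine hmax _ ?_ (lt_of_le_of_ne (map_subtype_le _) fun e => hne' ?_)
        · intro b hb
          exact ⟨⟨b, h.BY hb⟩, hX' (mem_subgroupOf.2 hb), rfl⟩
        · rw [eq_top_iff]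
          rintro ⟨x, hx⟩ -
          have hx2 : x ∈ X'.map Y.subtype := e.ge hx
          obtain ⟨x', hx', e'⟩ := hx2
          have : x' = ⟨x, hx⟩ := Subtype.ext e'
          rwa [← this]
      intro x hx
      exact mem_subgroupOf.2 (h1 ⟨x, hx, rfl⟩)
    · intro e
      refine not_two_alt (hB'.map π) (hA.trans ?_)
      have h1 : (π.ker ⊔ B.subgroupOf Y).map π = (B.subgroupOf Y).map π := by
        rw [Subgroup.map_sup, (π.ker.map_eq_bot_iff (f := π)).2 le_rfl, bot_sup_eq]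
      rw [← h1, e, MonoidHom.range_eq_map]
  refine ⟨π, OddKer.Dat.of π hQY (ChoiceSit.o2_le Y) (ChoiceSit.le_normalizer_o2 Y) (ChoiceSit.isPGroup_o2 Y)
    (c.B2.to_le c.QB) hDk hko hsol ?_ hq0 hq2 hqt ((h.o2B c).trans c.BQ) ?_⟩
  · have h1 : (Equiv.swap (0 : Fin 5) 1 * Equiv.swap 1 2) ∈ alternatingGroup (Fin 5) := by
      rw [Equiv.Perm.mem_alternatingGroup]; decide
    obtain ⟨g, hg⟩ := hA h1
    refine ⟨g, ?_⟩
    rw [hg]; decide
  · intro y hy hyn
    have h1 : cj y Q ≤ S := by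
      have h2 : cj y Q ≤ cj y (Q ⊔ o2 Y) := cj_mono y le_sup_left
      rw [cj_eq_of_mem_normalizer hyn] at h2
      exact h2.trans ((sup_le c.QB (h.o2B c)).trans c.BS)
    rw [mem_normalizer_iff_cj]
    exact c.wc y h1

/-- **THEOREM TOR (0)**: a vector of the section `N / N₀` of `X` fixed by `N_Y(Q)` is fixed by `Y`. -/
theorem odd_ker [Finite G] (c : Cx S B Q M X L V z) (h : TY S B Q M X V z 𝓦 j Y W F) {N N₀ : Subgroup G}
    (hN : N ≤ X) (h01 : N₀ ≤ N) (nN : Y ≤ normalizer (N : Set G)) (nN0 : Y ≤ normalizer (N₀ : Set G))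
    (hQ : ∀ n ∈ N, ∀ a ∈ Q, ∀ b ∈ Q, b * (a * n * a⁻¹ * n⁻¹) * b⁻¹ * (a * n * a⁻¹ * n⁻¹)⁻¹ ∈ N₀) {v : G} (hv : v ∈ N)
    (hf : ∀ y ∈ Y, y ∈ normalizer (Q : Set G) → y * v * y⁻¹ * v⁻¹ ∈ N₀) : ∀ y ∈ Y, y * v * y⁻¹ * v⁻¹ ∈ N₀ := by
  obtain ⟨π, d⟩ := h.datKer c
  refine OddKer.sect d (h.QY c) ⟨h01, nN, nN0, fun a ha b hb => ?_, fun a ha => ?_⟩
    (fun b hb a ha x hx => hQ x hx a ha b hb) hv hf
  · have e : ⁅a, b⁆ = 1 := commutatorElement_eq_one_iff_mul_comm.2 (c.xc (hN ha) (hN hb))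
    rw [e]; exact one_mem _
  · rw [c.Xs a (hN ha)]; exact one_mem _

/-- `KerY Q X Y` of `OneTY.lean` (helper150), unfolded -/
theorem ker_all [Finite G] (c : Cx S B Q M X L V z) (h : TY S B Q M X V z 𝓦 j Y W F) :
    ∀ N N₀ : Subgroup G, N ≤ X → N₀ ≤ N → Y ≤ normalizer (N : Set G) → Y ≤ normalizer (N₀ : Set G) →
      (∀ n ∈ N, ∀ y ∈ o2 Y, y * n * y⁻¹ * n⁻¹ ∈ N₀) →
      (∀ n ∈ N, ∀ a ∈ Q, ∀ b ∈ Q, b * (a * n * a⁻¹ * n⁻¹) * b⁻¹ * (a * n * a⁻¹ * n⁻¹)⁻¹ ∈ N₀) →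
      ∀ v ∈ N, (∀ y ∈ Y, y ∈ normalizer (Q : Set G) → y * v * y⁻¹ * v⁻¹ ∈ N₀) → ∀ y ∈ Y, y * v * y⁻¹ * v⁻¹ ∈ N₀ :=
  fun _ _ hN h01 nN nN0 _ hQ _ hv hf => h.odd_ker c hN h01 nN nN0 hQ hv hf

/-- helper594's `Ker0` for a `Y`-invariant subgroup of `X` on which `Q` is quadratic -/
theorem ker0 [Finite G] (c : Cx S B Q M X L V z) (h : TY S B Q M X V z 𝓦 j Y W F) {A : Subgroup G} (hA : A ≤ X)
    (nA : Y ≤ normalizer (A : Set G)) (qd : ∀ q ∈ Q, ∀ q' ∈ Q, ∀ x ∈ A, ⁅q, ⁅q', x⁆⁆ = 1) : OddKer.Ker0 Y Q A := by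
  obtain ⟨π, d⟩ := h.datKer c
  exact OddKer.ker0 d (h.QY c) nA (fun a ha b hb => c.xc (hA ha) (hA hb)) (fun a ha => c.Xs a (hA ha)) qd

end TY

end Cfsg.Agent.Omega.NO3S.WY.Tor
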