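import Cfsg.Agent.Omega.NO3S.WY.Tor.Base
import Cfsg.Agent.Omega.NO3S.WY.Tor.One
import Cfsg.Agent.Omega.NO3S.WY.Tor.Four
import Cfsg.Agent.ZN.Block

/-!
# THEOREM TOR (1), over the frame

`KerY Q X Y` : the conclusion of (0), the odd kernel lemma (`TY.odd_ker`).  `W` may be nonsplit (`F ≠ 1`).

* `Cx.L_le_o2` : `V_P ≤ O₂(C_G(Λ_j))`; `TY.clL_le` : `⟨V_P^Y⟩ ≤ O₂(C_G(Λ_j))`;
* `TY.QW` : `A ∈ 𝓦`, `A ≤ S`, `A` moves `W`: `Q = A (Q ∩ O₂(Y))`;
* `TY.comm_V` : `[V_i, Y] ≤ Λ_j` (`i ≠ j`); `TY.norm_VV`, `TY.cent_VV` : `Y` normalises, `O²(Y)` centralises `V_(j)`;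
* `TY.PI` : `Q ∩ O₂(Y)` is normal in `Y`.
-/

set_option autoImplicit false
set_option linter.unusedSectionVars false

namespace Cfsg.Agent.Omega.NO3S.WY.Tor

open Subgroup Cfsg Cfsg.Agent.ZN Cfsg.Agent.ZN.ChoiceBase
open Cfsg.Agent.ZN.ChoiceSit (Syl)
open Cfsg.Agent.MinSimple.MinParabolic (IsMinPar)
open Cfsg.Agent.MinSimple.VModule (oddGen oddGen_def mem_oddGen)
open Cfsg.Agent.Omega.NO3b.EZero (cl cl_le le_cl cj_le_cl le_normalizer_cl)
open scoped commutatorElement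

universe u

variable {G : Type u} [Group G] {ι : Type}

/-- **(0)** -/
def KerY (Q X Y : Subgroup G) : Prop :=
  ∀ N N₀ : Subgroup G, N ≤ X → N₀ ≤ N → Y ≤ normalizer (N : Set G) → Y ≤ normalizer (N₀ : Set G) →
    (∀ n ∈ N, ∀ y ∈ o2 Y, y * n * y⁻¹ * n⁻¹ ∈ N₀) →
    (∀ n ∈ N, ∀ a ∈ Q, ∀ b ∈ Q, b * (a * n * a⁻¹ * n⁻¹) * b⁻¹ * (a * n * a⁻¹ * n⁻¹)⁻¹ ∈ N₀) →
    ∀ v ∈ N, (∀ y ∈ Y, y ∈ normalizer (Q : Set G) → y * v * y⁻¹ * v⁻¹ ∈ N₀) → ∀ y ∈ Y, y * v * y⁻¹ * v⁻¹ ∈ N₀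

namespace Cx

variable {S B Q M X L : Subgroup G} {V : ι → Subgroup G} {z : ι → G} (c : Cx S B Q M X L V z)
include c

theorem Lam_L (j : ι) : Lam z j ≤ L := (c.Lam_VV j).trans (c.VV_L j)

theorem z_Lam {i j : ι} (h : i ≠ j) : z i ∈ Lam z j :=
  (le_iSup₂_of_le (f := fun i (_ : i ≠ j) => zpowers (z i)) i h le_rfl) (mem_zpowers _)

theorem Lam_ne {i j : ι} (h : i ≠ j) : Lam z j ≠ ⊥ := fun e => c.z1 i (by
  have := c.z_Lam h
  rwa [e, mem_bot] at this)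

theorem X2 : IsPGroup 2 X := c.S2.to_le c.XS

/-- `[V_i, g] ≤ ⟨z_i⟩` if `g` normalises `V_i`, centralises `z_i` -/
theorem comm_z [Finite G] {i : ι} {g v : G} (gV : g ∈ normalizer (V i : Set G)) (gz : g * z i = z i * g)
    (hv : v ∈ V i) : g * v * g⁻¹ * v⁻¹ ∈ zpowers (z i) := by
  have h1 : zpowers (z i) ≤ V i := zpowers_le.2 (c.zV i)
  have h2 : Nat.card (zpowers (z i)) = 2 := by
    rw [Nat.card_zpowers]
    exact orderOf_eq_prime (by rw [pow_two]; exact c.Xs _ (c.zX i)) (c.z1 i)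
  have h3 := Four.rel_mul_card h1
  rw [h2, c.cV i] at h3
  have h4 : g ∈ normalizer (zpowers (z i) : Set G) := by
    refine (centralizer_le_normalizer _) (mem_centralizer_iff.2 fun x hx => ?_)
    obtain ⟨n, rfl⟩ := mem_zpowers_iff.1 hx
    exact (Commute.zpow_right (show Commute g (z i) from gz) n).eq.symm
  have h5 := Four.comm_mem_of_two h1 (by omega) gV h4 hv
  rwa [commutatorElement_def] at h5

/-- `V_P ≤ O₂(C_G(Λ_j))` -/
theorem L_le_o2 [Finite G] {i j : ι} (hij : i ≠ j) : L ≤ o2 (centralizer (Lam z j : Set G)) := by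
  set D := centralizer (Lam z j : Set G) with hD
  have h1 : D ≤ centralizer ({z i} : Set G) := centralizer_le (Set.singleton_subset_iff.2 (c.z_Lam hij))
  have h2 : L ≤ D := fun l hl => mem_centralizer_iff.2 fun x hx => c.xc (c.Lam_X j hx) (c.LX hl)
  have h3 : D ≤ normalizer ((o2 (centralizer ({z i} : Set G)) ⊓ D : Subgroup G) : Set G) := fun d hd => by
    rw [mem_normalizer_iff_cj, cj_inf, cj_eq_of_mem_normalizer (MinSimple.VModule.le_normalizer_o2 _ (h1 hd)),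
      cj_eq_of_mem_normalizer (le_normalizer hd)]
  exact (le_inf (c.LO i) h2).trans (MinSimple.VModule.le_o2 inf_le_right
    ((MinSimple.VModule.o2_isPGroup _).to_le inf_le_left) h3)

end Cx

namespace TY

variable {S B Q M X L : Subgroup G} {V : ι → Subgroup G} {z : ι → G} {𝓦 : Set (Subgroup G)} {j : ι}
  {Y W F : Subgroup G}

theorem Y_cLam (h : TY S B Q M X V z 𝓦 j Y W F) : Y ≤ centralizer (Lam z j : Set G) := fun y hy =>
  mem_centralizer_iff.2 fun _ hx => (h.cLam hy hx).symm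

theorem clL_X (c : Cx S B Q M X L V z) (h : TY S B Q M X V z 𝓦 j Y W F) : cl L Y ≤ X := cl_le fun y hy => by
  rw [← cj_eq_of_mem_normalizer (c.MX (h.YM hy))]
  exact cj_mono y c.LX

/-- `⟨V_P^Y⟩ ≤ O₂(C_G(Λ_j))` -/
theorem clL_le [Finite G] (c : Cx S B Q M X L V z) (h : TY S B Q M X V z 𝓦 j Y W F) {i : ι} (hij : i ≠ j) :
    cl L Y ≤ o2 (centralizer (Lam z j : Set G)) := cl_le fun y hy => by
  rw [← cj_eq_of_mem_normalizer (MinSimple.VModule.le_normalizer_o2 _ (h.Y_cLam hy))]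
  exact cj_mono y (c.L_le_o2 hij)

theorem W_clL (c : Cx S B Q M X L V z) (h : TY S B Q M X V z 𝓦 j Y W F) : W ≤ cl L Y :=
  h.gen _ (le_cl L Y (c.VL j (c.zV j))) (le_normalizer_cl L Y)

/-- `W ≤ O₂(C_G(Λ_j))` -/
theorem W_le_Lam [Finite G] (c : Cx S B Q M X L V z) (h : TY S B Q M X V z 𝓦 j Y W F) {i : ι} (hij : i ≠ j) :
    W ≤ o2 (centralizer (Lam z j : Set G)) := (h.W_clL c).trans (h.clL_le c hij)

/-- `A ∈ 𝓦`, `A ≤ S`, moves `W`: `C_W(A) = V_j F` -/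
theorem cWA (c : Cx S B Q M X L V z) (h : TY S B Q M X V z 𝓦 j Y W F) {A : Subgroup G} (hA : A ≤ Q)
    (hm : ¬ A ≤ centralizer (W : Set G)) : W ⊓ centralizer (A : Set G) = V j ⊔ F := by
  refine le_antisymm ?_ (le_inf h.VF_W ?_)
  · rintro w ⟨hw, hwA⟩
    by_contra hne
    apply hm
    intro a ha
    have h1 : a * w * a⁻¹ * w⁻¹ ∈ F := by
      rw [comm_iff.2 (mem_centralizer_iff.1 hwA a ha)]
      exact one_mem _
    exact mem_centralizer_iff.2 fun u hu => (h.free a (hA ha) w hw hne h1 u hu).symm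
  · exact fun x hx => mem_centralizer_iff.2 fun a ha => c.cQL a (hA ha) x (h.VF_L c hx)

/-- **`Q = A (Q ∩ O₂(Y))`** -/
theorem QW [Finite G] (c : Cx S B Q M X L V z) (o : Off S Q M X L 𝓦) (h : TY S B Q M X V z 𝓦 j Y W F) {i : ι}
    (hij : i ≠ j) {A : Subgroup G} (hA : A ∈ 𝓦) (hAS : A ≤ S) (hm : ¬ A ≤ centralizer (W : Set G)) {q : G}
    (hq : q ∈ Q) : ∃ a ∈ A, ∃ p ∈ Q ⊓ o2 Y, a * p = q := by
  have hAQ : A ≤ Q := o.AQ A hA hAS
  set P := Q ⊓ centralizer (W : Set G) with hP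
  have h1 := o.best A hA hAS 1 (one_mem _) (Lam z j) (c.Lam_ne hij) (by rw [cj_one]; exact c.Lam_L j) W h.WX
    (h.W_le_Lam c hij) (A ⊓ centralizer (W : Set G)) (by rw [cj_one]; exact inf_le_left)
  rw [cj_one, h.cWA c hAQ hm, h.card_VF c] at h1
  have h2 : W ⊓ centralizer ((A ⊓ centralizer (W : Set G) : Subgroup G) : Set G) = W := by
    rw [inf_eq_left, ← le_centralizer_iff]
    exact inf_le_right
  rw [h2, h.cW] at h1
  have hF : 0 < Nat.card F := Nat.card_pos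
  have h3 : 4 * Nat.card ↥(A ⊓ centralizer (W : Set G)) ≤ Nat.card A := by
    have h4 : (4 * Nat.card ↥(A ⊓ centralizer (W : Set G))) * (4 * Nat.card F) ≤ Nat.card A * (4 * Nat.card F) := by
      calc _ = Nat.card ↥(A ⊓ centralizer (W : Set G)) * (16 * Nat.card F) := by ring
        _ ≤ _ := h1
    exact Nat.le_of_mul_le_mul_right h4 (by positivity)
  have hQW : Q ≤ normalizer (W : Set G) := (h.QY c).trans h.YW
  have hQP : Q ≤ normalizer (P : Set G) := fun q hq => by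
    rw [mem_normalizer_iff_cj, hP, cj_inf, cj_eq_of_mem_normalizer (le_normalizer hq), cj_centralizer,
      cj_eq_of_mem_normalizer (hQW hq)]
  have h5 := ZN.Block.card_sup_mul_card_inf (hAQ.trans hQP)
  have h6 : A ⊓ P = A ⊓ centralizer (W : Set G) := by
    rw [hP, ← inf_assoc, inf_eq_left.2 hAQ]
  rw [h6] at h5
  have h7 : A ⊔ P = Q := by
    refine Subgroup.eq_of_le_of_card_ge (sup_le hAQ inf_le_left) ?_
    rw [h.cardQ]
    have h8 : 0 < Nat.card ↥(A ⊓ centralizer (W : Set G)) := Nat.card_pos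
    have h9 : 0 < Nat.card P := Nat.card_pos
    have h10 : (4 * Nat.card P) * Nat.card ↥(A ⊓ centralizer (W : Set G)) ≤
        Nat.card ↥(A ⊔ P) * Nat.card ↥(A ⊓ centralizer (W : Set G)) := by
      rw [h5]
      calc _ = (4 * Nat.card ↥(A ⊓ centralizer (W : Set G))) * Nat.card P := by ring
        _ ≤ _ := Nat.mul_le_mul_right _ h3
    exact Nat.le_of_mul_le_mul_right h10 h8
  rw [h.PIW c]
  exact mem_sup_of_normalizer_le (fun a ha => hQP (hAQ ha)) (by rw [h7]; exact hq)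

/-- `O₂(Y)` centralises `⟨V_P^Y⟩ / Λ_j` -/
theorem o2_clL [Finite G] (c : Cx S B Q M X L V z) (h : TY S B Q M X V z 𝓦 j Y W F) {n y : G} (hn : n ∈ cl L Y)
    (hy : y ∈ o2 Y) : y * n * y⁻¹ * n⁻¹ ∈ Lam z j := by
  have hYX : Y ≤ normalizer (X : Set G) := h.YM.trans c.MX
  let R : Subgroup G :=
    { carrier := {n | n ∈ X ∧ ∀ y ∈ o2 Y, y * n * y⁻¹ * n⁻¹ ∈ Lam z j}
      one_mem' := ⟨one_mem _, fun y _ => by
        have e : y * 1 * y⁻¹ * 1⁻¹ = 1 := by group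
        rw [e]; exact one_mem _⟩
      mul_mem' := by
        rintro a b ⟨ha, ha'⟩ ⟨hb, hb'⟩
        refine ⟨mul_mem ha hb, fun y hy => ?_⟩
        have h1 := hb' y hy
        have h2 := c.xc ha (c.Lam_X j h1)
        have e : y * (a * b) * y⁻¹ * (a * b)⁻¹ = (y * a * y⁻¹ * a⁻¹) * (a * (y * b * y⁻¹ * b⁻¹)) * a⁻¹ := by group
        rw [e, h2]
        have e2 : ∀ x t : G, x * (t * a) * a⁻¹ = x * t := fun x t => by group
        rw [e2]
        exact mul_mem (ha' y hy) h1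
      inv_mem' := by
        rintro a ⟨ha, ha'⟩
        refine ⟨inv_mem ha, fun y hy => ?_⟩
        have h1 := ha' y hy
        have h2 := c.xc (inv_mem ha) (c.Lam_X j (inv_mem h1))
        have e : y * a⁻¹ * y⁻¹ * a⁻¹⁻¹ = (a⁻¹ * (y * a * y⁻¹ * a⁻¹)⁻¹) * a := by group
        rw [e, h2]
        have e2 : ∀ t : G, t * a⁻¹ * a = t := fun t => by group
        rw [e2]
        exact inv_mem h1 }
  have hL : L ≤ R := by
    rw [c.eL]
    refine iSup_le fun i v hv => ⟨c.VX i hv, fun y hy => ?_⟩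
    by_cases hi : i = j
    · rw [hi] at hv
      have h1 := mem_centralizer_iff.1 (h.o2_cW c hy) v (h.VW hv)
      rw [comm_iff.2 h1.symm]
      exact one_mem _
    · have hyB : y ∈ B := h.o2B c hy
      exact (zpowers_le.2 (c.z_Lam hi)) (c.comm_z (c.BV i hyB) (c.Bz y hyB i) hv)
  have hYR : Y ≤ normalizer (R : Set G) := by
    intro g hg
    refine mem_normalizer_of_cj_le ?_
    rintro _ ⟨n, ⟨hn, hn'⟩, rfl⟩
    refine ⟨conj_mem (hYX hg) hn, fun y hy => ?_⟩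
    have h1 : g⁻¹ * y * g ∈ o2 Y := by
      have := conj_mem (ChoiceSit.le_normalizer_o2 Y (inv_mem hg)) hy
      rwa [inv_inv] at this
    have h2 := hn' _ h1
    change y * (g * n * g⁻¹) * y⁻¹ * (g * n * g⁻¹)⁻¹ ∈ _
    have e : y * (g * n * g⁻¹) * y⁻¹ * (g * n * g⁻¹)⁻¹ =
        g * ((g⁻¹ * y * g) * n * (g⁻¹ * y * g)⁻¹ * n⁻¹) * g⁻¹ := by group
    rw [e, h.cLam hg h2]
    have e2 : ∀ t : G, t * g * g⁻¹ = t := fun t => by group
    rw [e2]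
    exact h2
  have h3 : cl L Y ≤ R := cl_le fun y hy => by
    rw [← cj_eq_of_mem_normalizer (hYR hy)]
    exact cj_mono y hL
  exact (h3 hn).2 y hy

/-- `Q` is quadratic on `⟨V_P^Y⟩ / Λ_j` -/
theorem quad_clL [Finite G] (c : Cx S B Q M X L V z) (o : Off S Q M X L 𝓦) (h : TY S B Q M X V z 𝓦 j Y W F) {i : ι}
    (hij : i ≠ j) {n a b : G} (hn : n ∈ cl L Y) (ha : a ∈ Q) (hb : b ∈ Q) :
    b * (a * n * a⁻¹ * n⁻¹) * b⁻¹ * (a * n * a⁻¹ * n⁻¹)⁻¹ ∈ Lam z j := by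
  obtain ⟨A, hA, hAS, hm⟩ := h.mv
  have hAQ : A ≤ Q := o.AQ A hA hAS
  obtain ⟨a', ha', p, ⟨_, hp⟩, rfl⟩ := h.QW c o hij hA hAS hm ha
  obtain ⟨b', hb', r, ⟨_, hr⟩, rfl⟩ := h.QW c o hij hA hAS hm hb
  have hY : ∀ x ∈ Q, ∀ n ∈ cl L Y, x * n * x⁻¹ ∈ cl L Y := fun x hx n hn =>
    conj_mem (le_normalizer_cl L Y (h.QY c hx)) hn
  have hX : cl L Y ≤ X := h.clL_X c
  have hΛ : ∀ x ∈ Q, ∀ t ∈ Lam z j, x * t * x⁻¹ = t := fun x hx t ht => by
    rw [c.cQL x hx t (c.Lam_L j ht)]; group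
  -- `[a, n] = λ [a', n]`
  have h1 := h.o2_clL c hn hp
  set l := p * n * p⁻¹ * n⁻¹ with hl
  have h2 : a' * p * n * (a' * p)⁻¹ * n⁻¹ = l * (a' * n * a'⁻¹ * n⁻¹) := by
    calc a' * p * n * (a' * p)⁻¹ * n⁻¹ = (a' * l * a'⁻¹) * (a' * n * a'⁻¹ * n⁻¹) := by rw [hl]; group
      _ = l * (a' * n * a'⁻¹ * n⁻¹) := by rw [hΛ a' (hAQ ha') l h1]
  set d := a' * n * a'⁻¹ * n⁻¹ with hd
  have hdc : d ∈ cl L Y := mul_mem (hY a' (hAQ ha') n hn) (inv_mem hn)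
  have h3 := h.o2_clL c hdc hr
  set m := r * d * r⁻¹ * d⁻¹ with hm'
  have h4 : b' * d = d * b' := by
    refine o.quad A hA hAS 1 (one_mem _) (Lam z j) (c.Lam_ne hij) (by rw [cj_one]; exact c.Lam_L j) n (hX hn)
      (h.clL_le c hij hn) a' (by rwa [cj_one]) b' (by rwa [cj_one])
  have h5 : r ∈ Q := by
    have := ‹r ∈ Q›
    exact this
  have h6 : b' * r * (l * d) * (b' * r)⁻¹ * (l * d)⁻¹ = m := by
    have e1 : b' * r * (l * d) * (b' * r)⁻¹ * (l * d)⁻¹ =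
        (b' * (r * l * r⁻¹) * b'⁻¹) * (b' * m * b'⁻¹) * (b' * d * b'⁻¹) * d⁻¹ * l⁻¹ := by rw [hm']; group
    have e2 : b' * d * b'⁻¹ = d := by rw [h4]; group
    rw [e1, hΛ r h5 l h1, hΛ b' (hAQ hb') l h1, hΛ b' (hAQ hb') m h3, e2]
    have e3 : l * m = m * l := c.xc (c.Lam_X j h1) (c.Lam_X j h3)
    rw [e3]; group
  rw [h2, h6]
  exact h3

/-- **`[V_i, Y] ≤ Λ_j`** -/
theorem comm_V [Finite G] (c : Cx S B Q M X L V z) (o : Off S Q M X L 𝓦) (h : TY S B Q M X V z 𝓦 j Y W F)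
    (hk : KerY Q X Y) {i : ι} (hij : i ≠ j) {y v : G} (hy : y ∈ Y) (hv : v ∈ V i) :
    y * v * y⁻¹ * v⁻¹ ∈ Lam z j := by
  refine hk (cl L Y) (Lam z j) (h.clL_X c) ((c.Lam_L j).trans (le_cl L Y)) (le_normalizer_cl L Y)
    (h.Y_cLam.trans (centralizer_le_normalizer _)) (fun n hn y hy => h.o2_clL c hn hy)
    (fun n hn a ha b hb => h.quad_clL c o hij hn ha hb) v (le_cl L Y (c.VL i hv)) (fun g hg hgQ => ?_) y hy
  obtain ⟨m, hm⟩ := c.perm g hgQ i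
  have h1 : z i ∈ V m := by
    rw [← hm, mem_cj]
    have := h.Yz g hg i hij
    have e : g⁻¹ * z i * g = z i := by rw [mul_assoc, ← this]; group
    rw [e]
    exact c.zV i
  have h2 := c.V_of_mem (c.zV i) h1 (c.z1 i)
  have h3 : g ∈ normalizer (V i : Set G) := by
    rw [mem_normalizer_iff_cj, hm, h2]
  exact (zpowers_le.2 (c.z_Lam hij)) (c.comm_z h3 (h.Yz g hg i hij) hv)

/-- **`Y` normalises `V_(j)`** -/
theorem norm_VV [Finite G] (c : Cx S B Q M X L V z) (o : Off S Q M X L 𝓦) (h : TY S B Q M X V z 𝓦 j Y W F)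
    (hk : KerY Q X Y) : Y ≤ normalizer (VV V j : Set G) := by
  intro y hy
  refine mem_normalizer_of_cj_le ?_
  unfold VV
  rw [ChoiceBase.cj, Subgroup.map_iSup]
  refine iSup_le fun i => ?_
  rw [Subgroup.map_iSup]
  refine iSup_le fun hi => ?_
  rintro _ ⟨v, hv, rfl⟩
  have h1 := c.Lam_VV j (h.comm_V c o hk hi hy hv)
  have h2 := mul_mem h1 (c.V_VV hi hv)
  change y * v * y⁻¹ ∈ VV V j
  have e : y * v * y⁻¹ * v⁻¹ * v = y * v * y⁻¹ := by group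
  rwa [e] at h2

/-- **`O²(Y)` centralises `V_(j)`** -/
theorem cent_VV [Finite G] (c : Cx S B Q M X L V z) (o : Off S Q M X L 𝓦) (h : TY S B Q M X V z 𝓦 j Y W F)
    (hk : KerY Q X Y) : oddGen Y ≤ centralizer (VV V j : Set G) := by
  rw [le_centralizer_iff]
  refine iSup₂_le fun i hi => ?_
  rw [le_centralizer_iff, oddGen_def, closure_le]
  rintro x ⟨hx, ho⟩
  refine mem_centralizer_iff.2 fun v hv => ?_
  have h1 := h.comm_V c o hk hi hx hv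
  exact (odd_comm ho (c.Xs _ (c.Lam_X j h1)) (h.cLam hx h1) (c.xc (c.Lam_X j h1) (c.VX i hv)) rfl).symm

/-- `Q ∩ O₂(Y) = C_{O₂(Y)}(V_(j))` -/
theorem PI_eq [Finite G] (c : Cx S B Q M X L V z) (h : TY S B Q M X V z 𝓦 j Y W F) :
    Q ⊓ o2 Y = o2 Y ⊓ centralizer (VV V j : Set G) := by
  refine le_antisymm (le_inf inf_le_right fun q hq => mem_centralizer_iff.2 fun v hv =>
    (c.cQL q hq.1 v (c.VV_L j hv)).symm) ?_
  rintro y ⟨hy, hyV⟩
  refine ⟨c.cSL y (c.BS (h.o2B c hy)) fun l hl => ?_, hy⟩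
  obtain ⟨v, hv, v', hv', rfl⟩ := c.split j hl
  have h1 : Commute y v := (mem_centralizer_iff.1 (h.o2_cW c hy) v (h.VW hv)).symm
  have h2 : Commute y v' := (mem_centralizer_iff.1 hyV v' hv').symm
  exact (h1.mul_right h2).eq

/-- **`Q ∩ O₂(Y)` is normal in `Y`** -/
theorem PI [Finite G] (c : Cx S B Q M X L V z) (o : Off S Q M X L 𝓦) (h : TY S B Q M X V z 𝓦 j Y W F)
    (hk : KerY Q X Y) : Y ≤ normalizer ((Q ⊓ o2 Y : Subgroup G) : Set G) := by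
  rw [h.PI_eq c]
  intro y hy
  rw [mem_normalizer_iff_cj, cj_inf, cj_centralizer, cj_eq_of_mem_normalizer (ChoiceSit.le_normalizer_o2 Y hy),
    cj_eq_of_mem_normalizer (h.norm_VV c o hk hy)]

end TY

end Cfsg.Agent.Omega.NO3S.WY.Tor
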