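import Cfsg.Agent.Omega.NO3b.Closed.Pow
import Cfsg.Agent.Omega.NO3b.EZeroPair

/-!
# THEOREM TOR (helper474 #25011), (3): `W_l ≤ O₂(C_G(V_i))` for all `l`, `i`

Pure group theory.  `V l` the lines of `L = Ω₁(Z(Q))`, permuted by `N_G(Q)`; `x l` of odd order on `V l`, irreducible
there, trivial on the other lines; `W l = ⟨z_l^{Y_l}⟩ ≥ V l` with `[W l, Q] ≤ V l`; `K l` (`= O²(Y_l)` or `⟨Q^{Y_l}⟩`)
irreducible on `W l`, trivial on `V i`, `i ≠ l` ((1)).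

* `le_o2_of_comm` : a subgroup of `C` stabilising `O₂(C) ≥ V ≥ 1`, `V ≤ Z(C)`, lies in `O₂(C)`;
* `Lines` : `V`, `x`; `Lines.cent_V`, `Lines.cent_L`, `Lines.le_Q` : `O₂(C_G(V_i))` centralises `L`, lies in `Q`;
* `Lines.self`, `Lines.other` : a single `W ≤ O₂(C_G(V_i))`;
* `Three.W_le` : `W l ≤ O₂(C_G(V_i))`; `Three.V_le`, `Three.L_le`;
* `Three.W_le_Q`, `Three.disj` : `W l ≤ Q`, `W l ⊓ W m = ⊥`;
* `moves` : `t = q o` moves `W i / V i`, then so does `o` (the `mv` of `Four.norm_W`).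
-/

set_option autoImplicit false
set_option linter.unusedSectionVars false
set_option linter.dupNamespace false

namespace Cfsg.Agent.Omega.NO3S.WY.Tor

open Subgroup Cfsg Cfsg.Agent.ZN Cfsg.Agent.ZN.ChoiceBase
open scoped commutatorElement

universe u

variable {G : Type u} [Group G] [Finite G]

/-- **The stabiliser of the chain `O₂(C) ≥ V ≥ 1`.** -/
theorem le_o2_of_comm {C V W : Subgroup G} (hV : C ≤ centralizer (V : Set G)) (V2 : ∀ v ∈ V, v * v = 1)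
    (char : C ⊓ centralizer (o2 C : Set G) ≤ o2 C) (WC : W ≤ C)
    (hW : ∀ w ∈ W, ∀ o ∈ o2 C, w * o * w⁻¹ * o⁻¹ ∈ V) : W ≤ o2 C := by
  have hc : ∀ c ∈ C, ∀ v ∈ V, c * v * c⁻¹ = v := fun c hc v hv => by
    rw [← mem_centralizer_iff.1 (hV hc) v hv, mul_inv_cancel_right]
  let N : Subgroup G :=
    { carrier := {g | g ∈ C ∧ ∀ o ∈ o2 C, g * o * g⁻¹ * o⁻¹ ∈ V}
      one_mem' := ⟨one_mem _, fun o _ => by
        have e : (1 : G) * o * 1⁻¹ * o⁻¹ = 1 := by group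
        rw [e]; exact one_mem _⟩
      mul_mem' := by
        rintro a b ⟨ha, ha'⟩ ⟨hb, hb'⟩
        refine ⟨mul_mem ha hb, fun o ho => ?_⟩
        have e : a * b * o * (a * b)⁻¹ * o⁻¹ = (a * (b * o * b⁻¹ * o⁻¹) * a⁻¹) * (a * o * a⁻¹ * o⁻¹) := by group
        rw [e, hc a ha _ (hb' o ho)]
        exact mul_mem (hb' o ho) (ha' o ho)
      inv_mem' := by
        rintro a ⟨ha, ha'⟩
        refine ⟨inv_mem ha, fun o ho => ?_⟩
        have e : a⁻¹ * o * a⁻¹⁻¹ * o⁻¹ = (a⁻¹ * (a * o * a⁻¹ * o⁻¹) * a⁻¹⁻¹)⁻¹ := by group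
        rw [e, hc _ (inv_mem ha) _ (ha' o ho)]
        exact inv_mem (ha' o ho) }
  have hNC : N ≤ C := fun g hg => hg.1
  have hCN : C ≤ normalizer (N : Set G) := by
    have key : ∀ c ∈ C, ∀ g ∈ N, c * g * c⁻¹ ∈ N := by
      rintro c hcC g ⟨hg, hg'⟩
      refine ⟨mul_mem (mul_mem hcC hg) (inv_mem hcC), fun o ho => ?_⟩
      have h1 : c⁻¹ * o * c ∈ o2 C := by
        have := (mem_normalizer_iff.1 (MinSimple.VModule.le_normalizer_o2 C (inv_mem hcC)) o).1 ho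
        rwa [inv_inv] at this
      have e : c * g * c⁻¹ * o * (c * g * c⁻¹)⁻¹ * o⁻¹ =
          c * (g * (c⁻¹ * o * c) * g⁻¹ * (c⁻¹ * o * c)⁻¹) * c⁻¹ := by group
      rw [e, hc c hcC _ (hg' _ h1)]
      exact hg' _ h1
    intro c hcC
    rw [mem_normalizer_iff]
    refine fun g => ⟨key c hcC g, fun h => ?_⟩
    have h1 := key c⁻¹ (inv_mem hcC) _ h
    have e : c⁻¹ * (c * g * c⁻¹) * c⁻¹⁻¹ = g := by group
    rwa [e] at h1
  have hN2 : IsPGroup 2 N := by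
    rintro ⟨g, hg, hg'⟩
    have h1 : g * g ∈ o2 C := char ⟨mul_mem hg hg, mem_centralizer_iff.2 fun o ho => by
      have h2 := hg' o ho
      have h3 : g * o * g⁻¹ = (g * o * g⁻¹ * o⁻¹) * o := by group
      have h4 : g * (g * o * g⁻¹) * g⁻¹ = o := by
        rw [h3]
        have e : g * (g * o * g⁻¹ * o⁻¹ * o) * g⁻¹ = (g * (g * o * g⁻¹ * o⁻¹) * g⁻¹) * (g * o * g⁻¹) := by group
        rw [e, hc g hg _ h2]
        have e2 : g * o * g⁻¹ * o⁻¹ * (g * o * g⁻¹) = (g * o * g⁻¹ * o⁻¹) * (g * o * g⁻¹ * o⁻¹) * o := by group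
        rw [e2, V2 _ h2, one_mul]
      calc o * (g * g) = (g * (g * o * g⁻¹) * g⁻¹) * (g * g) := by rw [h4]
        _ = g * g * o := by group⟩
    obtain ⟨n, hn⟩ := MinSimple.VModule.o2_isPGroup C ⟨_, h1⟩
    refine ⟨n + 1, Subtype.ext ?_⟩
    have h2 : (g * g) ^ 2 ^ n = 1 := congrArg Subtype.val hn
    change g ^ 2 ^ (n + 1) = 1
    rw [pow_succ, mul_comm (2 ^ n) 2, pow_mul, pow_two, h2]
  have hWN : W ≤ N := fun w hw => ⟨WC hw, hW w hw⟩
  exact hWN.trans (MinSimple.VModule.le_o2 hNC hN2 hCN)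

/-- `C_G(V)` normalises `O₂(C_G(V))`, in conjugation form. -/
theorem conj_o2 {C : Subgroup G} {c o : G} (hc : c ∈ C) (ho : o ∈ o2 C) : c * o * c⁻¹ ∈ o2 C :=
  (mem_normalizer_iff.1 (MinSimple.VModule.le_normalizer_o2 C hc) o).1 ho

/-- The lines `V l` of `L`, permuted by `N_G(Q)`, and the elements `x l`. -/
structure Lines {ι : Type*} (Q L : Subgroup G) (V : ι → Subgroup G) (x : ι → G) : Prop where
  /-- `C_G(V_i)` has characteristic 2 -/
  char : ∀ i, centralizer (V i : Set G) ⊓ centralizer (o2 (centralizer (V i : Set G)) : Set G) ≤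
    o2 (centralizer (V i : Set G))
  /-- `Q` weakly closed -/
  ON : ∀ i, o2 (centralizer (V i : Set G)) ≤ normalizer (Q : Set G)
  QO : ∀ i, o2 (centralizer (V i : Set G)) ≤ centralizer (L : Set G) → o2 (centralizer (V i : Set G)) ≤ Q
  perm : ∀ g ∈ normalizer (Q : Set G), ∀ l, ∃ m, cj g (V l) = V m
  LV : L ≤ ⨆ l, V l
  ne : ∀ l, V l ≠ ⊥
  V2 : ∀ l, ∀ v ∈ V l, v * v = 1
  Vab : ∀ l, V l ≤ centralizer (V l : Set G)
  xN : ∀ l, x l ∈ normalizer (V l : Set G)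
  xC : ∀ l m, m ≠ l → x l ∈ centralizer (V m : Set G)
  xodd : ∀ l, ∃ n, Odd n ∧ x l ^ n ∈ centralizer (V l : Set G)
  xmv : ∀ l, x l ∉ centralizer (V l : Set G)
  xirr : ∀ l, ∀ U ≤ V l, x l ∈ normalizer (U : Set G) → U ≠ ⊥ → U = V l

namespace Lines

variable {ι : Type*} {Q L : Subgroup G} {V : ι → Subgroup G} {x : ι → G} (H : Lines Q L V x)
include H

theorem isPGroup_V (l : ι) : IsPGroup 2 (V l) := fun w => ⟨1, by
  ext
  simpa [pow_two] using H.V2 l w w.2⟩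

/-- `O₂(C_G(V_i))` fixes every line. -/
theorem fix (i l : ι) {o : G} (ho : o ∈ o2 (centralizer (V i : Set G))) (hl : l ≠ i) : cj o (V l) = V l := by
  set C := centralizer (V i : Set G) with hC
  obtain ⟨m, hm⟩ := H.perm o⁻¹ (inv_mem (H.ON i ho)) l
  by_cases hml : m = l
  · rw [hml] at hm
    have h1 := congrArg (cj o) hm
    rwa [cj_cj_inv, eq_comm] at h1
  exfalso
  have hxC : x l ∈ C := H.xC l i (Ne.symm hl)
  set y := (x l)⁻¹ * (o * x l * o⁻¹) with hy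
  have hyO : y ∈ o2 C := by
    have e : y = ((x l)⁻¹ * o * (x l)⁻¹⁻¹) * o⁻¹ := by rw [hy]; group
    rw [e]
    exact mul_mem (conj_o2 (inv_mem hxC) ho) (inv_mem ho)
  have hv1 : ∀ v ∈ V l, y * v * y⁻¹ = (x l)⁻¹ * v * x l := by
    intro v hv
    have h1 : o⁻¹ * v * o ∈ V m := by
      rw [← hm]
      exact ⟨v, hv, by simp⟩
    have h2 := mem_centralizer_iff.1 (H.xC l m hml) _ h1
    have h3 : (o * x l * o⁻¹) * v * (o * x l * o⁻¹)⁻¹ = v := by
      calc (o * x l * o⁻¹) * v * (o * x l * o⁻¹)⁻¹ = o * (x l * (o⁻¹ * v * o)) * (x l)⁻¹ * o⁻¹ := by group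
        _ = o * ((o⁻¹ * v * o) * x l) * (x l)⁻¹ * o⁻¹ := by rw [← h2]
        _ = v := by group
    calc y * v * y⁻¹ = (x l)⁻¹ * ((o * x l * o⁻¹) * v * (o * x l * o⁻¹)⁻¹) * x l := by rw [hy]; group
      _ = (x l)⁻¹ * v * x l := by rw [h3]
  have hxV : ∀ n : ℕ, ∀ v ∈ V l, (x l ^ n)⁻¹ * v * x l ^ n ∈ V l := fun n v hv => by
    have := (mem_normalizer_iff.1 (inv_mem (pow_mem (H.xN l) n)) v).1 hv
    rwa [inv_inv] at this
  have hvn : ∀ n : ℕ, ∀ v ∈ V l, y ^ n * v * (y ^ n)⁻¹ = (x l ^ n)⁻¹ * v * x l ^ n := by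
    intro n
    induction n with
    | zero => intro v _; simp
    | succ n ih =>
      intro v hv
      have h1 := hxV n v hv
      calc y ^ (n + 1) * v * (y ^ (n + 1))⁻¹ = y * (y ^ n * v * (y ^ n)⁻¹) * y⁻¹ := by rw [pow_succ']; group
        _ = y * ((x l ^ n)⁻¹ * v * x l ^ n) * y⁻¹ := by rw [ih v hv]
        _ = (x l)⁻¹ * ((x l ^ n)⁻¹ * v * x l ^ n) * x l := hv1 _ h1
        _ = (x l ^ (n + 1))⁻¹ * v * x l ^ (n + 1) := by rw [pow_succ]; group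
  obtain ⟨k, hk⟩ := MinSimple.VModule.o2_isPGroup C ⟨y, hyO⟩
  have hk' : y ^ 2 ^ k = 1 := congrArg Subtype.val hk
  have h2c : x l ^ 2 ^ k ∈ centralizer (V l : Set G) := by
    rw [mem_centralizer_iff]
    intro v hv
    have h1 := hvn (2 ^ k) v hv
    rw [hk'] at h1
    calc v * x l ^ 2 ^ k = x l ^ 2 ^ k * ((x l ^ 2 ^ k)⁻¹ * v * x l ^ 2 ^ k) := by group
      _ = x l ^ 2 ^ k * (1 * v * 1⁻¹) := by rw [← h1]
      _ = x l ^ 2 ^ k * v := by group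
  obtain ⟨n, hn, hnc⟩ := H.xodd l
  apply H.xmv l
  have hco : Nat.Coprime (2 ^ k) n := Nat.Coprime.pow_left k (Nat.coprime_two_left.2 hn)
  have h3 : x l ^ (Nat.gcd (2 ^ k) n) ∈ centralizer (V l : Set G) := by
    rw [← zpow_natCast, Nat.gcd_eq_gcd_ab, zpow_add, zpow_mul, zpow_mul, zpow_natCast, zpow_natCast]
    exact mul_mem (zpow_mem h2c _) (zpow_mem hnc _)
  rwa [Nat.Coprime.gcd_eq_one hco, pow_one] at h3

/-- `O₂(C_G(V_i))` centralises every line. -/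
theorem cent_V (i l : ι) : o2 (centralizer (V i : Set G)) ≤ centralizer (V l : Set G) := by
  by_cases hl : l = i
  · rw [hl]; exact MinSimple.VModule.o2_le _
  set C := centralizer (V i : Set G) with hC
  have hN : ∀ o ∈ o2 C, ∀ v ∈ V l, o * v * o⁻¹ ∈ V l := fun o ho v hv => by
    rw [← H.fix i l ho hl]
    exact ⟨v, hv, rfl⟩
  have h2 : IsPGroup 2 (V l) := H.isPGroup_V l
  have hxC : x l ∈ C := H.xC l i (Ne.symm hl)
  have hU : V l ⊓ centralizer (o2 C : Set G) ≠ ⊥ := by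
    obtain ⟨m, hm, hm1, hmO⟩ := NO3b.ClosedPow.exists_fixed_mod (S := o2 C) (B := V l) (A := ⊥)
      (MinSimple.VModule.o2_isPGroup C) h2 hN
      (fun t _ b hb => by rw [mem_bot] at hb ⊢; rw [hb]; group)
      (fun t _ b hb => by rw [mem_bot] at hb ⊢; rw [hb]; group) (fun h => H.ne l (le_bot_iff.1 h))
    intro h0
    apply hm1
    rw [← h0]
    refine ⟨hm, mem_centralizer_iff.2 fun o ho => ?_⟩
    have h1 := mem_bot.1 (hmO o ho)
    unfold NO3b.ClosedPow.cm at h1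
    exact mul_inv_eq_one.1 (by rw [← h1]; group)
  have h3 : x l ∈ normalizer ((V l ⊓ centralizer (o2 C : Set G) : Subgroup G) : Set G) := by
    rw [mem_normalizer_iff_cj, cj_inf, cj_eq_of_mem_normalizer (H.xN l), cj_centralizer,
      cj_eq_of_mem_normalizer (MinSimple.VModule.le_normalizer_o2 C hxC)]
  have h4 := H.xirr l _ inf_le_left h3 hU
  rw [le_centralizer_iff]
  exact inf_eq_left.1 h4

theorem cent_L (i : ι) : o2 (centralizer (V i : Set G)) ≤ centralizer (L : Set G) := by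
  rw [le_centralizer_iff]
  refine H.LV.trans (iSup_le fun l => ?_)
  rw [le_centralizer_iff]
  exact H.cent_V i l

theorem le_Q (i : ι) : o2 (centralizer (V i : Set G)) ≤ Q := H.QO i (H.cent_L i)

/-- **(3), `l = i`**: a subgroup `W` of `C_G(V_i)` with `[W, Q] ≤ V_i` lies in `O₂(C_G(V_i))`. -/
theorem self (i : ι) {W : Subgroup G} (WV : W ≤ centralizer (V i : Set G))
    (WQ : ∀ w ∈ W, ∀ q ∈ Q, q * w * q⁻¹ * w⁻¹ ∈ V i) : W ≤ o2 (centralizer (V i : Set G)) := by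
  refine le_o2_of_comm (V := V i) le_rfl (fun v hv => H.V2 i v hv) (H.char i) WV fun w hw o ho => ?_
  have h1 := WQ w hw o (H.le_Q i ho)
  have e : w * o * w⁻¹ * o⁻¹ = (o * w * o⁻¹ * w⁻¹)⁻¹ := by group
  rw [e]
  exact inv_mem h1

/-- **(3), `l ≠ i`**: `K ≤ C_G(V_i)` irreducible on `W ≤ C_G(V_i)`, `Q` normalises `W`: `W ≤ O₂(C_G(V_i))`. -/
theorem other (i : ι) {W K : Subgroup G} (W2 : ∀ w ∈ W, w * w = 1) (WV : W ≤ centralizer (V i : Set G))
    (QW : Q ≤ normalizer (W : Set G)) (KV : K ≤ centralizer (V i : Set G)) (KW : K ≤ normalizer (W : Set G))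
    (irr : ∀ U ≤ W, K ≤ normalizer (U : Set G) → U ≠ ⊥ → U = W) : W ≤ o2 (centralizer (V i : Set G)) := by
  by_cases hW : W = ⊥
  · rw [hW]; exact bot_le
  set C := centralizer (V i : Set G) with hC
  have hW2 : IsPGroup 2 W := fun w => ⟨1, by
    ext
    simpa [pow_two] using W2 w w.2⟩
  have hU : W ⊓ centralizer (o2 C : Set G) ≠ ⊥ := by
    obtain ⟨m, hm, hm1, hmO⟩ := NO3b.ClosedPow.exists_fixed_mod (S := o2 C) (B := W) (A := ⊥)
      (MinSimple.VModule.o2_isPGroup C) hW2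
      (fun t ht b hb => (mem_normalizer_iff.1 (QW (H.le_Q i ht)) b).1 hb)
      (fun t _ b hb => by rw [mem_bot] at hb ⊢; rw [hb]; group)
      (fun t _ b hb => by rw [mem_bot] at hb ⊢; rw [hb]; group)
      (fun h => hW (le_bot_iff.1 h))
    intro h0
    apply hm1
    rw [← h0]
    refine ⟨hm, mem_centralizer_iff.2 fun o ho => ?_⟩
    have h1 := mem_bot.1 (hmO o ho)
    unfold NO3b.ClosedPow.cm at h1
    exact mul_inv_eq_one.1 (by rw [← h1]; group)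
  have h3 : K ≤ normalizer ((W ⊓ centralizer (o2 C : Set G) : Subgroup G) : Set G) := fun k hk => by
    rw [mem_normalizer_iff_cj, cj_inf, cj_eq_of_mem_normalizer (KW hk), cj_centralizer,
      cj_eq_of_mem_normalizer (MinSimple.VModule.le_normalizer_o2 C (KV hk))]
  have h4 := inf_eq_left.1 (irr _ inf_le_left h3 hU)
  exact (le_inf WV h4).trans (H.char i)

end Lines

/-- The input of (3). -/
structure Three {ι : Type*} (Q L : Subgroup G) (V W K : ι → Subgroup G) (x : ι → G) : Prop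
    extends Lines Q L V x where
  VW : ∀ l, V l ≤ W l
  W2 : ∀ l, ∀ w ∈ W l, w * w = 1
  WV : ∀ i l, W l ≤ centralizer (V i : Set G)
  WQ : ∀ i, ∀ w ∈ W i, ∀ q ∈ Q, q * w * q⁻¹ * w⁻¹ ∈ V i
  KV : ∀ i l, i ≠ l → K l ≤ centralizer (V i : Set G)
  KW : ∀ l, K l ≤ normalizer (W l : Set G)
  irr : ∀ l, ∀ U ≤ W l, K l ≤ normalizer (U : Set G) → U ≠ ⊥ → U = W l

namespace Three

variable {ι : Type*} {Q L : Subgroup G} {V W K : ι → Subgroup G} {x : ι → G} (H : Three Q L V W K x)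
include H

theorem isPGroup_W (l : ι) : IsPGroup 2 (W l) := fun w => ⟨1, by
  ext
  simpa [pow_two] using H.W2 l w w.2⟩

theorem QW (l : ι) : Q ≤ normalizer (W l : Set G) := by
  have key : ∀ q ∈ Q, ∀ w ∈ W l, q * w * q⁻¹ ∈ W l := fun q hq w hw => by
    have h1 := mul_mem (H.VW l (H.WQ l w hw q hq)) hw
    rwa [inv_mul_cancel_right] at h1
  intro q hq
  rw [mem_normalizer_iff]
  refine fun w => ⟨key q hq w, fun h => ?_⟩
  have h1 := key q⁻¹ (inv_mem hq) _ h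
  have e : q⁻¹ * (q * w * q⁻¹) * q⁻¹⁻¹ = w := by group
  rwa [e] at h1

/-- **(3)** -/
theorem W_le (i l : ι) : W l ≤ o2 (centralizer (V i : Set G)) := by
  by_cases hl : l = i
  · rw [hl]
    exact H.toLines.self i (H.WV i i) (H.WQ i)
  · exact H.toLines.other i (H.W2 l) (H.WV i l) (H.QW l) (H.KV i l (Ne.symm hl)) (H.KW l) (H.irr l)

theorem V_le (i l : ι) : V l ≤ o2 (centralizer (V i : Set G)) := (H.VW l).trans (H.W_le i l)

theorem L_le (i : ι) : L ≤ o2 (centralizer (V i : Set G)) := H.LV.trans (iSup_le fun l => H.V_le i l)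

theorem W_le_Q (i l : ι) : W l ≤ Q := (H.W_le i l).trans (H.toLines.le_Q i)

/-- `W_l ∩ W_m = 1` -/
theorem disj {l m : ι} (hQ : W l ⊓ centralizer (Q : Set G) ≤ V l) (hQ' : W m ⊓ centralizer (Q : Set G) ≤ V m)
    (hd : V l ⊓ V m = ⊥) (Q2 : IsPGroup 2 Q) : W l ⊓ W m = ⊥ := by
  by_contra hne
  have hN : ∀ l, ∀ q ∈ Q, ∀ w ∈ W l, q * w * q⁻¹ ∈ W l := fun l q hq w hw => by
    have h1 := mul_mem (H.VW l (H.WQ l w hw q hq)) hw
    rwa [inv_mul_cancel_right] at h1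
  obtain ⟨v, hv, hv1, hvQ⟩ := NO3b.ClosedPow.exists_fixed_mod (S := Q) (B := W l ⊓ W m) (A := ⊥)
    Q2 ((H.isPGroup_W l).to_le inf_le_left) (fun q hq w hw => ⟨hN l q hq w hw.1, hN m q hq w hw.2⟩)
    (fun t _ b hb => by rw [mem_bot] at hb ⊢; rw [hb]; group)
    (fun t _ b hb => by rw [mem_bot] at hb ⊢; rw [hb]; group) (fun h => hne (le_bot_iff.1 h))
  apply hv1
  have hc : v ∈ centralizer (Q : Set G) := mem_centralizer_iff.2 fun o ho => by
    have h1 := mem_bot.1 (hvQ o ho)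
    unfold NO3b.ClosedPow.cm at h1
    exact mul_inv_eq_one.1 (by rw [← h1]; group)
  rw [← hd]
  exact ⟨hQ ⟨hv.1, hc⟩, hQ' ⟨hv.2, hc⟩⟩

end Three

/-- `t = q o` moves `W / V`, `q` does not: `o` moves `W / V`. -/
theorem moves {Q O V W : Subgroup G} {t q o w : G} (hq : q ∈ Q) (ho : o ∈ O) (e : t = q * o)
    (hQ : ∀ q ∈ Q, ∀ w ∈ W, q * w * q⁻¹ * w⁻¹ ∈ V) (VW : V ≤ W) (hw : w ∈ W)
    (ht : t * w * t⁻¹ * w⁻¹ ∉ V) : ¬ ⁅O, W⁆ ≤ V := by
  intro h
  apply ht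
  have h1 : o * w * o⁻¹ * w⁻¹ ∈ V := h (commutator_mem_commutator ho hw)
  have h2 : o * w * o⁻¹ ∈ W := by
    have := mul_mem (VW h1) hw
    rwa [inv_mul_cancel_right] at this
  have h3 := hQ q hq _ h2
  have e2 : t * w * t⁻¹ * w⁻¹ = (q * (o * w * o⁻¹) * q⁻¹ * (o * w * o⁻¹)⁻¹) * (o * w * o⁻¹ * w⁻¹) := by
    rw [e]; group
  rw [e2]
  exact mul_mem h3 h1

end Cfsg.Agent.Omega.NO3S.WY.Tor
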