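import Cfsg.Agent.Omega.NO3S.WY.Tor.OneTY
import Cfsg.Agent.Omega.NO3S.WY.Tor.Three
import Cfsg.Agent.Omega.NOne.LemmaT

/-!
# THEOREM TOR (3), over the frame

* `Cx.exists_cj_le` : Sylow; `Cx.lines` : the lines `V_i` and the elements `d_i` satisfy `Lines`;
* `Cx.o2_le_Q`, `Cx.o2_cL` : `O₂(C_G(V_i)) ≤ Q`;
* `TY.W_le_o2'` : `W_j ≤ O₂(C_G(V_l))`, `l ≠ j` (any `F`); `TY.W_le_o2` : all `l` (`F = 1`); `TY.W_le_Q`;
* `TY.YV` : `Y_j` normalises `V_i`.
-/

set_option autoImplicit false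
set_option linter.unusedSectionVars false

namespace Cfsg.Agent.Omega.NO3S.WY.Tor

open Subgroup Cfsg Cfsg.Agent.ZN Cfsg.Agent.ZN.ChoiceBase
open Cfsg.Agent.ZN.ChoiceSit (Syl)
open Cfsg.Agent.MinSimple.MinParabolic (IsMinPar)
open Cfsg.Agent.MinSimple.VModule (oddGen oddGen_def mem_oddGen)
open scoped commutatorElement

universe u

variable {G : Type u} [Group G] {ι : Type}

namespace Cx

variable {S B Q M X L : Subgroup G} {V : ι → Subgroup G} {z : ι → G} (c : Cx S B Q M X L V z)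
include c

theorem exists_cj_le [Finite G] {R : Subgroup G} (hR : IsPGroup 2 R) : ∃ g, cj g R ≤ S := by
  have : Fact (Nat.Prime 2) := ⟨Nat.prime_two⟩
  obtain ⟨T, hT⟩ := hR.exists_le_sylow
  obtain ⟨g, hg⟩ := MulAction.exists_smul_eq G T (c.S2.toSylow c.Sidx)
  refine ⟨g, fun x hx => ?_⟩
  obtain ⟨r, hr, rfl⟩ := hx
  have h1 : (g • T : Sylow 2 G) = c.S2.toSylow c.Sidx := hg
  have h2 : g * r * g⁻¹ ∈ ((g • T : Sylow 2 G) : Subgroup G) := by
    rw [Sylow.coe_subgroup_smul, mem_pointwise_smul_iff_inv_smul_mem]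
    have : (MulAut.conj g)⁻¹ • (g * r * g⁻¹) = r := by
      rw [← map_inv, MulAut.smul_def, MulAut.conj_apply]; group
    rw [this]
    exact hT hr
  rw [h1] at h2
  exact h2

/-- a 2-group normalised by `Q` normalises `Q`; it lies in `Q` if it centralises `L` -/
theorem norm_Q [Finite G] {R : Subgroup G} (hR : IsPGroup 2 R) (hQ : Q ≤ normalizer (R : Set G)) :
    R ≤ normalizer (Q : Set G) ∧ (R ≤ centralizer (L : Set G) → R ≤ Q) := by
  obtain ⟨g, hg⟩ := c.exists_cj_le (IsPGroup.to_sup_of_normal_right' (c.S2.to_le c.QS) hR hQ)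
  have h1 : cj g Q = Q := c.wc g ((cj_mono g le_sup_left).trans hg)
  have h2 : g ∈ normalizer (Q : Set G) := mem_normalizer_iff_cj.2 h1
  have h3 : ∀ r ∈ R, g * r * g⁻¹ ∈ S := fun r hr => ((cj_mono g le_sup_right).trans hg) ⟨r, hr, rfl⟩
  refine ⟨fun r hr => ?_, fun hc r hr => ?_⟩
  · have h4 := c.SQ (h3 r hr)
    have e : r = g⁻¹ * (g * r * g⁻¹) * g := by group
    rw [e]
    exact mul_mem (mul_mem (inv_mem h2) h4) h2
  · have h4 : g * r * g⁻¹ ∈ Q := c.cSL _ (h3 r hr) fun l hl => by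
      have h5 : g⁻¹ * l * g ∈ L := by
        have := conj_mem (c.norm_L (inv_mem h2)) hl
        rwa [inv_inv] at this
      have h6 := mem_centralizer_iff.1 (hc hr) _ h5
      calc g * r * g⁻¹ * l = g * (r * (g⁻¹ * l * g)) * g⁻¹ := by group
        _ = g * ((g⁻¹ * l * g) * r) * g⁻¹ := by rw [h6]
        _ = l * (g * r * g⁻¹) := by group
    exact (mem_normalizer_iff.1 h2 r).2 h4

theorem V2 (i : ι) : IsPGroup 2 (V i) := c.S2.to_le ((c.VX i).trans c.XS)

theorem Q_cV (i : ι) : Q ≤ centralizer (V i : Set G) := fun q hq => mem_centralizer_iff.2 fun v hv =>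
  (c.cQL q hq v (c.VL i hv)).symm

theorem char (i : ι) [Finite G] : centralizer (V i : Set G) ⊓ centralizer (o2 (centralizer (V i : Set G)) : Set G) ≤
    o2 (centralizer (V i : Set G)) := NOne.LemmaT.char2_centralizer c.char2 (c.V2 i) (c.V_ne_bot i)

/-- the lines, with the properties of the `d_i` -/
theorem lines' [Finite G] : ∃ x : ι → G, Lines Q L V x ∧ (∀ i, x i ∈ M) ∧ (∀ i, x i ∈ normalizer (Q : Set G)) ∧
    ∀ i, x i * z i * (x i)⁻¹ ≠ z i := by
  choose d hdM hdQ ho hdc hdz using c.d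
  have hN : ∀ i, d i ∈ normalizer (V i : Set G) := by
    intro i
    obtain ⟨m, hm⟩ := c.perm (d i) (hdQ i) i
    by_cases hmi : m = i
    · rw [mem_normalizer_iff_cj, hm, hmi]
    · exfalso
      apply hmi
      apply c.V_inj
      have h1 : cj (d i) (V m) = V m := cj_eq_of_mem_normalizer
        ((centralizer_le_normalizer _) (mem_centralizer_iff.2 fun v hv => (hdc i m hmi v hv).symm))
      have h2 := congrArg (cj (d i)⁻¹) (h1.trans hm.symm)
      rwa [cj_inv_cj, cj_inv_cj] at h2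
  have hQO : ∀ i, Q ≤ normalizer (o2 (centralizer (V i : Set G)) : Set G) := fun i =>
    (c.Q_cV i).trans (MinSimple.VModule.le_normalizer_o2 _)
  refine ⟨d, ⟨fun i => c.char i, fun i => (c.norm_Q (MinSimple.VModule.o2_isPGroup _) (hQO i)).1,
    fun i => (c.norm_Q (MinSimple.VModule.o2_isPGroup _) (hQO i)).2, c.perm, c.eL.le, c.V_ne_bot,
    fun l v hv => c.Xs v (c.VX l hv), fun l v hv => mem_centralizer_iff.2 fun w hw => c.xc (c.VX l hw) (c.VX l hv),
    hN, fun l m hm => mem_centralizer_iff.2 fun v hv => (hdc l m hm v hv).symm,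
    fun l => ⟨orderOf (d l), ho l, by rw [pow_orderOf_eq_one]; exact one_mem _⟩, fun l hl => ?_,
    fun l U hU hUn hU1 => ?_⟩, hdM, hdQ, hdz⟩
  · apply hdz l
    rw [← mem_centralizer_iff.1 hl _ (c.zV l)]
    group
  · have h1 : Nat.card U ∣ 4 := by
      rw [← c.cV l]
      exact Subgroup.card_dvd_of_le hU
    have h2 : Nat.card U ≠ 1 := fun e => hU1 (Subgroup.card_eq_one.1 e)
    have h3 : Nat.card U = 2 ∨ Nat.card U = 4 := by
      have h4 := Nat.le_of_dvd (by norm_num) h1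
      have h5 : 0 < Nat.card U := Nat.card_pos
      generalize Nat.card U = n at *
      interval_cases n
      · exact absurd rfl h2
      · exact Or.inl rfl
      · exact absurd h1 (by norm_num)
      · exact Or.inr rfl
    rcases h3 with h3 | h3
    · exfalso
      have h4 := Four.rel_mul_card hU
      rw [h3, c.cV l] at h4
      have h5 := Four.comm_mem_of_two hU (by omega) (hN l) hUn (c.zV l)
      rw [commutatorElement_def] at h5
      -- `d` centralises `U`
      have h6 : ∀ u ∈ U, d l * u = u * d l := by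
        intro u hu
        have h7 : (⊥ : Subgroup G).relIndex U = 2 := by
          rw [relIndex_bot_left, h3]
        have h8 := Four.comm_mem_of_two (W₀ := ⊥) bot_le h7 hUn (by
          rw [mem_normalizer_iff]; intro x; simp) hu
        rw [mem_bot, commutatorElement_def] at h8
        exact comm_iff.1 h8
      have h9 := odd_comm (ho l) (c.Xs _ (c.VX l (hU h5))) (h6 _ h5) (c.xc (c.VX l (hU h5)) (c.zX l)) rfl
      apply hdz l
      rw [h9]; group
    · exact Subgroup.eq_of_le_of_card_ge hU (by rw [h3, c.cV l])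

/-- the lines -/
theorem lines [Finite G] : ∃ x : ι → G, Lines Q L V x := by
  obtain ⟨x, H, -⟩ := c.lines'
  exact ⟨x, H⟩

theorem o2_cL [Finite G] (i : ι) : o2 (centralizer (V i : Set G)) ≤ centralizer (L : Set G) := by
  obtain ⟨x, H⟩ := c.lines
  exact H.cent_L i

/-- **`O₂(C_G(V_i)) ≤ Q`** -/
theorem o2_le_Q [Finite G] (i : ι) : o2 (centralizer (V i : Set G)) ≤ Q := by
  obtain ⟨x, H⟩ := c.lines
  exact H.le_Q i

end Cx

namespace TY

variable {S B Q M X L : Subgroup G} {V : ι → Subgroup G} {z : ι → G} {𝓦 : Set (Subgroup G)} {j : ι}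
  {Y W F : Subgroup G}

/-- **(3)**, `l ≠ j`, any `F` -/
theorem W_le_o2' [Finite G] (c : Cx S B Q M X L V z) (h : TY S B Q M X V z 𝓦 j Y W F)
    (hc : oddGen Y ≤ centralizer (VV V j : Set G)) {l : ι} (hl : l ≠ j) : W ≤ o2 (centralizer (V l : Set G)) := by
  set C := centralizer (V l : Set G) with hC
  have hKC : oddGen Y ≤ C := hc.trans (centralizer_le (c.V_VV hl))
  have hWC : W ≤ C := fun w hw => mem_centralizer_iff.2 fun v hv => c.xc (c.VX l hv) (h.WX hw)
  by_cases hm : o2 C ≤ centralizer (W : Set G)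
  · rw [le_centralizer_iff] at hm
    exact (le_inf hWC hm).trans (c.char l)
  exfalso
  have e := h.cWA c (c.o2_le_Q l) hm
  have h1 : oddGen Y ≤ normalizer ((V j ⊔ F : Subgroup G) : Set G) := fun y hy => by
    have hyY : y ∈ Y := MinSimple.VModule.oddGen_le Y hy
    rw [← e, mem_normalizer_iff_cj, cj_inf, cj_eq_of_mem_normalizer (h.YW hyY), cj_centralizer,
      cj_eq_of_mem_normalizer (MinSimple.VModule.le_normalizer_o2 C (hKC hy))]
  have h2 : B ≤ normalizer ((V j ⊔ F : Subgroup G) : Set G) := fun b hb => by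
    have h3 : b ∈ normalizer (F : Set G) := (centralizer_le_normalizer _) (mem_centralizer_iff.2 fun f hf =>
      (h.cF (h.BY hb) hf).symm)
    rw [mem_normalizer_iff_cj, cjs, cj_eq_of_mem_normalizer (c.BV j hb), cj_eq_of_mem_normalizer h3]
  have h3 : Y ≤ normalizer ((V j ⊔ F : Subgroup G) : Set G) := by
    rw [← h.oddB c]
    exact sup_le h1 h2
  have h4 := Subgroup.card_le_of_le (h.gen _ ((le_sup_left : V j ≤ V j ⊔ F) (c.zV j)) h3)
  rw [h.cW, h.card_VF c] at h4
  have h5 : 0 < Nat.card F := Nat.card_pos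
  omega

/-- **(3)** -/
theorem W_le_o2 [Finite G] (c : Cx S B Q M X L V z) (h : TY S B Q M X V z 𝓦 j Y W F) (hF : F = ⊥)
    (hc : oddGen Y ≤ centralizer (VV V j : Set G)) (l : ι) : W ≤ o2 (centralizer (V l : Set G)) := by
  by_cases hl : l = j
  · subst hl
    obtain ⟨x, H⟩ := c.lines
    refine H.self l (fun w hw => mem_centralizer_iff.2 fun v hv => c.xc (c.VX l hv) (h.WX hw)) fun w hw q hq => ?_
    have := h.quad q hq w hw
    rwa [hF, sup_bot_eq] at this
  · exact h.W_le_o2' c hc hl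

/-- `W ≤ Q` -/
theorem W_le_Q [Finite G] (c : Cx S B Q M X L V z) (h : TY S B Q M X V z 𝓦 j Y W F) (hF : F = ⊥)
    (hc : oddGen Y ≤ centralizer (VV V j : Set G)) : W ≤ Q := (h.W_le_o2 c hF hc j).trans (c.o2_le_Q j)

/-- `Y_j` normalises `V_i`, `i ≠ j` -/
theorem YV [Finite G] (c : Cx S B Q M X L V z) (h : TY S B Q M X V z 𝓦 j Y W F)
    (hc : oddGen Y ≤ centralizer (VV V j : Set G)) {i : ι} (hi : i ≠ j) : Y ≤ normalizer (V i : Set G) := by
  rw [← h.oddB c]
  exact sup_le ((hc.trans (centralizer_le (c.V_VV hi))).trans (centralizer_le_normalizer _)) (c.BV i)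

end TY

end Cfsg.Agent.Omega.NO3S.WY.Tor
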