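import Cfsg.Agent.MinSimple.VModule

/-!
# (TOR), (1) of #25011 and (a), (b) of #25227 (ONE `S₅`), abstract

`A` elementary abelian, `L, W, Λ ≤ A`, `Y` acts, `B` a Sylow 2-subgroup of `Y`, `Λ ≤ Z(Y)`, `Q` centralises `L`.

* `exists_norm` : if `B` centralises `x` modulo `Λ` and `Y` centralises `x` modulo `W ≥ Λ`, some `n ∈ x W` is centralised
  by `Y` modulo `Λ` (the product of the conjugates of `x` under `Y / B`).
* `Sit.comm`, `Sit.norm_WL` : `[Y, L] ≤ W Λ`, `Y` normalises `W L`.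
* `Sit.cent` : `O²(Y)` centralises every `x ∈ C_L(h)` which `B` centralises modulo `Λ` : `V*_τ = C_L(h)` for `S₅`,
  `V_(j)` for the naturals.
* `Sit.norm_CQ` : `Y` normalises `C_R(L)` for `R` normal in `Y`, `R` centralises `W` (`R = O₂(Y)` : `C_R(L) = Q ∩ O₂(Y)`).
* `Sit.F_le` : (a).
-/

set_option autoImplicit false

namespace Cfsg.Agent.Omega.NO3S.WY.Tor.SFiveB

open Subgroup
open Cfsg.Agent.MinSimple.VModule (oddGen oddGen_def oddGen_le)

universe u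

variable {G : Type u} [Group G]

/-- An element of odd order which centralises `n` modulo `Λ`, and `Λ`, `A` of exponent 2, centralises `n`. -/
theorem comm_of_odd {A Λ : Subgroup G} (As : ∀ a ∈ A, a * a = 1) {g n : G} (ho : Odd (orderOf g))
    (hz : g * n * g⁻¹ * n⁻¹ ∈ Λ) (hgΛ : ∀ z ∈ Λ, g * z = z * g) (hΛA : Λ ≤ A) : g * n = n * g := by
  set z := g * n * g⁻¹ * n⁻¹ with hzd
  have hy : g * n * g⁻¹ = z * n := by rw [hzd]; group
  have hgz : g * z * g⁻¹ = z := by rw [hgΛ z hz, mul_inv_cancel_right]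
  have key : ∀ k : ℕ, g ^ k * n * (g ^ k)⁻¹ = z ^ k * n := by
    intro k
    induction k with
    | zero => simp
    | succ k ih =>
      have hc : Commute g (z ^ k) := (show Commute g z from hgΛ z hz).pow_right k
      calc g ^ (k + 1) * n * (g ^ (k + 1))⁻¹ = g * (g ^ k * n * (g ^ k)⁻¹) * g⁻¹ := by
            rw [pow_succ']; group
        _ = g * z ^ k * n * g⁻¹ := by rw [ih]; group
        _ = z ^ k * (g * n * g⁻¹) := by rw [hc.eq]; group
        _ = z ^ (k + 1) * n := by rw [hy, pow_succ]; group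
  have h1 := key (orderOf g)
  rw [pow_orderOf_eq_one, one_mul, inv_one, mul_one] at h1
  have h3 : z ^ orderOf g = 1 := by
    have e : z ^ orderOf g * n = 1 * n := by rw [← h1, one_mul]
    exact mul_right_cancel e
  obtain ⟨k, hk⟩ := ho
  have hz2 : z * z = 1 := As z (hΛA hz)
  rw [hk, pow_succ, pow_mul, pow_two, hz2, one_pow, one_mul] at h3
  have h4 : g * n * g⁻¹ = n := by rw [hy, h3, one_mul]
  calc g * n = g * n * g⁻¹ * g := by group
    _ = n * g := by rw [h4]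

/-- **The norm.** -/
theorem exists_norm [Finite G] {A W Λ Y B : Subgroup G} (Aab : ∀ a ∈ A, ∀ b ∈ A, a * b = b * a)
    (As : ∀ a ∈ A, a * a = 1) (YA : Y ≤ normalizer (A : Set G))
    (YΛ : Y ≤ normalizer (Λ : Set G)) (hi : ¬ 2 ∣ B.relIndex Y) {x : G} (hx : x ∈ A)
    (hB : ∀ b ∈ B, b ∈ Y → b * x * b⁻¹ * x⁻¹ ∈ Λ) (hY : ∀ y ∈ Y, y * x * y⁻¹ * x⁻¹ ∈ W) :
    ∃ n ∈ A, (∀ y ∈ Y, y * n * y⁻¹ * n⁻¹ ∈ Λ) ∧ n * x⁻¹ ∈ W := by
  classical
  let _ : CommGroup A := { (inferInstance : Group A) with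
      mul_comm := fun a c => Subtype.ext (Aab a a.2 c c.2) }
  have cA : ∀ y ∈ Y, ∀ a ∈ A, y * a * y⁻¹ ∈ A := fun y hy a ha =>
    (mem_normalizer_iff.1 (YA hy) a).1 ha
  let f : Y ⧸ (B.subgroupOf Y) → A := fun q =>
    ⟨(q.out : G) * x * (q.out : G)⁻¹, cA _ q.out.2 x hx⟩
  let _ := Fintype.ofFinite (Y ⧸ (B.subgroupOf Y))
  let Λ' : Subgroup A := Λ.subgroupOf A
  let W' : Subgroup A := W.subgroupOf A
  let n : A := ∏ q, f q
  refine ⟨n, n.2, fun y hy => ?_, ?_⟩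
  · let φ : A →* A :=
      { toFun := fun a => ⟨y * a * y⁻¹, cA y hy a a.2⟩
        map_one' := Subtype.ext (by simp)
        map_mul' := fun a b => Subtype.ext (by
          change y * ((a : G) * b) * y⁻¹ = (y * a * y⁻¹) * (y * b * y⁻¹)
          group) }
    have h1 : φ n = ∏ q, φ (f q) := map_prod φ f _
    have h2 : n = ∏ q, f ((⟨y, hy⟩ : Y) • q) :=
      (Equiv.prod_comp (MulAction.toPerm (⟨y, hy⟩ : Y)) f).symm
    have h3 : φ n * n⁻¹ ∈ Λ' := by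
      have h2' : n⁻¹ = ∏ q, (f ((⟨y, hy⟩ : Y) • q))⁻¹ := by
        rw [Finset.prod_inv_distrib]; exact congrArg (fun a : A => a⁻¹) h2
      rw [h1, h2', ← Finset.prod_mul_distrib]
      refine Subgroup.prod_mem _ fun q _ => ?_
      -- `y (q.out) = (y • q).out * b`
      set r : Y := q.out with hr
      set r' : Y := ((⟨y, hy⟩ : Y) • q).out with hr'
      have h4 : ((r' : Y) : Y ⧸ (B.subgroupOf Y)) = (((⟨y, hy⟩ : Y) * r : Y) : Y ⧸ (B.subgroupOf Y)) := by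
        rw [hr', QuotientGroup.out_eq', hr]
        conv_lhs => rw [← QuotientGroup.out_eq' q]
        rfl
      have h5 : r'⁻¹ * ((⟨y, hy⟩ : Y) * r) ∈ B.subgroupOf Y := QuotientGroup.eq.1 h4
      set b : Y := r'⁻¹ * ((⟨y, hy⟩ : Y) * r) with hb
      have h6 : y * (r : G) = (r' : G) * (b : G) := by
        have : ((⟨y, hy⟩ : Y) * r) = r' * b := by rw [hb]; group
        exact congrArg Subtype.val this
      have h7 := hB b (mem_subgroupOf.1 h5) b.2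
      change (y * ((r : G) * x * (r : G)⁻¹) * y⁻¹) * ((r' : G) * x * (r' : G)⁻¹)⁻¹ ∈ Λ
      have h8 : (y * ((r : G) * x * (r : G)⁻¹) * y⁻¹) * ((r' : G) * x * (r' : G)⁻¹)⁻¹ =
          (r' : G) * ((b : G) * x * (b : G)⁻¹ * x⁻¹) * (r' : G)⁻¹ := by
        have e1 : y * ((r : G) * x * (r : G)⁻¹) * y⁻¹ = (y * (r : G)) * x * (y * (r : G))⁻¹ := by group
        rw [e1, h6]; group
      rw [h8]
      exact (mem_normalizer_iff.1 (YΛ r'.2) _).1 h7
    exact h3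
  · have h1 : n * ((⟨x, hx⟩ : A) ^ Fintype.card (Y ⧸ (B.subgroupOf Y)))⁻¹ ∈ W' := by
      have h2 : (⟨x, hx⟩ : A) ^ Fintype.card (Y ⧸ (B.subgroupOf Y)) =
          ∏ _q : Y ⧸ (B.subgroupOf Y), (⟨x, hx⟩ : A) := by
        rw [Finset.prod_const, Finset.card_univ]
      rw [h2, ← Finset.prod_inv_distrib, ← Finset.prod_mul_distrib]
      refine Subgroup.prod_mem _ fun q _ => ?_
      exact hY _ q.out.2
    have hodd : Fintype.card (Y ⧸ (B.subgroupOf Y)) % 2 = 1 := by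
      have : Fintype.card (Y ⧸ (B.subgroupOf Y)) = B.relIndex Y := by
        rw [← Nat.card_eq_fintype_card]; rfl
      omega
    have h3 : (⟨x, hx⟩ : A) ^ Fintype.card (Y ⧸ (B.subgroupOf Y)) = ⟨x, hx⟩ := by
      rw [← Nat.div_add_mod (Fintype.card (Y ⧸ (B.subgroupOf Y))) 2, hodd, pow_add, pow_mul, pow_one]
      have : (⟨x, hx⟩ : A) ^ 2 = 1 := Subtype.ext (by
        change x ^ 2 = 1
        rw [pow_two]; exact As x hx)
      rw [this, one_pow, one_mul]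
    rw [h3] at h1
    exact h1

/-- The situation of (1) of #25011, (b) of #25227. -/
structure Sit (Y Q B A L W Λ : Subgroup G) : Prop where
  Aab : ∀ a ∈ A, ∀ b ∈ A, a * b = b * a
  As : ∀ a ∈ A, a * a = 1
  YA : Y ≤ normalizer (A : Set G)
  LA : L ≤ A
  WA : W ≤ A
  YW : Y ≤ normalizer (W : Set G)
  ΛL : Λ ≤ L
  YΛ : ∀ y ∈ Y, ∀ z ∈ Λ, y * z = z * y
  syl : ¬ 2 ∣ B.relIndex Y
  /-- `N_Y(Q)` centralises `L / (W ∩ L) Λ` -/
  NQ : ∀ g ∈ Y, g ∈ normalizer (Q : Set G) → ∀ l ∈ L, g * l * g⁻¹ * l⁻¹ ∈ W ⊔ Λ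
  /-- (0), the ODD KERNEL LEMMA (594's `Ker0 Y Q A`) -/
  ker : ∀ N₁ : Subgroup G, N₁ ≤ A → Y ≤ normalizer (N₁ : Set G) → ∀ v ∈ A,
    (∀ g ∈ Y, g ∈ normalizer (Q : Set G) → g * v * g⁻¹ * v⁻¹ ∈ N₁) → ∀ y ∈ Y, y * v * y⁻¹ * v⁻¹ ∈ N₁

namespace Sit

variable {Y Q B A L W Λ : Subgroup G} (h : Sit Y Q B A L W Λ)
include h

theorem YΛn : Y ≤ normalizer (Λ : Set G) := by
  intro y hy
  have h1 : ∀ z ∈ Λ, y * z * y⁻¹ = z := fun z hz => by rw [h.YΛ y hy z hz, mul_inv_cancel_right]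
  have h2 : ∀ z ∈ Λ, y⁻¹ * z * y = z := fun z hz => by
    have := h.YΛ y hy z hz
    rw [mul_assoc, ← this, inv_mul_cancel_left]
  refine mem_normalizer_iff.2 fun z => ⟨fun hz => by rw [h1 z hz]; exact hz, fun hz => ?_⟩
  have h3 := h2 _ hz
  have e : y⁻¹ * (y * z * y⁻¹) * y = z := by group
  rw [e] at h3
  rw [h3]; exact hz

theorem ΛA : Λ ≤ A := h.ΛL.trans h.LA

omit h in
theorem norm_sup {M N : Subgroup G} (hM : Y ≤ normalizer (M : Set G)) (hN : Y ≤ normalizer (N : Set G)) :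
    Y ≤ normalizer ((M ⊔ N : Subgroup G) : Set G) := by
  intro y hy
  have key : ∀ g : G, g ∈ normalizer (M : Set G) → g ∈ normalizer (N : Set G) →
      ∀ z ∈ M ⊔ N, g * z * g⁻¹ ∈ M ⊔ N := fun g hgM hgN z hz => by
    have h1 : (M ⊔ N).map (MulAut.conj g).toMonoidHom ≤ M ⊔ N := by
      rw [Subgroup.map_sup]
      refine sup_le_sup ?_ ?_
      · rintro _ ⟨m, hm, rfl⟩
        exact (mem_normalizer_iff.1 hgM m).1 hm
      · rintro _ ⟨m, hm, rfl⟩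
        exact (mem_normalizer_iff.1 hgN m).1 hm
    exact h1 ⟨z, hz, rfl⟩
  refine mem_normalizer_iff.2 fun z => ⟨key y (hM hy) (hN hy) z, fun hz => ?_⟩
  have h3 := key y⁻¹ (inv_mem (hM hy)) (inv_mem (hN hy)) _ hz
  have e : y⁻¹ * (y * z * y⁻¹) * y⁻¹⁻¹ = z := by group
  rwa [e] at h3

theorem WΛn : Y ≤ normalizer ((W ⊔ Λ : Subgroup G) : Set G) := norm_sup h.YW h.YΛn

theorem WΛA : W ⊔ Λ ≤ A := sup_le h.WA h.ΛA

/-- `[Y, L] ≤ W Λ` -/
theorem comm {y l : G} (hy : y ∈ Y) (hl : l ∈ L) : y * l * y⁻¹ * l⁻¹ ∈ W ⊔ Λ :=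
  h.ker _ h.WΛA h.WΛn l (h.LA hl) (fun g hg hgQ => h.NQ g hg hgQ l hl) y hy

/-- `Y` normalises `W L` -/
theorem norm_WL : Y ≤ normalizer ((W ⊔ L : Subgroup G) : Set G) := by
  have key : ∀ g ∈ Y, ∀ z ∈ W ⊔ L, g * z * g⁻¹ ∈ W ⊔ L := fun g hg z hz => by
    have h1 : (W ⊔ L).map (MulAut.conj g).toMonoidHom ≤ W ⊔ L := by
      rw [Subgroup.map_sup]
      refine sup_le ?_ ?_
      · rintro _ ⟨m, hm, rfl⟩
        exact mem_sup_left ((mem_normalizer_iff.1 (h.YW hg) m).1 hm)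
      · rintro _ ⟨m, hm, rfl⟩
        have h2 := h.comm hg hm
        have h3 : g * m * g⁻¹ * m⁻¹ ∈ W ⊔ L := (sup_le_sup_left h.ΛL W) h2
        have h4 := mul_mem h3 (mem_sup_right hm : m ∈ W ⊔ L)
        have e : g * m * g⁻¹ * m⁻¹ * m = g * m * g⁻¹ := by group
        rw [e] at h4
        exact h4
    exact h1 ⟨z, hz, rfl⟩
  intro y hy
  refine mem_normalizer_iff.2 fun z => ⟨key y hy z, fun hz => ?_⟩
  have h3 := key y⁻¹ (inv_mem hy) _ hz
  have e : y⁻¹ * (y * z * y⁻¹) * y⁻¹⁻¹ = z := by group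
  rwa [e] at h3

/-- **(b)** : `O²(Y)` centralises `x ∈ C_L(h)` if `B` centralises `x` modulo `Λ`.
`cW` : `w ∈ W`, `[w, Q] ≤ Λ` ⟹ `w ∈ L`; `ch` : `C_(L ∩ W Λ)(h) ≤ C(O²(Y))` (`= Λ`). -/
theorem cent [Finite G] (QY : Q ≤ Y) (QL : ∀ q ∈ Q, ∀ l ∈ L, q * l = l * q)
    (cW : ∀ w ∈ W, (∀ q ∈ Q, q * w * q⁻¹ * w⁻¹ ∈ Λ) → w ∈ L) {k : G} (hk : k ∈ oddGen Y)
    (ch : ∀ u ∈ L, u ∈ W ⊔ Λ → k * u = u * k → ∀ g ∈ oddGen Y, g * u = u * g)
    {x : G} (hx : x ∈ L) (hkx : k * x = x * k) (hB : ∀ b ∈ B, b ∈ Y → b * x * b⁻¹ * x⁻¹ ∈ Λ) :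
    ∀ g ∈ oddGen Y, g * x = x * g := by
  obtain ⟨n, hnA, hn, hnx⟩ := exists_norm h.Aab h.As h.YA h.YΛn
    h.syl (h.LA hx) hB (fun y hy => h.comm hy hx)
  have hodd : ∀ g ∈ oddGen Y, g * n = n * g := by
    have h1 : oddGen Y ≤ centralizer ({n} : Set G) := by
      rw [oddGen_def, closure_le]
      rintro g ⟨hg, ho⟩
      have := comm_of_odd h.As ho (hn g hg) (fun z hz => h.YΛ g hg z hz) h.ΛA
      rw [SetLike.mem_coe, mem_centralizer_iff]
      rintro _ rfl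
      exact this.symm
    intro g hg
    exact (mem_centralizer_iff.1 (h1 hg) n rfl).symm
  -- `n = u x`, `u ∈ W Λ`, `u = w z`
  set u := n * x⁻¹ with hu
  have hux : n = u * x := by rw [hu]; group
  have huA : u ∈ A := h.WΛA hnx
  obtain ⟨w, hw, z, hz, hwz⟩ : ∃ w ∈ W, ∃ z ∈ Λ, w * z = u := by
    have hnorm : (W.subgroupOf A).Normal := ⟨fun a ha g => by
      have : g * a * g⁻¹ = a := by
        apply Subtype.ext
        have := h.Aab g g.2 a a.2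
        change (g : G) * a * (g : G)⁻¹ = a
        rw [this, mul_inv_cancel_right]
      rw [this]; exact ha⟩
    have h1 : (⟨u, huA⟩ : A) ∈ W.subgroupOf A ⊔ Λ.subgroupOf A := by
      rw [← Subgroup.subgroupOf_sup h.WA h.ΛA]
      exact mem_subgroupOf.2 hnx
    rw [Subgroup.mem_sup_of_normal_left] at h1
    obtain ⟨w, hw, z, hz, hwz⟩ := h1
    exact ⟨w, mem_subgroupOf.1 hw, z, mem_subgroupOf.1 hz, congrArg Subtype.val hwz⟩
  have hwA := h.WA hw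
  have hzA := h.ΛA hz
  have hwL : w ∈ L := by
    refine cW w hw fun q hq => ?_
    have h1 := hn q (QY hq)
    have e2 : w = n * (x⁻¹ * z⁻¹) := by
      have : w = u * z⁻¹ := by rw [← hwz]; group
      rw [this, hu]; group
    have hqx : q * x⁻¹ = x⁻¹ * q := QL q hq _ (inv_mem hx)
    have hqz : q * z⁻¹ = z⁻¹ * q := QL q hq _ (inv_mem (h.ΛL hz))
    have e3 : q * w * q⁻¹ * w⁻¹ = q * n * q⁻¹ * n⁻¹ := by
      rw [e2]
      have e4 : q * (n * (x⁻¹ * z⁻¹)) * q⁻¹ = (q * n * q⁻¹) * (x⁻¹ * z⁻¹) := by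
        calc q * (n * (x⁻¹ * z⁻¹)) * q⁻¹ = q * n * (x⁻¹ * z⁻¹ * q⁻¹) := by group
          _ = q * n * (q⁻¹ * (x⁻¹ * z⁻¹)) := by
            have : x⁻¹ * z⁻¹ * q⁻¹ = q⁻¹ * (x⁻¹ * z⁻¹) := by
              have h5 : q * (x⁻¹ * z⁻¹) = (x⁻¹ * z⁻¹) * q := by
                rw [← mul_assoc, hqx, mul_assoc, hqz, ← mul_assoc]
              calc x⁻¹ * z⁻¹ * q⁻¹ = q⁻¹ * (q * (x⁻¹ * z⁻¹)) * q⁻¹ := by group
                _ = q⁻¹ * ((x⁻¹ * z⁻¹) * q) * q⁻¹ := by rw [h5]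
                _ = q⁻¹ * (x⁻¹ * z⁻¹) := by group
            rw [this]
          _ = (q * n * q⁻¹) * (x⁻¹ * z⁻¹) := by group
      rw [e4]
      have e5 : (n * (x⁻¹ * z⁻¹))⁻¹ = (x⁻¹ * z⁻¹)⁻¹ * n⁻¹ := by group
      rw [e5]; group
    rw [e3]; exact h1
  have huL : u ∈ L := by rw [← hwz]; exact mul_mem hwL (h.ΛL hz)
  have hku : k * u = u * k := by
    have h1 := hodd k hk
    rw [hux] at h1
    -- `k u x = u x k = u k x`
    have h2 : k * u * x = u * k * x := by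
      calc k * u * x = k * (u * x) := by group
        _ = u * x * k := h1
        _ = u * (x * k) := by group
        _ = u * (k * x) := by rw [hkx]
        _ = u * k * x := by group
    exact mul_right_cancel h2
  have hcu := ch u huL hnx hku
  intro g hg
  have h1 := hodd g hg
  have h2 := hcu g hg
  have e : x = u⁻¹ * n := by rw [hux]; group
  have h3 : g * u⁻¹ = u⁻¹ * g := by
    calc g * u⁻¹ = u⁻¹ * (u * g) * u⁻¹ := by group
      _ = u⁻¹ * (g * u) * u⁻¹ := by rw [h2]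
      _ = u⁻¹ * g := by group
  rw [e, ← mul_assoc, h3, mul_assoc, h1, mul_assoc]

/-- **`C_R(L)` is normal in `Y`** for `R` normal in `Y` which centralises `W` (`R = O₂(Y)`, `C_R(L) = Q ∩ O₂(Y)`). -/
theorem norm_CL {R : Subgroup G} (YR : Y ≤ normalizer (R : Set G)) (RW : R ≤ centralizer (W : Set G)) :
    Y ≤ normalizer ((R ⊓ centralizer (L : Set G) : Subgroup G) : Set G) := by
  have e : R ⊓ centralizer (L : Set G) = R ⊓ centralizer ((W ⊔ L : Subgroup G) : Set G) := by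
    refine le_antisymm (le_inf inf_le_left ?_) (le_inf inf_le_left (inf_le_right.trans
      (centralizer_le (SetLike.coe_subset_coe.2 (le_sup_right : L ≤ W ⊔ L)))))
    rw [le_centralizer_iff]
    refine sup_le ?_ ?_
    · rw [le_centralizer_iff]; exact inf_le_left.trans RW
    · rw [le_centralizer_iff]; exact inf_le_right
  rw [e]
  have key : ∀ g ∈ Y, ∀ r ∈ R ⊓ centralizer ((W ⊔ L : Subgroup G) : Set G),
      g * r * g⁻¹ ∈ R ⊓ centralizer ((W ⊔ L : Subgroup G) : Set G) := by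
    rintro g hg r ⟨hr, hrc⟩
    refine ⟨(mem_normalizer_iff.1 (YR hg) r).1 hr, mem_centralizer_iff.2 fun v hv => ?_⟩
    have h1 : g⁻¹ * v * g ∈ W ⊔ L := by
      have := (mem_normalizer_iff.1 (h.norm_WL (inv_mem hg)) v).1 hv
      rwa [inv_inv] at this
    have h2 : (g⁻¹ * v * g) * r = r * (g⁻¹ * v * g) := mem_centralizer_iff.1 hrc _ h1
    calc v * (g * r * g⁻¹) = g * ((g⁻¹ * v * g) * r) * g⁻¹ := by group
      _ = g * (r * (g⁻¹ * v * g)) * g⁻¹ := by rw [h2]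
      _ = g * r * g⁻¹ * v := by group
  intro y hy
  refine mem_normalizer_iff.2 fun z => ⟨key y hy z, fun hz => ?_⟩
  have h3 := key y⁻¹ (inv_mem hy) _ hz
  have e : y⁻¹ * (y * z * y⁻¹) * y⁻¹⁻¹ = z := by group
  rwa [e] at h3

omit h in
/-- **(a)** : `F ≤ Λ`. -/
theorem F_le {F : Subgroup G} {k b : G} (FA : F ≤ A) (QF : ∀ q ∈ Q, ∀ f ∈ F, q * f = f * q)
    (CQ : A ⊓ centralizer (Q : Set G) ≤ L) (kF : ∀ f ∈ F, k * f = f * k) (bF : ∀ f ∈ F, b * f = f * b)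
    (hC : ∀ l ∈ L, k * l = l * k → b * l = l * b → l ∈ Λ) : F ≤ Λ := fun f hf =>
  hC f (CQ ⟨FA hf, mem_centralizer_iff.2 fun q hq => QF q hq f hf⟩) (kF f hf) (bF f hf)

end Sit

end Cfsg.Agent.Omega.NO3S.WY.Tor.SFiveB
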