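import Cfsg.Agent.Omega.NO3S.WY.Tor.Base
import Cfsg.Agent.Omega.NO3S.WY.Tor.SFiveB
import Cfsg.Agent.Omega.NO3S.WY.Tor.One
import Cfsg.Agent.Omega.NO3b.EZeroPair

/-!
# THEOREM TOR (helper474 #25011, nonsplit form helper602 #25344 (N), helper864 #25428), (2): `W^g ≤ W L`

Printed proof (five pieces).  `Tw` : a twin `(W₂, F₂)` of `(W, F)` under `N_M(Q) ∩ N(V_j)`.

* `claim` : `A ∈ 𝓦`, `A ≤ Q`, `A` moves `W` ⟹ `A ∩ C(W)` centralises `N = ⟨W₂^Y⟩`;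
* `uni` : `W^g ≤ W L` for `g ∈ N_M(Q) ∩ N(V_j)`.
-/

set_option autoImplicit false
set_option linter.unusedSectionVars false

namespace Cfsg.Agent.Omega.NO3S.WY.Tor.UniB

open Subgroup Cfsg Cfsg.Agent.ZN Cfsg.Agent.ZN.ChoiceBase
open Cfsg.Agent.ZN.ChoiceSit (Syl)
open Cfsg.Agent.Omega.SQ1.Bau (mem_sup_comm card_sup_comm)
open Cfsg.Agent.Omega.NO3b.EZero (cl cl_le le_cl cj_le_cl le_normalizer_cl)
open Cfsg.Agent.MinSimple.VModule (oddGen)

universe u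

variable {G : Type u} [Group G] [Finite G]

theorem card_rel (C E : Subgroup G) : C.relIndex E * Nat.card ↥(E ⊓ C) = Nat.card E := by
  have h1 := Subgroup.card_mul_index (C.subgroupOf E)
  have h2 : Nat.card (C.subgroupOf E) = Nat.card ↥(E ⊓ C) := by
    rw [← Nat.card_congr ((C.subgroupOf E).equivMapOfInjective E.subtype E.subtype_injective).toEquiv.symm,
      Subgroup.subgroupOf_map_subtype, inf_comm]
  rw [h2] at h1
  rw [mul_comm]; exact h1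

theorem card_mono {A B : Subgroup G} (h : A ≤ B) : Nat.card A ≤ Nat.card B :=
  Nat.card_le_card_of_injective _ (inclusion_injective h)

theorem cpos (A : Subgroup G) : 0 < Nat.card A := Nat.card_pos

/-- a twin of `(W, F)` -/
structure Tw (Q X Vj VVj W F : Subgroup G) : Prop where
  WX : W ≤ X
  VW : Vj ≤ W
  FW : F ≤ W
  FV : F ≤ VVj
  quad : ∀ q ∈ Q, ∀ w ∈ W, q * w * q⁻¹ * w⁻¹ ∈ Vj ⊔ F
  free : ∀ q ∈ Q, ∀ w ∈ W, w ∉ Vj ⊔ F → q * w * q⁻¹ * w⁻¹ ∈ F → ∀ u ∈ W, q * u = u * q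
  cardQ : Nat.card Q = 4 * Nat.card ↥(Q ⊓ centralizer (W : Set G))
  cW : Nat.card W = 4 * Nat.card ↥(Vj ⊔ F)

namespace Tw

variable {Q X Vj VVj W F : Subgroup G} (t : Tw Q X Vj VVj W F)
include t

theorem exists_out : ∃ w ∈ W, w ∉ Vj ⊔ F := by
  by_contra hc
  push Not at hc
  have h1 := card_mono (show W ≤ Vj ⊔ F from hc)
  have h2 := cpos (Vj ⊔ F)
  have h3 := t.cW
  omega

theorem cent_le {E : Subgroup G} (hE : E ≤ Q) (hn : ¬ E ≤ centralizer (W : Set G)) :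
    W ⊓ centralizer (E : Set G) ≤ Vj ⊔ F := by
  rintro w ⟨hw, hwE⟩
  by_contra hw2
  apply hn
  intro e he
  rw [mem_centralizer_iff]
  intro u hu
  refine (t.free e (hE he) w hw hw2 ?_ u hu).symm
  have h1 : e * w * e⁻¹ * w⁻¹ = 1 := comm_iff.2 (mem_centralizer_iff.1 hwE e he)
  rw [h1]; exact one_mem _

theorem four' {N E : Subgroup G} (hN : W ≤ N) (Nc : ∀ x ∈ N, ∀ y ∈ N, x * y = y * x) (hE : E ≤ Q)
    (hn : ¬ E ≤ centralizer (W : Set G)) :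
    4 * Nat.card ↥(N ⊓ centralizer (E : Set G)) ≤ Nat.card ↥(W ⊔ (N ⊓ centralizer (E : Set G)) : Subgroup G) := by
  have h1 := card_sup_comm (A := W) (B := N ⊓ centralizer (E : Set G)) (fun a ha b hb => Nc a (hN ha) b hb.1)
  have h2 : W ⊓ (N ⊓ centralizer (E : Set G)) ≤ Vj ⊔ F := fun w hw => t.cent_le hE hn ⟨hw.1, hw.2.2⟩
  have h3 := card_mono h2
  rw [t.cW] at h1
  have h4 := cpos (W ⊓ (N ⊓ centralizer (E : Set G)))
  refine Nat.le_of_mul_le_mul_right (c := Nat.card ↥(W ⊓ (N ⊓ centralizer (E : Set G)))) ?_ h4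
  rw [h1]
  calc 4 * Nat.card ↥(N ⊓ centralizer (E : Set G)) * Nat.card ↥(W ⊓ (N ⊓ centralizer (E : Set G)))
      ≤ 4 * Nat.card ↥(N ⊓ centralizer (E : Set G)) * Nat.card ↥(Vj ⊔ F) := Nat.mul_le_mul_left _ h3
    _ = 4 * Nat.card ↥(Vj ⊔ F) * Nat.card ↥(N ⊓ centralizer (E : Set G)) := by ring

theorem four {N E : Subgroup G} (hN : W ≤ N) (Nc : ∀ x ∈ N, ∀ y ∈ N, x * y = y * x) (hE : E ≤ Q)
    (hn : ¬ E ≤ centralizer (W : Set G)) :
    4 * Nat.card ↥(N ⊓ centralizer (E : Set G)) ≤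
      Nat.card ↥(N ⊓ centralizer ((E ⊓ centralizer (W : Set G) : Subgroup G) : Set G)) := by
  refine (t.four' hN Nc hE hn).trans (card_mono (sup_le (le_inf hN ?_) (inf_le_inf_left _ (centralizer_le inf_le_left))))
  rw [le_centralizer_iff]
  exact inf_le_right

theorem cardE {E : Subgroup G} (hE : E ≤ Q) : Nat.card E ≤ 4 * Nat.card ↥(E ⊓ centralizer (W : Set G)) := by
  have h1 := card_rel (centralizer (W : Set G)) E
  have h2 := card_rel (centralizer (W : Set G)) Q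
  have h3 : (centralizer (W : Set G)).relIndex Q = 4 := by
    have h4 := t.cardQ
    rw [← h2] at h4
    exact Nat.eq_of_mul_eq_mul_right (cpos _) h4
  have h5 : (centralizer (W : Set G)).relIndex E ≤ (centralizer (W : Set G)).relIndex Q :=
    Subgroup.relIndex_le_of_le_right hE (by rw [h3]; norm_num)
  rw [← h1]
  exact Nat.mul_le_mul_right _ (h5.trans h3.le)

theorem comm_nf {e w : G} (he : e ∈ Q) (hw : w ∈ W) (hw2 : w ∉ Vj ⊔ F) (hn : ¬ ∀ u ∈ W, e * u = u * e) :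
    e * w * e⁻¹ * w⁻¹ ∉ F := fun h1 => hn (t.free e he w hw hw2 h1)

theorem sup_eq {N E : Subgroup G} (hN : W ≤ N) (Nc : ∀ x ∈ N, ∀ y ∈ N, x * y = y * x) (hE : E ≤ Q)
    (hn : ¬ E ≤ centralizer (W : Set G)) (hc : Nat.card N ≤ 4 * Nat.card ↥(N ⊓ centralizer (E : Set G))) {n : G}
    (hn' : n ∈ N) : ∃ w ∈ W, ∃ d ∈ N, (∀ e ∈ E, e * d = d * e) ∧ n = w * d := by
  have h1 : W ⊔ (N ⊓ centralizer (E : Set G)) = N :=
    eq_of_le_of_card_ge (sup_le hN inf_le_left) (hc.trans (t.four' hN Nc hE hn))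
  rw [← h1] at hn'
  obtain ⟨w, hw, d, hd, e⟩ := mem_sup_comm (A := W) (B := N ⊓ centralizer (E : Set G))
    (fun a ha b hb => Nc a (hN ha) b hb.1) hn'
  exact ⟨w, hw, d, hd.1, fun x hx => mem_centralizer_iff.1 hd.2 x hx, e⟩

end Tw

theorem conj_mem_iff {g x : G} {A : Subgroup G} : x ∈ cj g A ↔ g⁻¹ * x * g ∈ A := mem_cj

variable {ι : Type} {S B Q M X L : Subgroup G} {V : ι → Subgroup G} {z : ι → G} {𝓦 : Set (Subgroup G)} {j : ι}
  {Y W F : Subgroup G}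

/-- `(W, F)` -/
theorem tw_self (c : Cx S B Q M X L V z) (h : TY S B Q M X V z 𝓦 j Y W F) : Tw Q X (V j) (VV V j) W F where
  WX := h.WX
  VW := h.VW
  FW := h.FW
  FV := h.F_VV c
  quad := h.quad
  free := h.free
  cardQ := h.cardQ
  cW := by
    have h1 := h.card_VF c
    have h2 := h.cW
    rw [h1, h2]; ring

/-- `(W^g, F^g)` -/
theorem tw_cj (c : Cx S B Q M X L V z) (h : TY S B Q M X V z 𝓦 j Y W F) {g : G} (hg : g ∈ M)
    (hgQ : g ∈ normalizer (Q : Set G)) (hgV : cj g (V j) = V j) : Tw Q X (V j) (VV V j) (cj g W) (cj g F) where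
  WX := by
    have h1 := cj_mono g h.WX
    rwa [cj_eq_of_mem_normalizer (c.MX hg)] at h1
  VW := by
    have h1 := cj_mono g h.VW
    rwa [hgV] at h1
  FW := cj_mono g h.FW
  FV := (cj_mono g (h.F_VV c)).trans (c.norm_VV hgQ hgV)
  quad := by
    intro q hq w hw
    have h1 := h.quad (g⁻¹ * q * g) (by
      have := conj_mem (inv_mem hgQ) hq
      rwa [inv_inv] at this) (g⁻¹ * w * g) (mem_cj.1 hw)
    have e : cj g (V j ⊔ F) = V j ⊔ cj g F := by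
      have : cj g (V j ⊔ F) = cj g (V j) ⊔ cj g F := Subgroup.map_sup _ _ _
      rw [this, hgV]
    rw [← e, mem_cj]
    have e2 : g⁻¹ * (q * w * q⁻¹ * w⁻¹) * g =
        g⁻¹ * q * g * (g⁻¹ * w * g) * (g⁻¹ * q * g)⁻¹ * (g⁻¹ * w * g)⁻¹ := by group
    rw [e2]; exact h1
  free := by
    intro q hq w hw hw2 h1 u hu
    have e : cj g (V j ⊔ F) = V j ⊔ cj g F := by
      have : cj g (V j ⊔ F) = cj g (V j) ⊔ cj g F := Subgroup.map_sup _ _ _
      rw [this, hgV]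
    have hq' : g⁻¹ * q * g ∈ Q := by
      have := conj_mem (inv_mem hgQ) hq
      rwa [inv_inv] at this
    have e2 : g⁻¹ * (q * w * q⁻¹ * w⁻¹) * g =
        g⁻¹ * q * g * (g⁻¹ * w * g) * (g⁻¹ * q * g)⁻¹ * (g⁻¹ * w * g)⁻¹ := by group
    have h2 := h.free (g⁻¹ * q * g) hq' (g⁻¹ * w * g) (mem_cj.1 hw)
      (fun hc => hw2 (by rw [← e, mem_cj]; exact hc)) (by rw [← e2]; exact mem_cj.1 h1) (g⁻¹ * u * g) (mem_cj.1 hu)
    have h3 : g * (g⁻¹ * q * g * (g⁻¹ * u * g)) * g⁻¹ = g * (g⁻¹ * u * g * (g⁻¹ * q * g)) * g⁻¹ := by rw [h2]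
    have e3 : g * (g⁻¹ * q * g * (g⁻¹ * u * g)) * g⁻¹ = q * u := by group
    have e4 : g * (g⁻¹ * u * g * (g⁻¹ * q * g)) * g⁻¹ = u * q := by group
    rwa [e3, e4] at h3
  cardQ := by
    have e : Q ⊓ centralizer ((cj g W : Subgroup G) : Set G) = cj g (Q ⊓ centralizer (W : Set G)) := by
      rw [cj_inf, cj_centralizer, cj_eq_of_mem_normalizer hgQ]
    rw [e, card_cj]; exact h.cardQ
  cW := by
    have e : cj g (V j ⊔ F) = V j ⊔ cj g F := by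
      have : cj g (V j ⊔ F) = cj g (V j) ⊔ cj g F := Subgroup.map_sup _ _ _
      rw [this, hgV]
    rw [← e, card_cj, card_cj]; exact (tw_self c h).cW

/-- the five lines -/
structure Ln (Vj W F Y : Subgroup G) (ℓ : Fin 5 → Subgroup G) (π : ↥Y →* Equiv.Perm (Fin 5)) : Prop where
  z0 : ℓ 0 = Vj ⊔ F
  lW : ∀ a, ℓ a ≤ W
  ld : ∀ a b, a ≠ b → ℓ a ⊓ ℓ b = F
  lc : ∀ (y : Y) a, cj (y : G) (ℓ a) = ℓ (π y a)
  A5 : alternatingGroup (Fin 5) ≤ π.range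
  ker : ∀ y : Y, π y = 1 → ∀ w ∈ W, (y : G) * w * (y : G)⁻¹ * w⁻¹ ∈ F

namespace Ln

variable {ℓ : Fin 5 → Subgroup G} {π : ↥Y →* Equiv.Perm (Fin 5)}

theorem tr (l : Ln (V j) W F Y ℓ π) (b : Fin 5) : ∃ y : Y, π y 0 = b := by
  have key : ∃ σ ∈ alternatingGroup (Fin 5), σ 0 = b := by
    fin_cases b
    · exact ⟨1, one_mem _, rfl⟩
    · exact ⟨Equiv.swap 0 1 * Equiv.swap 2 3, by rw [Equiv.Perm.mem_alternatingGroup]; decide, by decide⟩
    · exact ⟨Equiv.swap 0 2 * Equiv.swap 1 3, by rw [Equiv.Perm.mem_alternatingGroup]; decide, by decide⟩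
    · exact ⟨Equiv.swap 0 3 * Equiv.swap 1 2, by rw [Equiv.Perm.mem_alternatingGroup]; decide, by decide⟩
    · exact ⟨Equiv.swap 0 4 * Equiv.swap 1 2, by rw [Equiv.Perm.mem_alternatingGroup]; decide, by decide⟩
  obtain ⟨σ, hσ, h0⟩ := key
  obtain ⟨y, rfl⟩ := l.A5 hσ
  exact ⟨y, h0⟩

theorem Fl (l : Ln (V j) W F Y ℓ π) (a : Fin 5) : F ≤ ℓ a := by
  obtain ⟨b, hb⟩ : ∃ b : Fin 5, a ≠ b := by
    by_cases h : a = 0
    · exact ⟨1, by rw [h]; decide⟩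
    · exact ⟨0, h⟩
  rw [← l.ld a b hb]; exact inf_le_left

theorem ne (c : Cx S B Q M X L V z) (h : TY S B Q M X V z 𝓦 j Y W F) (l : Ln (V j) W F Y ℓ π) (a : Fin 5) : ℓ a ≠ F := by
  intro e
  obtain ⟨y, hy⟩ := l.tr a
  have h1 : Nat.card (ℓ a) = Nat.card ↥(V j ⊔ F) := by
    rw [← hy, ← l.lc y 0, card_cj, l.z0]
  rw [e, h.card_VF c] at h1
  have := cpos F
  omega

theorem inj (c : Cx S B Q M X L V z) (h : TY S B Q M X V z 𝓦 j Y W F) (l : Ln (V j) W F Y ℓ π) {a b : Fin 5}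
    (e : ℓ a = ℓ b) : a = b := by
  by_contra hne
  have h1 := l.ld a b hne
  rw [e, inf_idem] at h1
  exact l.ne c h b h1

/-- `B` fixes the line `V_j F` -/
theorem fix0 (c : Cx S B Q M X L V z) (h : TY S B Q M X V z 𝓦 j Y W F) (l : Ln (V j) W F Y ℓ π) {b : G} (hb : b ∈ B)
    (hbY : b ∈ Y) : π ⟨b, hbY⟩ 0 = 0 := by
  apply l.inj c h
  rw [← l.lc ⟨b, hbY⟩ 0, l.z0]
  have h1 : cj b F = F := cj_eq_of_mem_normalizer (by
    rw [mem_normalizer_iff_cj]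
    refine eq_of_le_of_card_ge ?_ (card_cj b F).ge
    rintro _ ⟨f, hf, rfl⟩
    have h2 := h.cF hbY hf
    simp only [MulEquiv.toMonoidHom_eq_coe, MonoidHom.coe_coe, MulAut.conj_apply]
    rw [h2, mul_inv_cancel_right]
    exact hf)
  have h2 : cj b (V j ⊔ F) = cj b (V j) ⊔ cj b F := Subgroup.map_sup _ _ _
  change cj b (V j ⊔ F) = V j ⊔ F
  rw [h2, c.BVj hb, h1]

/-- an element of `Q` which moves `W` moves all other lines -/
theorem mv (c : Cx S B Q M X L V z) (h : TY S B Q M X V z 𝓦 j Y W F) (l : Ln (V j) W F Y ℓ π) {q : G} (hq : q ∈ Q)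
    (hqY : q ∈ Y) (hn : ¬ ∀ u ∈ W, q * u = u * q) {b : Fin 5} (hb : b ≠ 0) : π ⟨q, hqY⟩ b ≠ b := by
  intro e
  apply hn
  have h1 : cj q (ℓ b) = ℓ b := by
    have := l.lc ⟨q, hqY⟩ b
    rw [e] at this; exact this
  obtain ⟨w, hw, hwF⟩ : ∃ w ∈ ℓ b, w ∉ F := by
    by_contra hc
    push Not at hc
    exact l.ne c h b (le_antisymm hc (l.Fl b))
  have h0 : w ∉ V j ⊔ F := fun h2 => hwF (by
    rw [← l.ld b 0 hb]
    exact ⟨hw, by rw [l.z0]; exact h2⟩)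
  refine h.free q hq w (l.lW b hw) h0 ?_
  rw [← l.ld b 0 hb]
  refine ⟨?_, by rw [l.z0]; exact h.quad q hq w (l.lW b hw)⟩
  have h3 := mem_cj' (g := q) hw
  rw [h1] at h3
  exact (ℓ b).mul_mem h3 ((ℓ b).inv_mem hw)

/-- an element which centralises `W` fixes all lines -/
theorem triv (c : Cx S B Q M X L V z) (h : TY S B Q M X V z 𝓦 j Y W F) (l : Ln (V j) W F Y ℓ π) {q : G}
    (hqY : q ∈ Y) (hn : ∀ u ∈ W, q * u = u * q) : π ⟨q, hqY⟩ = 1 :=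
  TY.ker_le l.lW l.Fl (l.ne c h) l.ld l.lc (y := ⟨q, hqY⟩) fun w hw => by
    have h1 : q * w * q⁻¹ * w⁻¹ = 1 := comm_iff.2 (hn w hw)
    change q * w * q⁻¹ * w⁻¹ ∈ F
    rw [h1]; exact one_mem _

end Ln

/-! ### The class of the minimal best offenders in `PI` -/

/-- `f_N(E) = |E / C_E(N)| |C_N(E)|` -/
noncomputable def fN (N E : Subgroup G) : ℕ :=
  (centralizer (N : Set G)).relIndex E * Nat.card ↥(N ⊓ centralizer (E : Set G))

theorem fN_def (N E : Subgroup G) : fN N E =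
    (centralizer (N : Set G)).relIndex E * Nat.card ↥(N ⊓ centralizer (E : Set G)) := rfl

/-- the class -/
structure Ac (PI N : Subgroup G) (m r : ℕ) (E : Subgroup G) : Prop where
  le : E ≤ PI
  mv : ¬ E ≤ centralizer (N : Set G)
  fm : fN N E = m
  rm : (centralizer (N : Set G)).relIndex E = r

theorem exists_Ac {PI N E : Subgroup G} (hE : E ≤ PI) (hn : ¬ E ≤ centralizer (N : Set G)) :
    ∃ m r : ℕ, fN N E ≤ m ∧ (∃ E₁, Ac PI N m r E₁) ∧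
      (∀ E', E' ≤ PI → ¬ E' ≤ centralizer (N : Set G) → fN N E' ≤ m) ∧
      ∀ E', E' ≤ PI → ¬ E' ≤ centralizer (N : Set G) → fN N E' = m → r ≤ (centralizer (N : Set G)).relIndex E' := by
  classical
  obtain ⟨E₁, hE₁, hmax⟩ := Set.exists_max_image {E : Subgroup G | E ≤ PI ∧ ¬ E ≤ centralizer (N : Set G)}
    (fun E => fN N E) (Set.toFinite _) ⟨E, hE, hn⟩
  obtain ⟨E₂, hE₂, hmin⟩ := Set.exists_min_image
    {E : Subgroup G | E ≤ PI ∧ ¬ E ≤ centralizer (N : Set G) ∧ fN N E = fN N E₁}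
    (fun E => (centralizer (N : Set G)).relIndex E) (Set.toFinite _) ⟨E₁, hE₁.1, hE₁.2, rfl⟩
  exact ⟨fN N E₁, _, hmax E ⟨hE, hn⟩, ⟨E₂, hE₂.1, hE₂.2.1, hE₂.2.2, rfl⟩, fun E' h1 h2 => hmax E' ⟨h1, h2⟩,
    fun E' h1 h2 h3 => hmin E' ⟨h1, h2, h3⟩⟩

theorem fN_cj {N E : Subgroup G} {y : G} (hy : y ∈ normalizer (N : Set G)) :
    (centralizer (N : Set G)).relIndex (cj y E) = (centralizer (N : Set G)).relIndex E ∧ fN N (cj y E) = fN N E := by
  have h1 : cj y (centralizer (N : Set G)) = centralizer (N : Set G) := by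
    rw [cj_centralizer, cj_eq_of_mem_normalizer hy]
  have h2 : (centralizer (N : Set G)).relIndex (cj y E) = (centralizer (N : Set G)).relIndex E := by
    conv_lhs => rw [← h1]
    exact NO3b.EZero.relIndex_cj y _ _
  have h3 : N ⊓ centralizer ((cj y E : Subgroup G) : Set G) = cj y (N ⊓ centralizer (E : Set G)) := by
    rw [cj_inf, cj_centralizer, cj_eq_of_mem_normalizer hy]
  exact ⟨h2, by rw [fN_def, fN_def, h2, h3, card_cj]⟩

theorem Ac.cj {PI N E : Subgroup G} {m r : ℕ} (h : Ac PI N m r E) {y : G} (hy : y ∈ normalizer (N : Set G))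
    (hyP : y ∈ normalizer (PI : Set G)) : Ac PI N m r (ChoiceBase.cj y E) where
  le := by
    have h1 := cj_mono y h.le
    rwa [cj_eq_of_mem_normalizer hyP] at h1
  mv := fun h1 => h.mv (by
    have h2 := cj_mono y⁻¹ h1
    rwa [cj_inv_cj, cj_centralizer, cj_eq_of_mem_normalizer (inv_mem hy)] at h2)
  fm := by rw [(fN_cj hy).2]; exact h.fm
  rm := by rw [(fN_cj hy).1]; exact h.rm

/-- a member of the class which moves the twin -/
theorem Ac.bound {Q X Vj VVj W F PI N E : Subgroup G} {m r : ℕ} (t : Tw Q X Vj VVj W F) (h : Ac PI N m r E)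
    (hN : W ≤ N) (Nc : ∀ x ∈ N, ∀ y ∈ N, x * y = y * x) (PQ : PI ≤ Q)
    (hmax : ∀ E', E' ≤ PI → ¬ E' ≤ centralizer (N : Set G) → fN N E' ≤ m)
    (hmin : ∀ E', E' ≤ PI → ¬ E' ≤ centralizer (N : Set G) → fN N E' = m →
      r ≤ (centralizer (N : Set G)).relIndex E') (hm : Nat.card N ≤ m) (hn : ¬ E ≤ centralizer (W : Set G)) :
    Nat.card N ≤ 4 * Nat.card ↥(N ⊓ centralizer (E : Set G)) := by
  have hEQ : E ≤ Q := h.le.trans PQ
  set E₂ : Subgroup G := E ⊓ centralizer (W : Set G) with hE₂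
  have hNW : centralizer (N : Set G) ≤ centralizer (W : Set G) := centralizer_le hN
  have hE4 : Nat.card E ≤ 4 * Nat.card E₂ := t.cardE hEQ
  have e0 : E₂ ⊓ centralizer (N : Set G) = E ⊓ centralizer (N : Set G) :=
    le_antisymm (inf_le_inf_right _ inf_le_left) (le_inf (le_inf inf_le_left (inf_le_right.trans hNW)) inf_le_right)
  have k1 := card_rel (centralizer (N : Set G)) E
  have k2 := card_rel (centralizer (N : Set G)) E₂
  rw [e0] at k2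
  set k := Nat.card ↥(E ⊓ centralizer (N : Set G)) with hk
  have hk0 : 0 < k := cpos _
  have hf : (centralizer (N : Set G)).relIndex E * Nat.card ↥(N ⊓ centralizer (E : Set G)) = m := h.fm
  by_cases h2 : E₂ ≤ centralizer (N : Set G)
  · have e1 : Nat.card E₂ = k := by
      rw [hk, ← e0, inf_eq_left.2 h2]
    have h3 : (centralizer (N : Set G)).relIndex E ≤ 4 := by
      refine Nat.le_of_mul_le_mul_right (c := k) ?_ hk0
      rw [k1, ← e1]; exact hE4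
    calc Nat.card N ≤ m := hm
      _ = _ := hf.symm
      _ ≤ _ := Nat.mul_le_mul_right _ h3
  · exfalso
    have h3 : (centralizer (N : Set G)).relIndex E ≤ 4 * (centralizer (N : Set G)).relIndex E₂ := by
      refine Nat.le_of_mul_le_mul_right (c := k) ?_ hk0
      rw [k1, mul_assoc, k2]; exact hE4
    have h4 := t.four hN Nc hEQ hn
    have hE₂P : E₂ ≤ PI := inf_le_left.trans h.le
    have h5 : m ≤ fN N E₂ := by
      rw [fN_def, ← hf]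
      calc (centralizer (N : Set G)).relIndex E * Nat.card ↥(N ⊓ centralizer (E : Set G))
          ≤ 4 * (centralizer (N : Set G)).relIndex E₂ * Nat.card ↥(N ⊓ centralizer (E : Set G)) :=
            Nat.mul_le_mul_right _ h3
        _ = (centralizer (N : Set G)).relIndex E₂ * (4 * Nat.card ↥(N ⊓ centralizer (E : Set G))) := by ring
        _ ≤ _ := Nat.mul_le_mul_left _ h4
    have h6 := hmin E₂ hE₂P h2 (le_antisymm (hmax E₂ hE₂P h2) h5)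
    rw [← h.rm] at h6
    have h7 : Nat.card E₂ < Nat.card E := by
      refine lt_of_le_of_ne (card_mono inf_le_left) fun e => hn ?_
      have h8 : E₂ = E := eq_of_le_of_card_ge inf_le_left e.ge
      rw [← h8]; exact inf_le_right
    have h8 : (centralizer (N : Set G)).relIndex E * k ≤ (centralizer (N : Set G)).relIndex E₂ * k :=
      Nat.mul_le_mul_right _ h6
    rw [k1, k2] at h8
    omega

/-! ### The claim -/

/-- the situation: `N = ⟨W₂^Y⟩`, `A` the cut of some `W_F` -/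
structure Da (S B Q M X L : Subgroup G) (V : ι → Subgroup G) (z : ι → G) (𝓦 : Set (Subgroup G)) (j : ι)
    (Y W F W₂ F₂ N A : Subgroup G) (ℓ : Fin 5 → Subgroup G) (π : ↥Y →* Equiv.Perm (Fin 5)) : Prop where
  c : Cx S B Q M X L V z
  h : TY S B Q M X V z 𝓦 j Y W F
  l : Ln (V j) W F Y ℓ π
  t : Tw Q X (V j) (VV V j) W₂ F₂
  nPI : Y ≤ normalizer ((Q ⊓ o2 Y : Subgroup G) : Set G)
  nVV : Y ≤ normalizer ((VV V j : Subgroup G) : Set G)
  NX : N ≤ X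
  YN : Y ≤ normalizer (N : Set G)
  WN : W ≤ N
  W₂N : W₂ ≤ N
  gen : ∀ U : Subgroup G, W₂ ≤ U → Y ≤ normalizer (U : Set G) → N ≤ U
  AQ : A ≤ Q
  mvA : ¬ A ≤ centralizer (W : Set G)
  best : ∀ A' ≤ A, Nat.card A' * Nat.card ↥(N ⊓ centralizer (A' : Set G)) ≤
    Nat.card A * Nat.card ↥(N ⊓ centralizer (A : Set G))
  quad : ∀ x ∈ N, ∀ a ∈ A, ∀ b ∈ A, b * (a * x * a⁻¹ * x⁻¹) = (a * x * a⁻¹ * x⁻¹) * b

namespace Da

variable {W₂ F₂ N A : Subgroup G} {ℓ : Fin 5 → Subgroup G} {π : ↥Y →* Equiv.Perm (Fin 5)}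
  (d : Da S B Q M X L V z 𝓦 j Y W F W₂ F₂ N A ℓ π)
include d

theorem Nc : ∀ x ∈ N, ∀ y ∈ N, x * y = y * x := fun _ hx _ hy => d.c.xc (d.NX hx) (d.NX hy)

theorem tS : Tw Q X (V j) (VV V j) W F := tw_self d.c d.h

theorem QY : Q ≤ Y := d.h.QY d.c

theorem AY : A ≤ Y := d.AQ.trans d.QY

theorem card4 : 4 * Nat.card ↥(A ⊓ centralizer (W : Set G)) ≤ Nat.card A := by
  have h1 := d.best (A ⊓ centralizer (W : Set G)) inf_le_left
  have h2 := d.tS.four d.WN d.Nc d.AQ d.mvA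
  refine Nat.le_of_mul_le_mul_right (c := Nat.card ↥(N ⊓ centralizer (A : Set G))) ?_ (cpos _)
  calc 4 * Nat.card ↥(A ⊓ centralizer (W : Set G)) * Nat.card ↥(N ⊓ centralizer (A : Set G))
      = Nat.card ↥(A ⊓ centralizer (W : Set G)) * (4 * Nat.card ↥(N ⊓ centralizer (A : Set G))) := by ring
    _ ≤ _ := Nat.mul_le_mul_left _ h2
    _ ≤ _ := h1

theorem mem_cW {x : G} : x ∈ centralizer (W : Set G) ↔ ∀ u ∈ W, x * u = u * x := by
  rw [mem_centralizer_iff]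
  exact ⟨fun h u hu => (h u hu).symm, fun h u hu => (h u hu).symm⟩

theorem exists_ab : ∃ a ∈ A, ∃ b ∈ A, a ∉ centralizer (W : Set G) ∧ b ∉ centralizer (W : Set G) ∧
    b * a ∉ centralizer (W : Set G) := by
  obtain ⟨b, hb, hbW⟩ : ∃ b ∈ A, b ∉ centralizer (W : Set G) := by
    by_contra hc
    push Not at hc
    exact d.mvA hc
  by_contra hc
  push Not at hc
  have h1 : ∀ a ∈ A, a ∉ centralizer (W : Set G) → b * a ∈ centralizer (W : Set G) := fun a ha h2 => hc a ha b hb h2 hbW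
  have h2 : (A : Set G) ⊆ ((A ⊓ centralizer (W : Set G) : Subgroup G) : Set G) ∪
      (fun x => b⁻¹ * x) '' ((A ⊓ centralizer (W : Set G) : Subgroup G) : Set G) := by
    intro a ha
    by_cases h3 : a ∈ centralizer (W : Set G)
    · exact Or.inl ⟨ha, h3⟩
    · exact Or.inr ⟨b * a, ⟨mul_mem hb ha, h1 a ha h3⟩, by group⟩
  have h3 := Set.ncard_le_ncard h2 (Set.toFinite _)
  have h4 := Set.ncard_union_le ((A ⊓ centralizer (W : Set G) : Subgroup G) : Set G)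
    ((fun x => b⁻¹ * x) '' ((A ⊓ centralizer (W : Set G) : Subgroup G) : Set G))
  have h5 := Set.ncard_image_le (f := fun x => b⁻¹ * x)
    (Set.toFinite ((A ⊓ centralizer (W : Set G) : Subgroup G) : Set G))
  have h6 : Nat.card A = Set.ncard (A : Set G) := rfl
  have h7 : Nat.card ↥(A ⊓ centralizer (W : Set G)) = Set.ncard ((A ⊓ centralizer (W : Set G) : Subgroup G) : Set G) := rfl
  have h8 := d.card4
  have h9 := cpos (A ⊓ centralizer (W : Set G))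
  rw [h6, h7] at h8
  rw [h7] at h9
  omega

theorem mvl {q : G} (hq : q ∈ Q) (hn : q ∉ centralizer (W : Set G)) {b : Fin 5} (hb : b ≠ 0) :
    π ⟨q, d.QY hq⟩ b ≠ b := d.l.mv d.c d.h hq (d.QY hq) (fun hc => hn (d.mem_cW.2 hc)) hb

theorem cardN : Nat.card N ≤ fN N (A ⊓ centralizer (W : Set G)) := by
  set A₂ : Subgroup G := A ⊓ centralizer (W : Set G) with hA₂
  have hNW : centralizer (N : Set G) ≤ centralizer (W : Set G) := centralizer_le d.WN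
  have e0 : A₂ ⊓ centralizer (N : Set G) = A ⊓ centralizer (N : Set G) :=
    le_antisymm (inf_le_inf_right _ inf_le_left) (le_inf (le_inf inf_le_left (inf_le_right.trans hNW)) inf_le_right)
  have k2 := card_rel (centralizer (N : Set G)) A₂
  rw [e0] at k2
  have h1 := d.best (A ⊓ centralizer (N : Set G)) inf_le_left
  have e1 : N ⊓ centralizer ((A ⊓ centralizer (N : Set G) : Subgroup G) : Set G) = N := by
    rw [inf_eq_left, le_centralizer_iff]; exact inf_le_right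
  rw [e1] at h1
  set k := Nat.card ↥(A ⊓ centralizer (N : Set G)) with hk
  have h2 := d.tS.four d.WN d.Nc d.AQ d.mvA
  have h3 := d.tS.cardE d.AQ
  refine Nat.le_of_mul_le_mul_left (c := k) ?_ (cpos _)
  rw [fN_def]
  calc k * Nat.card N ≤ Nat.card A * Nat.card ↥(N ⊓ centralizer (A : Set G)) := h1
    _ ≤ 4 * Nat.card A₂ * Nat.card ↥(N ⊓ centralizer (A : Set G)) := Nat.mul_le_mul_right _ h3
    _ = Nat.card A₂ * (4 * Nat.card ↥(N ⊓ centralizer (A : Set G))) := by ring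
    _ ≤ Nat.card A₂ * Nat.card ↥(N ⊓ centralizer (A₂ : Set G)) := Nat.mul_le_mul_left _ h2
    _ = k * ((centralizer (N : Set G)).relIndex A₂ * Nat.card ↥(N ⊓ centralizer (A₂ : Set G))) := by
        rw [← k2]; ring

theorem A₂P : A ⊓ centralizer (W : Set G) ≤ Q ⊓ o2 Y := by
  rw [d.h.PIW d.c]; exact inf_le_inf_right _ d.AQ

/-- **The claim.** -/
theorem claim : A ⊓ centralizer (W : Set G) ≤ centralizer (N : Set G) := by
  by_contra hn
  obtain ⟨m, r, hm1, ⟨E₀, hE₀⟩, hmax, hmin⟩ := exists_Ac d.A₂P hn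
  have hm : Nat.card N ≤ m := d.cardN.trans hm1
  have hcj : ∀ {E : Subgroup G}, Ac (Q ⊓ o2 Y) N m r E → ∀ y ∈ Y, Ac (Q ⊓ o2 Y) N m r (cj y E) :=
    fun hE y hy => hE.cj (d.YN hy) (d.nPI hy)
  obtain ⟨E, hE, hEm⟩ : ∃ E, Ac (Q ⊓ o2 Y) N m r E ∧ ¬ E ≤ centralizer (W₂ : Set G) := by
    by_contra hc
    push Not at hc
    apply hE₀.mv
    have h1 : N ≤ centralizer ((cl E₀ Y : Subgroup G) : Set G) := by
      refine d.gen _ ?_ ?_
      · rw [le_centralizer_iff]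
        exact cl_le fun y hy => hc _ (hcj hE₀ y hy)
      · intro y hy
        rw [mem_normalizer_iff_cj, cj_centralizer, cj_eq_of_mem_normalizer (le_normalizer_cl E₀ Y hy)]
    rw [le_centralizer_iff] at h1
    exact (le_cl E₀ Y).trans h1
  -- (p1)
  have p1 : ∀ {E' : Subgroup G}, Ac (Q ⊓ o2 Y) N m r E' → ¬ E' ≤ centralizer (W₂ : Set G) → ∀ e ∈ E', ∀ n ∈ N,
      e * n * e⁻¹ * n⁻¹ ∈ V j ⊔ F₂ := by
    intro E' hE' hm' e he n hn'
    have hEQ : E' ≤ Q := hE'.le.trans inf_le_left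
    have h1 := hE'.bound d.t d.W₂N d.Nc inf_le_left hmax hmin hm hm'
    obtain ⟨w, hw, x, hx, hxe, rfl⟩ := d.t.sup_eq d.W₂N d.Nc hEQ hm' h1 hn'
    have h2 := d.t.quad e (hEQ he) w hw
    have h3 : e * x * e⁻¹ = x := by rw [hxe e he, mul_inv_cancel_right]
    have h4 : e * (w * x) * e⁻¹ * (w * x)⁻¹ = e * w * e⁻¹ * (e * x * e⁻¹) * x⁻¹ * w⁻¹ := by group
    rw [h4, h3, mul_inv_cancel_right]
    exact h2
  -- (p2)
  obtain ⟨e, he, heW⟩ : ∃ e ∈ E, e ∉ centralizer (W₂ : Set G) := by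
    by_contra hc
    push Not at hc
    exact hEm hc
  have heW' : ¬ ∀ u ∈ W₂, e * u = u * e := fun hc => heW (mem_centralizer_iff.2 fun u hu => (hc u hu).symm)
  have heQ : e ∈ Q := (hE.le he).1
  -- (p3)
  have p3 : ∀ y : Y, ¬ cj (y : G) E ≤ centralizer (W₂ : Set G) → π y 0 = 0 := by
    intro y hy
    by_contra hne
    obtain ⟨w₁, hw₁, hw₁'⟩ := d.t.exists_out
    have hu := d.t.quad e heQ w₁ hw₁
    have huF := d.t.comm_nf heQ hw₁ hw₁' heW'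
    obtain ⟨v, hv, f₂, hf₂, hvf⟩ := mem_sup_comm (fun a ha b hb => d.c.xc (d.c.VX j ha) (d.c.VV_X j (d.t.FV hb))) hu
    have h1 := p1 (hcj hE y y.2) hy ((y : G) * e * (y : G)⁻¹) (mem_cj' he) ((y : G) * w₁ * (y : G)⁻¹)
      (conj_mem (d.YN y.2) (d.W₂N hw₁))
    have h2 : (y : G) * e * (y : G)⁻¹ * ((y : G) * w₁ * (y : G)⁻¹) * ((y : G) * e * (y : G)⁻¹)⁻¹ *
        ((y : G) * w₁ * (y : G)⁻¹)⁻¹ = (y : G) * v * (y : G)⁻¹ * ((y : G) * f₂ * (y : G)⁻¹) := by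
      calc _ = (y : G) * (e * w₁ * e⁻¹ * w₁⁻¹) * (y : G)⁻¹ := by group
        _ = _ := by rw [hvf]; group
    rw [h2] at h1
    have hf2L : (y : G) * f₂ * (y : G)⁻¹ ∈ L := d.c.VV_L j (conj_mem (d.nVV y.2) (d.t.FV hf₂))
    have h3 : (y : G) * v * (y : G)⁻¹ ∈ L := by
      have h4 : V j ⊔ F₂ ≤ L := sup_le (d.c.VL j) (d.t.FV.trans (d.c.VV_L j))
      have h5 := L.mul_mem (h4 h1) (L.inv_mem hf2L)
      rwa [mul_inv_cancel_right] at h5
    have h4 : (y : G) * v * (y : G)⁻¹ ∈ W := conj_mem (d.h.YW y.2) (d.h.VW hv)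
    have h5 : (y : G) * v * (y : G)⁻¹ ∈ ℓ 0 := by rw [d.l.z0, ← d.h.WL d.c]; exact ⟨h4, h3⟩
    have h6 : (y : G) * v * (y : G)⁻¹ ∈ ℓ (π y 0) := by
      rw [← d.l.lc y 0, d.l.z0]
      exact mem_cj' ((le_sup_left : V j ≤ V j ⊔ F) hv)
    have h7 : (y : G) * v * (y : G)⁻¹ ∈ F := by
      rw [← d.l.ld (π y 0) 0 hne]; exact ⟨h6, h5⟩
    have h8 := d.h.cF y.2 h7
    have h9 : v ∈ F := by
      have e1 : (y : G) * v * (y : G)⁻¹ = v := by
        have : (y : G) * ((y : G) * v * (y : G)⁻¹) * (y : G)⁻¹ = (y : G) * v * (y : G)⁻¹ := by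
          rw [h8]; group
        have h10 : (y : G)⁻¹ * ((y : G) * ((y : G) * v * (y : G)⁻¹) * (y : G)⁻¹) * (y : G) =
            (y : G)⁻¹ * ((y : G) * v * (y : G)⁻¹) * (y : G) := by rw [this]
        have e2 : (y : G)⁻¹ * ((y : G) * ((y : G) * v * (y : G)⁻¹) * (y : G)⁻¹) * (y : G) = (y : G) * v * (y : G)⁻¹ := by
          group
        have e3 : (y : G)⁻¹ * ((y : G) * v * (y : G)⁻¹) * (y : G) = v := by group
        rwa [e2, e3] at h10
      rwa [e1] at h7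
    have h10 : v ∈ V j ⊓ F := ⟨hv, h9⟩
    rw [d.h.VjF_bot d.c, mem_bot] at h10
    apply huF
    rw [hvf, h10, one_mul]; exact hf₂
  -- (p4)
  obtain ⟨w₁, hw₁, hne⟩ : ∃ w₁ ∈ W₂, e * w₁ ≠ w₁ * e := by
    by_contra hc
    push Not at hc
    exact heW' hc
  obtain ⟨y, hy⟩ := d.l.tr 1
  have p4 : ∀ t : Y, π t 1 ≠ 1 → Commute ((y : G) * e * (y : G)⁻¹) ((t : G) * ((y : G) * w₁ * (y : G)⁻¹) * (t : G)⁻¹) := by
    intro t ht
    have h1 : cj (((t * y)⁻¹ * y : Y) : G) E ≤ centralizer (W₂ : Set G) := by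
      by_contra hc
      have h2 := p3 ((t * y)⁻¹ * y) hc
      apply ht
      rw [map_mul, map_inv, Equiv.Perm.mul_apply, hy, Equiv.Perm.inv_eq_iff_eq, map_mul, Equiv.Perm.mul_apply, hy] at h2
      exact h2.symm
    have h2 := mem_centralizer_iff.1 (h1 (mem_cj' he)) w₁ hw₁
    have e1 : ((((t * y)⁻¹ * y : Y) : G)) = ((t : G) * (y : G))⁻¹ * (y : G) := rfl
    rw [e1] at h2
    change (y : G) * e * (y : G)⁻¹ * ((t : G) * ((y : G) * w₁ * (y : G)⁻¹) * (t : G)⁻¹) =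
      (t : G) * ((y : G) * w₁ * (y : G)⁻¹) * (t : G)⁻¹ * ((y : G) * e * (y : G)⁻¹)
    calc (y : G) * e * (y : G)⁻¹ * ((t : G) * ((y : G) * w₁ * (y : G)⁻¹) * (t : G)⁻¹)
        = (t : G) * (y : G) * ((((t : G) * (y : G))⁻¹ * (y : G) * e * (((t : G) * (y : G))⁻¹ * (y : G))⁻¹) * w₁) *
          ((t : G) * (y : G))⁻¹ := by group
      _ = (t : G) * (y : G) * (w₁ * (((t : G) * (y : G))⁻¹ * (y : G) * e * (((t : G) * (y : G))⁻¹ * (y : G))⁻¹)) *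
          ((t : G) * (y : G))⁻¹ := by rw [h2]
      _ = _ := by group
  obtain ⟨a, ha, b, hb, haW, hbW, hbaW⟩ := d.exists_ab
  have q1 := p4 ⟨a, d.AY ha⟩ (d.mvl (d.AQ ha) haW (by decide))
  have q2 := p4 ⟨b, d.AY hb⟩ (d.mvl (d.AQ hb) hbW (by decide))
  have q3 := p4 ⟨b * a, d.AY (mul_mem hb ha)⟩ (d.mvl (d.AQ (mul_mem hb ha)) hbaW (by decide))
  simp only at q1 q2 q3
  set n : G := (y : G) * w₁ * (y : G)⁻¹ with hn_def
  have hnN : n ∈ N := conj_mem (d.YN y.2) (d.W₂N hw₁)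
  have q4 := d.quad n hnN a ha b hb
  have q5 : n⁻¹ = (a * n * a⁻¹)⁻¹ * ((b * a) * n * (b * a)⁻¹) * (b * n * b⁻¹)⁻¹ := by
    have e1 : (b * a) * n * (b * a)⁻¹ * (b * n * b⁻¹)⁻¹ = b * (a * n * a⁻¹ * n⁻¹) * b⁻¹ := by group
    have e2 : b * (a * n * a⁻¹ * n⁻¹) * b⁻¹ = a * n * a⁻¹ * n⁻¹ := by rw [q4, mul_inv_cancel_right]
    rw [mul_assoc, e1, e2]; group
  have q6 : Commute ((y : G) * e * (y : G)⁻¹) n⁻¹ := by
    rw [q5]
    exact (q1.inv_right.mul_right q3).mul_right q2.inv_right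
  have q7 : Commute ((y : G) * e * (y : G)⁻¹) n := by
    have := q6.inv_right
    rwa [inv_inv] at this
  apply hne
  have q8 : (y : G)⁻¹ * ((y : G) * e * (y : G)⁻¹ * ((y : G) * w₁ * (y : G)⁻¹)) * (y : G) =
      (y : G)⁻¹ * ((y : G) * w₁ * (y : G)⁻¹ * ((y : G) * e * (y : G)⁻¹)) * (y : G) := by
    rw [show (y : G) * e * (y : G)⁻¹ * ((y : G) * w₁ * (y : G)⁻¹) = (y : G) * w₁ * (y : G)⁻¹ * ((y : G) * e * (y : G)⁻¹)
      from q7]
  have e3 : (y : G)⁻¹ * ((y : G) * e * (y : G)⁻¹ * ((y : G) * w₁ * (y : G)⁻¹)) * (y : G) = e * w₁ := by group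
  have e4 : (y : G)⁻¹ * ((y : G) * w₁ * (y : G)⁻¹ * ((y : G) * e * (y : G)⁻¹)) * (y : G) = w₁ * e := by group
  rwa [e3, e4] at q8

theorem cardN4 : Nat.card N ≤ 4 * Nat.card ↥(N ⊓ centralizer (A : Set G)) := by
  have h1 := d.best (A ⊓ centralizer (W : Set G)) inf_le_left
  have e1 : N ⊓ centralizer ((A ⊓ centralizer (W : Set G) : Subgroup G) : Set G) = N := by
    rw [inf_eq_left, le_centralizer_iff]; exact d.claim
  rw [e1] at h1
  have h3 := d.tS.cardE d.AQ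
  refine Nat.le_of_mul_le_mul_left (c := Nat.card ↥(A ⊓ centralizer (W : Set G))) ?_ (cpos _)
  calc _ ≤ Nat.card A * Nat.card ↥(N ⊓ centralizer (A : Set G)) := h1
    _ ≤ 4 * Nat.card ↥(A ⊓ centralizer (W : Set G)) * Nat.card ↥(N ⊓ centralizer (A : Set G)) :=
        Nat.mul_le_mul_right _ h3
    _ = _ := by ring

/-- `N = W C_N(A)` -/
theorem split {n : G} (hn : n ∈ N) : ∃ w ∈ W, ∃ x ∈ N, (∀ a ∈ A, a * x = x * a) ∧ n = w * x :=
  d.tS.sup_eq d.WN d.Nc d.AQ d.mvA d.cardN4 hn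

theorem comm_A {a n : G} (ha : a ∈ A) (hn : n ∈ N) : a * n * a⁻¹ * n⁻¹ ∈ W := by
  obtain ⟨w, hw, x, hx, hxa, rfl⟩ := d.split hn
  have h3 : a * x * a⁻¹ = x := by rw [hxa a ha, mul_inv_cancel_right]
  have h4 : a * (w * x) * a⁻¹ * (w * x)⁻¹ = a * w * a⁻¹ * (a * x * a⁻¹) * x⁻¹ * w⁻¹ := by group
  rw [h4, h3, mul_inv_cancel_right]
  exact d.h.VF_W (d.h.quad a (d.AQ ha) w hw)

theorem K_le : cl A Y ≤ Y := cl_le fun y hy => by
  have h1 := cj_mono y d.AY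
  rwa [cj_eq_of_mem_normalizer (le_normalizer hy)] at h1

theorem K_cq : cl A Y ≤ cq N W := cl_le fun y hy => by
  rintro _ ⟨a, ha, rfl⟩
  have haY := d.AY ha
  simp only [MulEquiv.toMonoidHom_eq_coe, MonoidHom.coe_coe, MulAut.conj_apply]
  have h1 : y * a * y⁻¹ ∈ Y := Y.mul_mem (Y.mul_mem hy haY) (Y.inv_mem hy)
  refine ⟨d.YN h1, d.h.YW h1, fun x hx => ?_⟩
  have h2 : y⁻¹ * x * y ∈ N := by
    have := conj_mem (inv_mem (d.YN hy)) hx
    rwa [inv_inv] at this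
  have h3 := conj_mem (d.h.YW hy) (d.comm_A ha h2)
  have e : y * a * y⁻¹ * x * (y * a * y⁻¹)⁻¹ * x⁻¹ = y * (a * (y⁻¹ * x * y) * a⁻¹ * (y⁻¹ * x * y)⁻¹) * y⁻¹ := by group
  rw [e]; exact h3

/-- `[N, K] ≤ W` -/
theorem comm_K {k n : G} (hk : k ∈ cl A Y) (hn : n ∈ N) : k * n * k⁻¹ * n⁻¹ ∈ W := (d.K_cq hk).2.2 n hn

theorem K_VV {k x : G} (hk : k ∈ cl A Y) (hx : x ∈ VV V j) : k * x = x * k := by
  have h1 : cl A Y ≤ centralizer ((VV V j : Subgroup G) : Set G) := cl_le fun y hy => by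
    have h2 : A ≤ centralizer ((VV V j : Subgroup G) : Set G) := fun a ha =>
      mem_centralizer_iff.2 fun v hv => (d.c.cQL a (d.AQ ha) v (d.c.VV_L j hv)).symm
    have h3 := cj_mono y h2
    rwa [cj_centralizer, cj_eq_of_mem_normalizer (d.nVV hy)] at h3
  exact (mem_centralizer_iff.1 (h1 hk) x hx).symm

/-- `K ∩ O₂(Y) ≤ Q` -/
theorem K0_Q {k : G} (hk : k ∈ cl A Y) (hk2 : k ∈ o2 Y) : k ∈ Q := by
  refine d.c.cSL k (d.c.BS (d.h.o2B d.c hk2)) fun x hx => ?_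
  obtain ⟨v, hv, v', hv', rfl⟩ := d.c.split j hx
  have h1 : k * v = v * k := (mem_centralizer_iff.1 (d.h.o2_cW d.c hk2) v (d.h.VW hv)).symm
  have h2 := d.K_VV hk hv'
  rw [← mul_assoc, h1, mul_assoc, h2, mul_assoc]

/-- some element of `K` moves the line `V_j F` -/
theorem exists_k : ∃ k : Y, (k : G) ∈ cl A Y ∧ π k 0 ≠ 0 := by
  obtain ⟨a, ha, -, -, haW, -, -⟩ := d.exists_ab
  obtain ⟨y, hy⟩ := d.l.tr 1
  refine ⟨y * ⟨a, d.AY ha⟩ * y⁻¹, cj_le_cl y.2 (mem_cj' ha), fun h1 => ?_⟩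
  have h2 := d.mvl (d.AQ ha) haW (b := (π y)⁻¹ 0) (fun h3 => by
    rw [Equiv.Perm.inv_eq_iff_eq, hy] at h3
    exact absurd h3 (by decide))
  apply h2
  rw [map_mul, map_mul, map_inv, Equiv.Perm.mul_apply, Equiv.Perm.mul_apply] at h1
  rw [Equiv.Perm.eq_inv_iff_eq]
  exact h1

/-- an element of `V_j F` all whose `K`-conjugates lie in `V_j F` is in `F` -/
theorem mem_F {u : G} (hu : u ∈ V j ⊔ F) (hk : ∀ k ∈ cl A Y, k * u * k⁻¹ ∈ V j ⊔ F) : u ∈ F := by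
  obtain ⟨k, hkK, hk0⟩ := d.exists_k
  have h1 : (k : G) * u * (k : G)⁻¹ ∈ ℓ (π k 0) := by
    rw [← d.l.lc k 0, d.l.z0]; exact mem_cj' hu
  have h2 : (k : G) * u * (k : G)⁻¹ ∈ F := by
    rw [← d.l.ld (π k 0) 0 hk0]
    exact ⟨h1, by rw [d.l.z0]; exact hk k hkK⟩
  have h3 := d.h.cF (inv_mem k.2) h2
  have h4 : (k : G)⁻¹ * ((k : G) * u * (k : G)⁻¹) * (k : G) = u := by group
  rw [← h4, h3, inv_mul_cancel_right]
  exact h2

/-- `K ∩ O₂(Y)` centralises `W₂` -/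
theorem K0_W2 {x : G} (hx : x ∈ cl A Y) (hx2 : x ∈ o2 Y) : ∀ u ∈ W₂, x * u = u * x := by
  have key : ∀ w ∈ W₂, x * w * x⁻¹ * w⁻¹ ∈ F₂ := by
    intro w hw
    have hxQ := d.K0_Q hx hx2
    have hWL : ∀ x' ∈ cl A Y, x' ∈ o2 Y → x' * w * x'⁻¹ * w⁻¹ ∈ V j ⊔ F := by
      intro x' hx' hx2'
      have h1 := d.t.quad x' (d.K0_Q hx' hx2') w hw
      have h2 : V j ⊔ F₂ ≤ L := sup_le (d.c.VL j) (d.t.FV.trans (d.c.VV_L j))
      rw [← d.h.WL d.c]
      exact ⟨d.comm_K hx' (d.W₂N hw), h2 h1⟩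
    have h1 : x * w * x⁻¹ * w⁻¹ ∈ F := by
      refine d.mem_F (hWL x hx hx2) fun k hk => ?_
      have hkY := d.K_le hk
      have h2 : k * x * k⁻¹ ∈ cl A Y := mul_mem (mul_mem hk hx) (inv_mem hk)
      have h3 : k * x * k⁻¹ ∈ o2 Y := conj_mem (ChoiceSit.le_normalizer_o2 Y hkY) hx2
      have h4 := hWL _ h2 h3
      have h5 : k * w * k⁻¹ * w⁻¹ ∈ W := d.comm_K hk (d.W₂N hw)
      have h6 : k * x * k⁻¹ * (k * w * k⁻¹ * w⁻¹) = k * w * k⁻¹ * w⁻¹ * (k * x * k⁻¹) :=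
        (mem_centralizer_iff.1 (d.h.o2_cW d.c h3) _ h5).symm
      have e1 : k * (x * w * x⁻¹ * w⁻¹) * k⁻¹ =
          (k * x * k⁻¹ * (k * w * k⁻¹ * w⁻¹) * (k * x * k⁻¹)⁻¹) * ((k * x * k⁻¹) * w * (k * x * k⁻¹)⁻¹ * w⁻¹) *
            (k * w * k⁻¹ * w⁻¹)⁻¹ := by group
      have h7 : k * w * k⁻¹ * w⁻¹ ∈ X := d.h.WX h5
      have h8 : (k * x * k⁻¹) * w * (k * x * k⁻¹)⁻¹ * w⁻¹ ∈ X := d.h.WX (d.h.VF_W h4)
      rw [e1, h6, mul_inv_cancel_right, d.c.xc h7 h8, mul_inv_cancel_right]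
      exact h4
    obtain ⟨v, hv, f, hf, hvf⟩ := mem_sup_comm (fun a ha b hb => d.c.xc (d.c.VX j ha) (d.c.VV_X j (d.t.FV hb)))
      (d.t.quad x hxQ w hw)
    have h2 : v ∈ VV V j := by
      have h3 := (VV V j).mul_mem (d.h.F_VV d.c h1) ((VV V j).inv_mem (d.t.FV hf))
      rwa [hvf, mul_inv_cancel_right] at h3
    have h3 : v ∈ V j ⊓ VV V j := ⟨hv, h2⟩
    rw [d.c.ind j, mem_bot] at h3
    rw [hvf, h3, one_mul]; exact hf
  obtain ⟨w₁, hw₁, hw₁'⟩ := d.t.exists_out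
  exact d.t.free x (d.K0_Q hx hx2) w₁ hw₁ hw₁' (key w₁ hw₁)

omit d in
theorem sign_inv : ∀ σ : Equiv.Perm (Fin 5), σ * σ = 1 → σ 0 = 0 → (∀ b, b ≠ 0 → σ b ≠ b) → Equiv.Perm.sign σ = 1 := by
  decide +kernel

omit d in
theorem cube : ∀ σ : Equiv.Perm (Fin 5), Equiv.Perm.sign σ = 1 → σ 0 = 0 → σ 1 = 1 → σ ^ 3 = 1 := by
  decide +kernel

omit d in
theorem pig : ∀ p a b c : Fin 5, p ≠ 0 → a ≠ 0 → b ≠ 0 → c ≠ 0 → a ≠ 1 → b ≠ 1 → c ≠ 1 → a ≠ b → a ≠ c → b ≠ c →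
    p = 1 ∨ p = a ∨ p = b ∨ p = c := by decide +kernel

/-- `a²` centralises `W` -/
theorem sq_cW {a : G} (ha : a ∈ A) : a * a ∈ centralizer (W : Set G) := by
  rw [d.mem_cW]
  intro w hw
  have h1 := d.h.quad a (d.AQ ha) w hw
  have h2 : a * w * a⁻¹ * w⁻¹ ∈ L := d.h.VF_L d.c h1
  have h3 := d.c.cQL a (d.AQ ha) _ h2
  have h4 := d.c.Xs _ (d.c.LX h2)
  set u := a * w * a⁻¹ * w⁻¹ with hu
  have h5 : a * w * a⁻¹ = u * w := by rw [hu]; group
  have h6 : a * a * w * (a * a)⁻¹ = w := by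
    calc a * a * w * (a * a)⁻¹ = a * (a * w * a⁻¹) * a⁻¹ := by group
      _ = a * (u * w) * a⁻¹ := by rw [h5]
      _ = a * u * a⁻¹ * (a * w * a⁻¹) := by group
      _ = u * (u * w) := by rw [h3, mul_inv_cancel_right, h5]
      _ = w := by rw [← mul_assoc, h4, one_mul]
  exact mul_inv_eq_iff_eq_mul.1 h6

theorem sign_A {a : G} (ha : a ∈ A) : Equiv.Perm.sign (π ⟨a, d.AY ha⟩) = 1 := by
  by_cases h1 : a ∈ centralizer (W : Set G)
  · rw [d.l.triv d.c d.h (d.AY ha) (d.mem_cW.1 h1), map_one]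
  · refine sign_inv _ ?_ (d.l.fix0 d.c d.h (d.c.QB (d.AQ ha)) (d.AY ha)) fun b hb => d.mvl (d.AQ ha) h1 hb
    have h2 := d.l.triv d.c d.h (d.AY (mul_mem ha ha)) (d.mem_cW.1 (d.sq_cW ha))
    rw [← map_mul]; exact h2

theorem sign_K {k : G} (hk : k ∈ cl A Y) (hkY : k ∈ Y) : Equiv.Perm.sign (π ⟨k, hkY⟩) = 1 := by
  have h1 : cl A Y ≤ ((alternatingGroup (Fin 5)).comap π).map Y.subtype := cl_le fun y hy => by
    rintro _ ⟨a, ha, rfl⟩
    simp only [MulEquiv.toMonoidHom_eq_coe, MonoidHom.coe_coe, MulAut.conj_apply]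
    refine ⟨⟨y, hy⟩ * ⟨a, d.AY ha⟩ * ⟨y, hy⟩⁻¹, ?_, rfl⟩
    change π _ ∈ alternatingGroup (Fin 5)
    rw [Equiv.Perm.mem_alternatingGroup, map_mul, map_mul, map_inv, map_mul, map_mul, map_inv, d.sign_A ha, mul_one,
      mul_inv_cancel]
  obtain ⟨y, hy, he⟩ := h1 hk
  have e : y = ⟨k, hkY⟩ := Subtype.ext he
  rw [← e]
  exact Equiv.Perm.mem_alternatingGroup.1 hy

/-- `A` is transitive on the four lines `≠ V_j F` -/
theorem exists_a {x : G} (hxB : x ∈ B) (hxY : x ∈ Y) :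
    ∃ (a : G) (ha : a ∈ A), π ⟨x, hxY⟩ 1 = π ⟨a, d.AY ha⟩ 1 := by
  obtain ⟨a, ha, b, hb, haW, hbW, hbaW⟩ := d.exists_ab
  have f0 : ∀ {y : G} (hy : y ∈ A), π ⟨y, d.AY hy⟩ 0 = 0 := fun hy => d.l.fix0 d.c d.h (d.c.QB (d.AQ hy)) (d.AY hy)
  have fx : π ⟨x, hxY⟩ 0 = 0 := d.l.fix0 d.c d.h hxB hxY
  have m1 : ∀ {y : G} (hy : y ∈ A), y ∉ centralizer (W : Set G) → ∀ b : Fin 5, b ≠ 0 → π ⟨y, d.AY hy⟩ b ≠ b :=
    fun hy hn b hb => d.mvl (d.AQ hy) hn hb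
  have n0 : ∀ {y : G} (hy : y ∈ A), π ⟨y, d.AY hy⟩ 1 ≠ 0 := fun hy e => by
    rw [← f0 hy] at e
    exact absurd ((π ⟨_, d.AY hy⟩).injective e) (by decide)
  have nx : π ⟨x, hxY⟩ 1 ≠ 0 := fun e => by
    rw [← fx] at e
    exact absurd ((π ⟨x, hxY⟩).injective e) (by decide)
  have hba : b * a ∈ A := mul_mem hb ha
  have hbi : b⁻¹ ∈ A := inv_mem hb
  have c1 : π ⟨a, d.AY ha⟩ 1 ≠ π ⟨b, d.AY hb⟩ 1 := by
    intro e
    have h1 : b⁻¹ * a ∉ centralizer (W : Set G) := fun hc => hbaW (by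
      have h2 := mul_mem (d.sq_cW hb) hc
      have e2 : b * b * (b⁻¹ * a) = b * a := by group
      rwa [e2] at h2)
    apply m1 (mul_mem hbi ha) h1 1 (by decide)
    have e3 : (⟨b⁻¹ * a, d.AY (mul_mem hbi ha)⟩ : Y) = (⟨b, d.AY hb⟩ : Y)⁻¹ * ⟨a, d.AY ha⟩ := rfl
    rw [e3, map_mul, map_inv, Equiv.Perm.mul_apply, e, Equiv.Perm.inv_eq_iff_eq]
  have c2 : π ⟨b, d.AY hb⟩ 1 ≠ π ⟨b * a, d.AY hba⟩ 1 := by
    intro e
    apply m1 ha haW 1 (by decide)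
    have e3 : (⟨b * a, d.AY hba⟩ : Y) = (⟨b, d.AY hb⟩ : Y) * ⟨a, d.AY ha⟩ := rfl
    rw [e3, map_mul, Equiv.Perm.mul_apply] at e
    exact ((π ⟨b, d.AY hb⟩).injective e).symm
  have c3 : π ⟨a, d.AY ha⟩ 1 ≠ π ⟨b * a, d.AY hba⟩ 1 := by
    intro e
    apply m1 hb hbW (π ⟨a, d.AY ha⟩ 1) (n0 ha)
    have e3 : (⟨b * a, d.AY hba⟩ : Y) = (⟨b, d.AY hb⟩ : Y) * ⟨a, d.AY ha⟩ := rfl
    rw [e3, map_mul, Equiv.Perm.mul_apply] at e
    exact e.symm
  rcases pig _ _ _ _ nx (n0 ha) (n0 hb) (n0 hba) (m1 ha haW 1 (by decide)) (m1 hb hbW 1 (by decide))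
    (m1 hba hbaW 1 (by decide)) c1 c3 c2 with e | e | e | e
  · refine ⟨1, one_mem _, ?_⟩
    have h9 : π ⟨1, d.AY (one_mem _)⟩ = 1 := map_one π
    rw [e, h9]; rfl
  · exact ⟨a, ha, e⟩
  · exact ⟨b, hb, e⟩
  · exact ⟨b * a, hba, e⟩

theorem fix1 {x y : G} {hxY : x ∈ Y} {hyY : y ∈ Y} (e : π ⟨x, hxY⟩ 1 = π ⟨y, hyY⟩ 1) (h2 : y⁻¹ * x ∈ Y) :
    π ⟨y⁻¹ * x, h2⟩ 1 = 1 := by
  have e3 : (⟨y⁻¹ * x, h2⟩ : Y) = (⟨y, hyY⟩ : Y)⁻¹ * ⟨x, hxY⟩ := rfl
  rw [e3, map_mul, map_inv, Equiv.Perm.mul_apply, e, Equiv.Perm.inv_eq_iff_eq]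

/-- **`B ∩ K = A (K ∩ O₂(Y))`** -/
theorem BK {x : G} (hx : x ∈ cl A Y) (hxB : x ∈ B) : ∃ a ∈ A, a⁻¹ * x ∈ cl A Y ∧ a⁻¹ * x ∈ o2 Y := by
  obtain ⟨y, hy, e⟩ := d.exists_a hxB (d.K_le hx)
  refine ⟨y, hy, ?_⟩
  have h1 : y⁻¹ * x ∈ cl A Y := mul_mem (inv_mem (le_cl A Y hy)) hx
  have h2 := d.K_le h1
  have hyB : y⁻¹ * x ∈ B := mul_mem (inv_mem (d.c.QB (d.AQ hy))) hxB
  have g1 := d.fix1 e h2
  have g0 := d.l.fix0 d.c d.h hyB h2
  have g3 := cube _ (d.sign_K h1 h2) g0 g1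
  obtain ⟨k, hk⟩ := (IsPGroup.iff_orderOf.1 d.c.B2) ⟨y⁻¹ * x, hyB⟩
  have g4 : orderOf (y⁻¹ * x) = 2 ^ k := by rw [← hk, ← Subgroup.orderOf_coe]
  have g5 : orderOf (π ⟨y⁻¹ * x, h2⟩) ∣ 2 ^ k := by
    rw [← g4]
    have := orderOf_map_dvd π (⟨y⁻¹ * x, h2⟩ : Y)
    rwa [← Subgroup.orderOf_coe] at this
  have g6 : orderOf (π ⟨y⁻¹ * x, h2⟩) ∣ 3 := orderOf_dvd_of_pow_eq_one g3
  have g7 : orderOf (π ⟨y⁻¹ * x, h2⟩) = 1 :=
    Nat.eq_one_of_dvd_coprimes (Nat.Coprime.pow_left k (by norm_num)) g5 g6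
  rw [orderOf_eq_one_iff] at g7
  exact ⟨h1, d.h.mem_o2_of d.c hyB (d.l.ker _ g7)⟩

/-- `Q = A C_Q(W)` -/
theorem Q_eq {q : G} (hq : q ∈ Q) : ∃ a ∈ A, a⁻¹ * q ∈ Q ⊓ o2 Y := by
  obtain ⟨a, ha, e⟩ := d.exists_a (d.c.QB hq) (d.QY hq)
  have h1 : a⁻¹ * q ∈ Q := mul_mem (inv_mem (d.AQ ha)) hq
  refine ⟨a, ha, ?_⟩
  rw [d.h.PIW d.c]
  refine ⟨h1, ?_⟩
  by_contra hc
  exact d.mvl h1 hc (b := 1) (by decide) (d.fix1 e _)

theorem K_norm : Y ≤ normalizer ((cl A Y : Subgroup G) : Set G) := le_normalizer_cl A Y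

/-- `B` has odd index in `K` -/
theorem oddBK : ¬ 2 ∣ B.relIndex (cl A Y) := by
  have hs := d.h.syl d.c
  have h2 : IsPGroup 2 (B ⊓ cl A Y : Subgroup G) := d.c.B2.to_le inf_le_left
  obtain ⟨T, hT, hle⟩ := ChoiceSit.exists_syl h2 (inf_le_right : B ⊓ cl A Y ≤ cl A Y)
  obtain ⟨T', hT', hTT'⟩ := ChoiceSit.exists_syl hT.2.1 (hT.1.trans d.K_le)
  obtain ⟨y, hy, he⟩ := ChoiceSit.syl_conj hs hT'
  have h3 : T ≤ cj y (B ⊓ cl A Y) := by
    rw [cj_inf, he, cj_eq_of_mem_normalizer (d.K_norm hy)]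
    exact le_inf hTT' hT.1
  have h4 : B ⊓ cl A Y = T := eq_of_le_of_card_ge hle (by
    have := card_mono h3
    rwa [card_cj] at this)
  have h5 := ChoiceSit.syl_not_dvd hT
  rwa [← h4, inf_relIndex_right] at h5

/-- **(2)** -/
theorem le_WL : W₂ ≤ W ⊔ L := by
  -- `n ∈ C(K)`
  have key : ∀ w' ∈ W₂, ∃ n ∈ X, (∀ k ∈ cl A Y, k * n = n * k) ∧ ∃ w ∈ W, w' = w * n := by
    intro w' hw'
    obtain ⟨w, hw, x, hx, hxA, he⟩ := d.split (d.W₂N hw')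
    have hxK : ∀ y ∈ cl A Y, y ∈ o2 Y → y * x = x * y := by
      intro y hy hy2
      have h1 : x = w⁻¹ * w' := by rw [he]; group
      have h2 : y * w = w * y := (mem_centralizer_iff.1 (d.h.o2_cW d.c hy2) w hw).symm
      have h3 := d.K0_W2 hy hy2 w' hw'
      rw [h1]
      exact ((show Commute y w from h2).inv_right.mul_right h3).eq
    have hB : ∀ b ∈ B, b ∈ cl A Y → b * x * b⁻¹ * x⁻¹ ∈ (⊥ : Subgroup G) := by
      intro b hb hbK
      obtain ⟨a, ha, h1, h2⟩ := d.BK hbK hb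
      rw [mem_bot, comm_iff]
      have h3 := hxK _ h1 h2
      have h4 : Commute b x := by
        have e : b = a * (a⁻¹ * b) := by group
        rw [e]
        exact (show Commute a x from hxA a ha).mul_left h3
      exact h4.eq
    obtain ⟨n, hn, h1, h2⟩ := SFiveB.exists_norm (A := X) (W := W) (Λ := ⊥) (Y := cl A Y) (B := B) d.c.Xc d.c.Xs
      (d.K_le.trans (d.h.YM.trans d.c.MX)) (by rw [normalizer_eq_top_iff.2 inferInstance]; exact le_top) d.oddBK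
      (d.NX hx) hB (fun y hy => d.comm_K hy hx)
    refine ⟨n, hn, fun k hk => comm_iff.1 (by simpa using h1 k hk), w * (n * x⁻¹)⁻¹, mul_mem hw (inv_mem h2), ?_⟩
    rw [he]; group
  -- `PI` centralises `W₂`
  have hPI : ∀ q ∈ Q ⊓ o2 Y, ∀ u ∈ W₂, q * u = u * q := by
    intro q hq
    obtain ⟨w₁, hw₁, hw₁'⟩ := d.t.exists_out
    refine d.t.free q hq.1 w₁ hw₁ hw₁' ?_
    obtain ⟨n, hn, hnK, w, hw, he⟩ := key w₁ hw₁
    have hqY := d.QY hq.1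
    have h1 : q * w₁ * q⁻¹ * w₁⁻¹ = q * n * q⁻¹ * n⁻¹ := by
      have h2 : q * w * q⁻¹ = w := by
        rw [(mem_centralizer_iff.1 (d.h.o2_cW d.c hq.2) w hw).symm, mul_inv_cancel_right]
      have h3 : q * n * q⁻¹ * n⁻¹ ∈ X := X.mul_mem (conj_mem (d.c.SX (d.c.QS hq.1)) hn) (X.inv_mem hn)
      have h4 := d.c.xc (d.h.WX hw) h3
      calc q * w₁ * q⁻¹ * w₁⁻¹ = q * w * q⁻¹ * (q * n * q⁻¹ * n⁻¹) * w⁻¹ := by rw [he]; group
        _ = q * n * q⁻¹ * n⁻¹ := by rw [h2, h4, mul_inv_cancel_right]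
    have h2 := d.t.quad q hq.1 w₁ hw₁
    obtain ⟨v, hv, f, hf, hvf⟩ := mem_sup_comm (fun a ha b hb => d.c.xc (d.c.VX j ha) (d.c.VV_X j (d.t.FV hb))) h2
    -- `[q, n]` is centralised by `K`
    have h3 : ∀ k ∈ cl A Y, k * (q * n * q⁻¹ * n⁻¹) = q * n * q⁻¹ * n⁻¹ * k := by
      intro k hk
      have h4 : q⁻¹ * k * q ∈ cl A Y := by
        have := conj_mem (inv_mem (d.K_norm hqY)) hk
        rwa [inv_inv] at this
      have h5 : Commute k (q * n * q⁻¹) := by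
        have h6 := hnK _ h4
        change k * (q * n * q⁻¹) = q * n * q⁻¹ * k
        calc k * (q * n * q⁻¹) = q * ((q⁻¹ * k * q) * n) * q⁻¹ := by group
          _ = q * (n * (q⁻¹ * k * q)) * q⁻¹ := by rw [h6]
          _ = _ := by group
      exact (h5.mul_right (show Commute k n from hnK k hk).inv_right).eq
    have h4 : ∀ k ∈ cl A Y, k * v = v * k := by
      intro k hk
      have e : v = (q * n * q⁻¹ * n⁻¹) * f⁻¹ := by rw [← h1, hvf]; group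
      rw [e]
      exact ((show Commute k _ from h3 k hk).mul_right
        (show Commute k f from d.K_VV hk (d.t.FV hf)).inv_right).eq
    have h5 : v ∈ F := d.mem_F ((le_sup_left : V j ≤ V j ⊔ F) hv) fun k hk => by
      rw [h4 k hk, mul_inv_cancel_right]
      exact (le_sup_left : V j ≤ V j ⊔ F) hv
    have h6 : v ∈ V j ⊓ F := ⟨hv, h5⟩
    rw [d.h.VjF_bot d.c, mem_bot] at h6
    rw [hvf, h6, one_mul]; exact hf
  intro w' hw'
  obtain ⟨n, hn, hnK, w, hw, he⟩ := key w' hw'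
  have h1 : n ∈ L := by
    refine d.c.cXQ n hn ?_
    -- `Q = A PI`
    intro q hq
    obtain ⟨a, ha, h3⟩ := d.Q_eq hq
    have h2 : a⁻¹ * q ∈ centralizer (W : Set G) := by
      rw [d.h.PIW d.c] at h3; exact h3.2
    have h4 : Commute (a⁻¹ * q) n := by
      have e : n = w⁻¹ * w' := by rw [he]; group
      rw [e]
      exact ((show Commute (a⁻¹ * q) w from d.mem_cW.1 h2 w hw).inv_right).mul_right (hPI _ h3 w' hw')
    have h5 : Commute a n := hnK a (le_cl A Y ha)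
    have e : q = a * (a⁻¹ * q) := by group
    rw [e]
    exact (h5.mul_left h4).eq
  rw [he]
  exact mul_mem ((le_sup_left : W ≤ W ⊔ L) hw) ((le_sup_right : L ≤ W ⊔ L) h1)

end Da

/-- `N(D)` normalises `O₂(C_G(D))` -/
theorem cj_oc {D : Subgroup G} {n : G} (hn : n ∈ normalizer (D : Set G)) :
    cj n (o2 (centralizer (D : Set G))) = o2 (centralizer (D : Set G)) := by
  rw [← ChoiceSit.o2_cj, cj_centralizer, cj_eq_of_mem_normalizer hn]

/-- `V_P ≤ O₂(C_G(V_(j)))`, `k ≥ 2` -/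
theorem L_le_oc (c : Cx S B Q M X L V z) (hne : ∃ i, i ≠ j) :
    L ≤ o2 (centralizer ((VV V j : Subgroup G) : Set G)) := by
  obtain ⟨i, hi⟩ := hne
  have h1 : centralizer ((VV V j : Subgroup G) : Set G) ≤ centralizer ({z i} : Set G) := by
    refine centralizer_le ?_
    rintro x hx
    rw [Set.mem_singleton_iff.1 hx]
    exact c.V_VV hi (c.zV i)
  have h2 : L ≤ centralizer ((VV V j : Subgroup G) : Set G) := fun l hl =>
    mem_centralizer_iff.2 fun x hx => c.xc (c.VV_X j hx) (c.LX hl)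
  have h3 : L ≤ o2 (centralizer ({z i} : Set G)) ⊓ centralizer ((VV V j : Subgroup G) : Set G) := le_inf (c.LO i) h2
  refine h3.trans (ChoiceSit.le_o2 ((ChoiceSit.isPGroup_o2 _).to_le inf_le_left) inf_le_right ?_)
  intro g hg
  refine mem_normalizer_of_cj_le ?_
  rw [cj_inf, cj_eq_of_mem_normalizer (le_normalizer hg),
    cj_eq_of_mem_normalizer (ChoiceSit.le_normalizer_o2 _ (h1 hg))]

/-- **TOR, (2)**: `W^g ≤ W L` for `g ∈ N_M(Q) ∩ N(V_j)`. -/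
theorem uni (c : Cx S B Q M X L V z) (o : Off S Q M X L 𝓦) (h : TY S B Q M X V z 𝓦 j Y W F)
    (hne : ∃ i, i ≠ j) (hc : oddGen Y ≤ centralizer (VV V j : Set G)) :
    ∀ g ∈ M, g ∈ normalizer (Q : Set G) → cj g (V j) = V j → cj g W ≤ W ⊔ L := by
  classical
  intro g hgM hgQ hgV
  obtain ⟨ℓ, π, h0, hW, hi, hcl, hA5, hk⟩ := h.act
  have l : Ln (V j) W F Y ℓ π := ⟨h0, hW, hi, hcl, hA5, hk⟩
  have nVV : Y ≤ normalizer ((VV V j : Subgroup G) : Set G) := by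
    have h1 : oddGen Y ⊔ B ≤ normalizer ((VV V j : Subgroup G) : Set G) :=
      sup_le (hc.trans (centralizer_le_normalizer _)) fun b hb => c.norm_VV' (c.BQ hb) (c.BVj hb)
    rwa [h.oddB c] at h1
  have ePI : Q ⊓ o2 Y = o2 Y ⊓ centralizer ((VV V j : Subgroup G) : Set G) := by
    refine le_antisymm ?_ ?_
    · rintro x ⟨hx, hx2⟩
      exact ⟨hx2, mem_centralizer_iff.2 fun v hv => (c.cQL x hx v (c.VV_L j hv)).symm⟩
    · rintro x ⟨hx2, hxV⟩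
      refine ⟨c.cSL x (c.BS (h.o2B c hx2)) fun u hu => ?_, hx2⟩
      obtain ⟨v, hv, v', hv', rfl⟩ := c.split j hu
      have h1 : v * x = x * v := mem_centralizer_iff.1 (h.o2_cW c hx2) v (h.VW hv)
      have h2 : v' * x = x * v' := mem_centralizer_iff.1 hxV v' hv'
      calc x * (v * v') = (x * v) * v' := by group
        _ = v * x * v' := by rw [← h1]
        _ = v * (x * v') := by group
        _ = v * (v' * x) := by rw [← h2]
        _ = _ := by group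
  have nPI : Y ≤ normalizer ((Q ⊓ o2 Y : Subgroup G) : Set G) := by
    intro y hy
    rw [ePI]
    refine mem_normalizer_of_cj_le ?_
    rw [cj_inf, cj_eq_of_mem_normalizer (ChoiceSit.le_normalizer_o2 _ hy), cj_centralizer,
      cj_eq_of_mem_normalizer (nVV hy)]
  have t := tw_cj c h hgM hgQ hgV
  have hVV : VV V j ≠ ⊥ := by
    obtain ⟨i, hi⟩ := hne
    exact fun e => c.V_ne_bot i (le_bot_iff.1 (e ▸ c.V_VV hi))
  have gVV : g ∈ normalizer ((VV V j : Subgroup G) : Set G) := c.norm_VV' hgQ hgV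
  have LE := L_le_oc c hne
  have WE : W ≤ o2 (centralizer ((VV V j : Subgroup G) : Set G)) :=
    h.gen _ (LE (c.VL j (c.zV j))) fun y hy => by
      rw [mem_normalizer_iff_cj]; exact cj_oc (nVV hy)
  have W2E : cj g W ≤ o2 (centralizer ((VV V j : Subgroup G) : Set G)) := by
    rw [← cj_oc gVV]; exact cj_mono g WE
  obtain ⟨A, hA, hAS, hAW⟩ := h.mv
  have NX : cl (cj g W) Y ≤ X := cl_le fun y hy => by
    have h1 := cj_mono y t.WX
    rwa [cj_eq_of_mem_normalizer (c.MX (h.YM hy))] at h1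
  have NE : cl (cj g W) Y ≤ o2 (centralizer ((VV V j : Subgroup G) : Set G)) := cl_le fun y hy => by
    rw [← cj_oc (nVV hy)]; exact cj_mono y W2E
  have zN : z j ∈ cl (cj g W) Y := le_cl _ _ (t.VW (c.zV j))
  have VL1 : VV V j ≤ cj 1 L := by rw [cj_one]; exact c.VV_L j
  have d : Da S B Q M X L V z 𝓦 j Y W F (cj g W) (cj g F) (cl (cj g W) Y) A ℓ π :=
    { c := c, h := h, l := l, t := t, nPI := nPI, nVV := nVV, NX := NX
      YN := le_normalizer_cl _ _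
      WN := h.gen _ zN (le_normalizer_cl _ _)
      W₂N := le_cl _ _
      gen := fun U hU hYU => cl_le fun y hy => by
        have h1 := cj_mono y hU
        rwa [cj_eq_of_mem_normalizer (hYU hy)] at h1
      AQ := o.AQ A hA hAS
      mvA := hAW
      best := by
        have h1 := o.best A hA hAS 1 (one_mem _) (VV V j) hVV VL1 _ NX NE
        rwa [cj_one] at h1
      quad := by
        intro x hx a ha b hb
        exact o.quad A hA hAS 1 (one_mem _) (VV V j) hVV VL1 x (NX hx) (NE hx) a (by rwa [cj_one]) b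
          (by rwa [cj_one]) }
  exact d.le_WL

end Cfsg.Agent.Omega.NO3S.WY.Tor.UniB
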