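import Cfsg.Agent.Omega.TCQ.R.Gas
import Cfsg.Agent.ZN.Block

/-!
# THEOREM TOR (helper474 #25011), (2+) of helper491 #25169: `W^g = W`

`X = W × Λ` elementary abelian, `W₂` a second complement of `Λ` in `X`; `K`, `K₂`, `B*` centralise `Λ`, `K` and `B*`
normalise `W`, `K₂` normalises `W₂`, `W = [W, K]`, `W₂ = [W₂, K₂]`, `B*` of odd index in `⟨K, K₂, B*⟩`:

* `eq_of_le` : `W₂ = W` (invariant complements, Gaschuetz).
-/

set_option autoImplicit false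
set_option linter.unusedSectionVars false

namespace Cfsg.Agent.Omega.NO3S.WY.Tor.UniEq

open Subgroup
open scoped commutatorElement Pointwise

universe u

variable {G : Type u} [Group G]

/-- `X` a `K`-invariant complement: `W = [W, K] ≤ X`. -/
theorem le_compl {W Lam X K : Subgroup G} (KL : K ≤ centralizer (Lam : Set G)) (WK : W ≤ ⁅W, K⁆)
    (hX : ∀ v ∈ W, ∃ n ∈ Lam, v * n ∈ X) (KX : K ≤ normalizer (X : Set G)) : W ≤ X := by
  refine WK.trans (commutator_le.2 fun w hw k hk => ?_)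
  obtain ⟨n, hn, hx⟩ := hX w hw
  have e1 : n * k = k * n := mem_centralizer_iff.1 (KL hk) n hn
  have e2 : ⁅w, k⁆ = (w * n) * (k * (w * n)⁻¹ * k⁻¹) := by
    rw [commutatorElement_def]
    calc w * k * w⁻¹ * k⁻¹ = w * (k * n) * n⁻¹ * w⁻¹ * k⁻¹ := by group
      _ = w * (n * k) * n⁻¹ * w⁻¹ * k⁻¹ := by rw [e1]
      _ = _ := by group
  rw [e2]
  exact X.mul_mem hx ((mem_normalizer_iff.1 (KX hk) _).1 (X.inv_mem hx))

theorem exists_mul {W Lam : Subgroup G} (hWL : W ≤ normalizer (Lam : Set G)) {x : G} (hx : x ∈ W ⊔ Lam) :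
    ∃ a ∈ W, ∃ b ∈ Lam, x = a * b := by
  have : x ∈ (W : Set G) * (Lam : Set G) := by
    rw [← Subgroup.coe_mul_of_left_le_normalizer_right W Lam hWL]; exact hx
  obtain ⟨a, ha, b, hb, rfl⟩ := this
  exact ⟨a, ha, b, hb, rfl⟩

/-- **(2+)** -/
theorem eq_of_le [Finite G] {W W₂ Lam K K₂ Bs : Subgroup G}
    (comm : ∀ x ∈ W ⊔ Lam, ∀ y ∈ W ⊔ Lam, x * y = y * x) (sq : ∀ x ∈ W ⊔ Lam, x ^ 2 = 1)
    (inf : W ⊓ Lam = ⊥) (le₂ : W₂ ≤ W ⊔ Lam) (card : Nat.card W₂ = Nat.card W) (inf₂ : W₂ ⊓ Lam = ⊥)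
    (KL : K ≤ centralizer (Lam : Set G)) (KL₂ : K₂ ≤ centralizer (Lam : Set G))
    (BL : Bs ≤ centralizer (Lam : Set G)) (KW : K ≤ normalizer (W : Set G)) (KW₂ : K₂ ≤ normalizer (W₂ : Set G))
    (BW : Bs ≤ normalizer (W : Set G)) (WK : W ≤ ⁅W, K⁆) (WK₂ : W₂ ≤ ⁅W₂, K₂⁆)
    (odd : ¬ 2 ∣ Bs.relIndex (K ⊔ K₂ ⊔ Bs)) : W₂ = W := by
  have hLN : ∀ {H : Subgroup G}, H ≤ centralizer (Lam : Set G) → H ≤ normalizer (Lam : Set G) := fun h =>
    h.trans (centralizer_le_normalizer _)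
  have hWL : W ≤ normalizer (Lam : Set G) := hLN fun w hw => mem_centralizer_iff.2 fun l hl =>
    comm l ((le_sup_right : Lam ≤ W ⊔ Lam) hl) w ((le_sup_left : W ≤ W ⊔ Lam) hw)
  have hWL₂ : W₂ ≤ normalizer (Lam : Set G) := hLN fun w hw => mem_centralizer_iff.2 fun l hl =>
    comm l ((le_sup_right : Lam ≤ W ⊔ Lam) hl) w (le₂ hw)
  -- `W₂ Λ = W Λ`
  have hc1 := ZN.Block.card_sup_mul_card_inf hWL
  have hc2 := ZN.Block.card_sup_mul_card_inf hWL₂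
  rw [inf, Subgroup.card_bot, mul_one] at hc1
  rw [inf₂, Subgroup.card_bot, mul_one, card, ← hc1] at hc2
  have hE : W₂ ⊔ Lam = W ⊔ Lam := Subgroup.eq_of_le_of_card_ge (sup_le le₂ le_sup_right) hc2.ge
  -- normalisers of `W Λ`
  have nE : ∀ {H A : Subgroup G}, H ≤ centralizer (Lam : Set G) → H ≤ normalizer (A : Set G) →
      H ≤ normalizer ((A ⊔ Lam : Subgroup G) : Set G) := by
    intro H A h1 h2 g hg
    rw [mem_normalizer_iff]
    intro x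
    have h3 : ∀ g ∈ H, ∀ x ∈ A ⊔ Lam, g * x * g⁻¹ ∈ A ⊔ Lam := by
      intro g hg x hx
      have e : A ⊔ Lam ≤ (A ⊔ Lam).comap (MulAut.conj g).toMonoidHom := by
        refine sup_le (fun a ha => ?_) (fun l hl => ?_)
        · exact (le_sup_left : A ≤ A ⊔ Lam) ((mem_normalizer_iff.1 (h2 hg) a).1 ha)
        · exact (le_sup_right : Lam ≤ A ⊔ Lam) ((mem_normalizer_iff.1 (hLN h1 hg) l).1 hl)
      exact e hx
    refine ⟨h3 g hg x, fun hx => ?_⟩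
    have := h3 g⁻¹ (inv_mem hg) _ hx
    rwa [show g⁻¹ * (g * x * g⁻¹) * g⁻¹⁻¹ = x by group] at this
  have hHE : K ⊔ K₂ ⊔ Bs ≤ normalizer ((W ⊔ Lam : Subgroup G) : Set G) := by
    refine sup_le (sup_le (nE KL KW) ?_) (nE BL BW)
    rw [← hE]; exact nE KL₂ KW₂
  have hHL : K ⊔ K₂ ⊔ Bs ≤ normalizer (Lam : Set G) := sup_le (sup_le (hLN KL) (hLN KL₂)) (hLN BL)
  obtain ⟨X, -, hXN, hXE, hX, hHX⟩ := TCQ.R.exists_X (E := W ⊔ Lam) (N := Lam) (l := W) (b := ⊥)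
    (H := K ⊔ K₂ ⊔ Bs) (T := Bs) comm sq bot_le le_sup_right le_sup_left
    (fun x hx hx' => by rw [← inf]; exact ⟨hx, hx'⟩)
    (fun x hx => exists_mul hWL hx)
    hHE hHL (fun g _ => by rw [mem_normalizer_iff]; intro x; simp) BW
    (Nat.not_even_iff_odd.1 fun h => odd (even_iff_two_dvd.1 h))
  have hKX : K ≤ normalizer (X : Set G) := (le_sup_left.trans le_sup_left).trans hHX
  have hKX₂ : K₂ ≤ normalizer (X : Set G) := (le_sup_right.trans le_sup_left).trans hHX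
  have h1 : W ≤ X := le_compl KL WK hX hKX
  have hXW : X ≤ W := by
    intro x hx
    obtain ⟨a, ha, b, hb, rfl⟩ := exists_mul hWL (hXE hx)
    have h2 : b ∈ X := by
      have := X.mul_mem (X.inv_mem (h1 ha)) hx
      rwa [inv_mul_cancel_left] at this
    have h3 := hXN b h2 hb
    rw [mem_bot] at h3
    rw [h3, mul_one]; exact ha
  have h2 : W₂ ≤ X := by
    refine le_compl KL₂ WK₂ (fun v hv => ?_) hKX₂
    obtain ⟨a, ha, b, hb, rfl⟩ := exists_mul hWL (le₂ hv)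
    exact ⟨b⁻¹, Lam.inv_mem hb, by rw [mul_inv_cancel_right]; exact h1 ha⟩
  exact Subgroup.eq_of_le_of_card_ge (h2.trans hXW) card.ge

end Cfsg.Agent.Omega.NO3S.WY.Tor.UniEq
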