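import Cfsg.Agent.Omega.NO3S.WY.Tor.InstTY
import Cfsg.Agent.Omega.NO3S.WY.Tor.EndTY
import Cfsg.Agent.Omega.NO3S.WY.Tor.UniF
import Cfsg.Agent.Omega.NO3S.WY.Tor.OneTY
import Cfsg.Agent.Omega.NO3S.WY.Tor.ThreeTY
import Cfsg.Agent.Omega.NO3S.WY.Tor.FourTY
import Cfsg.Agent.Omega.NO3S.WY.Tor.Ker
import Cfsg.Agent.Omega.NO3S.WY.Tor.UniB
import Cfsg.Agent.Omega.NO3S.WY.Tor.FEq

/-!
# THEOREM TOR: `TorP.false`

(helper474 #25011, helper491 #25169; nonsplit form helper602, helper864.)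
-/

set_option autoImplicit false
set_option linter.unusedSectionVars false
set_option linter.dupNamespace false

namespace Cfsg.Agent.Omega.NO3S.WY

open Subgroup Cfsg Cfsg.Agent.ZN Cfsg.Agent.ZN.ChoiceBase
open Cfsg.Agent.Omega.NO3S.Level
open Cfsg.Agent.Omega.NO3S.RedC
open Cfsg.Agent.Omega.NO3S.WY.Tor

universe u

variable {G : Type u} [Group G] [Finite G]

/-- the frame of THEOREM TOR is empty -/
theorem Tor.TY.false_all {ι : Type} {S B Q M X L : Subgroup G} {V : ι → Subgroup G} {z : ι → G}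
    {𝓦 : Set (Subgroup G)} {j : ι} {Y W F : Subgroup G} {z₀ : G} (c : Cx S B Q M X L V z) (o : Off S Q M X L 𝓦)
    (h : TY S B Q M X V z 𝓦 j Y W F) (p : Pr S M L V z z₀) (hne : ∃ i, i ≠ j) : False := by
  have hk : KerY Q X Y := h.ker_all c
  have cVV := h.cent_VV c o hk
  have uni := UniB.uni c o h hne cVV
  have hF : F = ⊥ := TY.F_eq c h uni
  have W3 := h.W_le_o2 c hF cVV
  have up : ∀ g ∈ M, g ∈ normalizer (Q : Set G) → cj g (V j) = V j → cj g W = W := fun g hg hQ hV =>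
    TY.cj_W_eq c h hF cVV uni hg hQ hV
  exact h.false_end c hF p (fun s hs e => up s (c.SM hs) (c.SnQ hs) e) (FourTY.kc c o h hF hk cVV W3 up)

variable {S : Sylow 2 G} {P B ZJ : Subgroup G} {k : ℕ} {L W Z C A : Fin k → Subgroup G} {j : Fin k} {Y : Subgroup G}

/-- **THEOREM TOR**: (TOR') is void. -/
theorem TorP.false (t : TorP S P B ZJ L W Z C A j Y) : False := by
  obtain ⟨X, z, 𝓦, W', F', z₀, c, o, h, p⟩ := t.exists_ty
  exact Tor.TY.false_all c o h p (t.mul.bg.two j)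

end Cfsg.Agent.Omega.NO3S.WY
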