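import Cfsg.Agent.Omega.NO3S.WY.Tor.EndTY
import Cfsg.Agent.Omega.NO3S.WY.Tor.UniF
import Cfsg.Agent.Omega.NO3S.WY.Tor.OneTY
import Cfsg.Agent.Omega.NO3S.WY.Tor.ThreeTY
import Cfsg.Agent.Omega.NO3S.WY.Tor.FourTY
import Cfsg.Agent.Omega.NO3S.WY.Tor.Ker
import Cfsg.Agent.Omega.NO3S.WY.Tor.UniB

/-!
# THEOREM TOR: the glue over the frame `Cx`, `Off`, `TY`, `Pr`

`TY.false_of` : the contradiction from the literals of the pieces of bb #26054 / #26158:
(0) = `TY.ker_all` (570, 491), (1) = `TY.cent_VV` (150), (2) = `UniB.uni` (822), `F_eq` (2F), (2+) = `TY.cj_W_eq` (613), (3) = `TY.W_le_o2`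
(150), (4+) = `FourTY.kc` (594), (Sig) and (6) = `TY.false_end`.
-/

set_option autoImplicit false

namespace Cfsg.Agent.Omega.NO3S.WY.Tor

open Subgroup Cfsg Cfsg.Agent.ZN Cfsg.Agent.ZN.ChoiceBase
open Cfsg.Agent.MinSimple.VModule (oddGen)

universe u

variable {G : Type u} [Group G] {ι : Type}

/-- **THEOREM TOR**, the glue. -/
theorem TY.false_of [Finite G] {S B Q M X L : Subgroup G} {V : ι → Subgroup G} {z : ι → G} {𝓦 : Set (Subgroup G)}
    {j : ι} {Y W F : Subgroup G} {z₀ : G} (c : Cx S B Q M X L V z) (o : Off S Q M X L 𝓦)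
    (h : TY S B Q M X V z 𝓦 j Y W F) (p : Pr S M L V z z₀)
    (hne : ∃ i, i ≠ j)
    (F_eq : (∀ g ∈ M, g ∈ normalizer (Q : Set G) → cj g (V j) = V j → cj g W ≤ W ⊔ L) → F = ⊥) : False := by
  have hk : KerY Q X Y := h.ker_all c
  have cVV := h.cent_VV c o hk
  have uni := UniB.uni c o h hne cVV
  have hF := F_eq uni
  have W3 := h.W_le_o2 c hF cVV
  have up : ∀ g ∈ M, g ∈ normalizer (Q : Set G) → cj g (V j) = V j → cj g W = W := fun g hg hQ hV =>
    TY.cj_W_eq c h hF cVV uni hg hQ hV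
  exact h.false_end c hF p (fun s hs e => up s (c.SM hs) (c.SnQ hs) e) (FourTY.kc c o h hF hk cVV W3 up)

end Cfsg.Agent.Omega.NO3S.WY.Tor
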