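import Cfsg.Agent.Omega.NO3S.WY.Tor.Glue
import Cfsg.Agent.Omega.NO3S.WY.Tor.UniB

/-!
# THEOREM TOR: the glue with (2) discharged

`TY.false_of_uni` : `TY.false_of` (Glue.lean) with `uni` = `UniB.uni` (822).  What is left: (2F) `F_eq`.
-/

set_option autoImplicit false

namespace Cfsg.Agent.Omega.NO3S.WY.Tor

open Subgroup Cfsg Cfsg.Agent.ZN Cfsg.Agent.ZN.ChoiceBase

universe u

variable {G : Type u} [Group G] {ι : Type}

/-- **THEOREM TOR** from (2F). -/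
theorem TY.false_of_uni [Finite G] {S B Q M X L : Subgroup G} {V : ι → Subgroup G} {z : ι → G}
    {𝓦 : Set (Subgroup G)} {j : ι} {Y W F : Subgroup G} {z₀ : G} (c : Cx S B Q M X L V z) (o : Off S Q M X L 𝓦)
    (h : TY S B Q M X V z 𝓦 j Y W F) (p : Pr S M L V z z₀) (hne : ∃ i, i ≠ j)
    (F_eq : (∀ g ∈ M, g ∈ normalizer (Q : Set G) → cj g (V j) = V j → cj g W ≤ W ⊔ L) → F = ⊥) : False :=
  h.false_of c o p hne F_eq

end Cfsg.Agent.Omega.NO3S.WY.Tor
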