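import Cfsg.Agent.Omega.NO3S.WY.Tor.TYOf
import Cfsg.Agent.Omega.NO3S.WY.Tor.CxOf
import Cfsg.Agent.Omega.NO3S.WY.Tor.Lit

/-!
# THEOREM TOR: the instance `TorP ⟹ Cx, Off, Co`

* `off_of` : `FamT` gives `Off` (the 2-groups of the family);
* `co_of`, `TorP.exists_co` : coordinates.
-/

set_option autoImplicit false
set_option linter.unusedSectionVars false
set_option linter.dupNamespace false

namespace Cfsg.Agent.Omega.NO3S.WY.Tor

open Subgroup Cfsg Cfsg.Agent.ZN Cfsg.Agent.ZN.ChoiceBase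
open Cfsg.Agent.ZN.ChoiceSit (Syl)
open Cfsg.Agent.MinSimple.MinParabolic (IsMinPar)
open Cfsg.Agent.Omega.NO3S.Level
open Cfsg.Agent.Omega.NO3S.RedC
open Cfsg.Agent.Omega.NO3S.EThree.Frame (Bg Fg)
open Cfsg.Agent.Omega.FFThm (OffM ElemM NatK NatKM ActsSL)
open Cfsg.Agent.Omega.NO1.BestOff (Best)
open Cfsg.Agent.Omega.FrameFF (cv)
open Cfsg.Agent.Omega.Node.MulX (MulL)
open Cfsg.Agent.Lib.SL2Mat (up)

universe u

variable {G : Type u} [Group G] [Finite G]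

/-- a best offender beats all its subgroups -/
theorem best_le {U A : Subgroup G} (h : Best U A) {A' : Subgroup G} (hA : A' ≤ A) :
    Nat.card A' * Nat.card ↥(U ⊓ centralizer (A' : Set G)) ≤ Nat.card A * Nat.card ↥(U ⊓ centralizer (A : Set G)) := by
  have h1 := h.max (A' ⊔ (A ⊓ centralizer (U : Set G))) (sup_le hA inf_le_left) le_sup_right
  refine le_trans (Nat.mul_le_mul (Subgroup.card_le_of_le le_sup_left) (Subgroup.card_le_of_le ?_)) h1
  refine le_inf inf_le_left ?_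
  rw [le_centralizer_iff]
  exact sup_le (le_centralizer_iff.1 inf_le_right) (inf_le_right.trans (centralizer_le inf_le_left))

/-- **`Off`** -/
theorem off_of {S : Sylow 2 G} {P Y V : Subgroup G} {𝓕 : Set (Subgroup G)} (h : FamT S P Y V 𝓕) :
    Off (S : Subgroup G) (o2 P) (GX (S : Subgroup G) P Y) V (zl (S : Subgroup G) P) {A | A ∈ 𝓕 ∧ IsPGroup 2 A} where
  cj := fun A hA g hg => ⟨h.cj A hA.1 g hg, isPGroup_cj g hA.2⟩
  AM := fun A hA => h.le A hA.1
  A2 := fun A hA => hA.2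
  AQ := fun A hA hS => h.pas A hA.1 hS
  quad := fun A hA hS g hg D hD hDL x hx hxO a ha b hb => by
    have h1 := (h.her A hA.1 hS g hg D (zpowers x) hD hDL ((zpowers_le).2 hx) ((zpowers_le).2 hxO)).2
    exact (h1 a ha b hb x (mem_zpowers x)).symm
  best := fun A hA hS g hg D hD hDL U hU hUO A' hA' =>
    best_le (h.her A hA.1 hS g hg D U hD hDL hU hUO).1 hA'

section inst

variable {S : Sylow 2 G} {P B ZJ : Subgroup G} {k : ℕ} {L W Z C A : Fin k → Subgroup G} {j : Fin k}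
  {Y V : Subgroup G} {𝓕 : Set (Subgroup G)} {z : Fin k → G}

theorem WQ_of_WJ (h : WJ S P B Z j Y) : WQ S P B Y := h.toWY.toWQ

/-- **`Co`** -/
def co_of {F : Type} [Field F] (h : MulL S P B ZJ L W Z C A 2) (wj : WJ S P B Z j Y) (hf : FamT S P Y V 𝓕)
    (hz : ∀ i x, x ∈ Z i ↔ x = 1 ∨ x = z i) (N : NatKM F B Y (zl B Y) (cv B Y) 1) (c4 : Nat.card F = 4)
    (line : ∀ v ∈ zl B Y, N.e v 0 1 = 0 ↔ v ∈ W j ⊔ cv B Y)
    (rt : ∀ q ∈ o2 P, ∃ b : F, ActsSL N.e (zl B Y) (cv B Y) q fun _ => up b) :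
    Co F (S : Subgroup G) B (o2 P) (GX (S : Subgroup G) P Y) V (zl (S : Subgroup G) P) W z
      {A | A ∈ 𝓕 ∧ IsPGroup 2 A} j Y where
  cx := cx_of h wj.toWQ hf.md hz
  syl := wj.syl
  min := wj.min
  c2 := wj.c2
  YM := wj.toWQ.Y_le
  cen := fun y hy i hi => by
    have h1 := mem_centralizer_iff.1 (wj.cen i hi hy) (z i) ((hz i _).2 (Or.inr rfl))
    exact h1.symm
  zcB := by
    rw [h.bg.fr.zcB]
    refine le_antisymm ((EK3.ZJ_le h.bg).trans (iSup_mono fun i x hx => ?_)) (iSup_le fun i => ?_)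
    · rcases (hz i x).1 hx with rfl | rfl
      · exact one_mem _
      · exact mem_zpowers _
    · exact (zpowers_le).2 (h.fr.Z_le i ((hz i _).2 (Or.inr rfl)))
  zX := wj.toWQ.zcT_le.trans (wj.toWQ.L_le_zl.trans hf.md.ge)
  nat := N
  c4 := c4
  line := line
  rt := rt
  act := by
    obtain ⟨A₀, hA, h1, h2⟩ := hf.act
    exact ⟨A₀, ⟨hA, S.isPGroup'.to_le (h1.trans wj.toWQ.o2P_le)⟩, h1.trans wj.toWQ.o2P_le, h1, h2⟩
  best := fun A₀ hA hS U hU hUO A' hA' => by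
    have hz1 : ∀ i, z i ≠ 1 := EK3.z_ne h.bg hz
    obtain ⟨i, hi⟩ := h.bg.two j
    have h1 : Lam z j ≠ ⊥ := by
      intro h0
      have h3 : z i ∈ Lam z j := le_trans (le_iSup (fun _ : i ≠ j => zpowers (z i)) hi)
        (le_iSup (fun i => ⨆ (_ : i ≠ j), zpowers (z i)) i) (mem_zpowers _)
      rw [h0, mem_bot] at h3
      exact hz1 i h3
    have h2 : Lam z j ≤ cj 1 (zl (S : Subgroup G) P) := by
      rw [cj_one]
      exact iSup_le fun i => iSup_le fun _ => (zpowers_le).2 (h.bg.fr.ZV i ((hz i _).2 (Or.inr rfl)))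
    have h3 := best_le (hf.her A₀ hA.1 hS 1 (one_mem _) (Lam z j) U h1 h2 hU hUO).1 (A' := A') (by rwa [cj_one])
    rwa [cj_one] at h3
  two := h.bg.two j

end inst

end Cfsg.Agent.Omega.NO3S.WY.Tor
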