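import Cfsg.Agent.Omega.NO3S.WY.Tor.Inst
import Cfsg.Agent.Omega.NO3S.WY.Tor.ActCo
import Cfsg.Agent.Omega.NO3S.WY.Tor.PrOf

/-!
# THEOREM TOR: the instance `TorP ⟹ Cx, Off, TY, Pr`
-/

set_option autoImplicit false
set_option linter.unusedSectionVars false
set_option linter.dupNamespace false

namespace Cfsg.Agent.Omega.NO3S.WY

open Subgroup Cfsg Cfsg.Agent.ZN Cfsg.Agent.ZN.ChoiceBase
open Cfsg.Agent.Omega.NO3S.Level
open Cfsg.Agent.Omega.NO3S.RedC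
open Cfsg.Agent.Omega.NO3S.WY.Tor

universe u

variable {G : Type u} [Group G] [Finite G] {S : Sylow 2 G} {P B ZJ : Subgroup G} {k : ℕ}
  {L W Z C A : Fin k → Subgroup G} {j : Fin k} {Y : Subgroup G}

/-- **(TOR') gives the frame of THEOREM TOR** -/
theorem TorP.exists_ty (t : TorP S P B ZJ L W Z C A j Y) :
    ∃ (X : Subgroup G) (z : Fin k → G) (𝓦 : Set (Subgroup G)) (W' F' : Subgroup G) (z₀ : G),
      Cx (S : Subgroup G) B (o2 P) (GX (S : Subgroup G) P Y) X (zl (S : Subgroup G) P) W z ∧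
      Off (S : Subgroup G) (o2 P) (GX (S : Subgroup G) P Y) X (zl (S : Subgroup G) P) 𝓦 ∧
      TY (S : Subgroup G) B (o2 P) (GX (S : Subgroup G) P Y) X W z 𝓦 j Y W' F' ∧
      Pr (S : Subgroup G) (GX (S : Subgroup G) P Y) (zl (S : Subgroup G) P) W z z₀ := by
  obtain ⟨V, 𝓕, hf⟩ := t.fam
  obtain ⟨z, hz⟩ := exists_z t.mul.bg
  obtain ⟨F, hF, hfin, hch, N, c4, line, rt⟩ := t.nat
  obtain ⟨z₀, -, -, hp⟩ := exists_pr t.mul t.wj.toWQ hz
  have o := co_of t.mul t.wj hf hz N c4 line rt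
  exact ⟨V, z, _, o.Wj, o.F0, z₀, o.cx, off_of hf, o.ty', hp⟩

end Cfsg.Agent.Omega.NO3S.WY
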