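import Cfsg.Agent.Omega.NO3S.WY.Tor.Base
import Cfsg.Agent.Omega.Node.MulX

/-!
# THEOREM TOR: `L ≤ O₂(C_G(D))` for the subgroups `D ≤ X` which contain some `z_i`

* `le_o2_cent_mono` : `L ≤ O₂(C(D))`, `D ≤ D'`, `L ≤ C(D')` ⟹ `L ≤ O₂(C(D'))`;
* `Cx.LO_of`, `Cx.LO_Lam`, `Cx.LO_VV`, `Cx.LO_V`, `Cx.LO_L` : `L ≤ O₂(C_G(D))`, `D = Λ_j`, `V_(j)`, `V_i`, `L`;
* `Cx.cjLO_of` : `L^y ≤ O₂(C_G(D))` for `y ∈ N(D)`;
* `TY.WO_of`, `TY.WO_Lam` : `W ≤ O₂(C_G(D))` if `Y` normalises `D`;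
* `MulL.LO`, `MulL.LO_Lam` : the same over `MulL`.
-/

set_option autoImplicit false
set_option linter.unusedSectionVars false

namespace Cfsg.Agent.Omega.NO3S.WY.Tor

open Subgroup Cfsg Cfsg.Agent.ZN Cfsg.Agent.ZN.ChoiceBase
open Cfsg.Agent.ZN.ChoiceSit (Syl)
open Cfsg.Agent.MinSimple.MinParabolic (IsMinPar)
open Cfsg.Agent.MinSimple.VModule (oddGen)

universe u

variable {G : Type u} [Group G] [Finite G] {ι : Type}

/-- `L ≤ O₂(H)`, `L ≤ H' ≤ H`, `H'` normalises `O₂(H) ∩ H'` -/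
theorem le_o2_mono {L H H' : Subgroup G} (h : L ≤ o2 H) (hH : H' ≤ H) (hL : L ≤ H') : L ≤ o2 H' := by
  refine (le_inf h hL).trans (ChoiceSit.le_o2 ((ChoiceSit.isPGroup_o2 H).to_le inf_le_left) inf_le_right ?_)
  intro x hx
  rw [mem_normalizer_iff_cj, cj_inf,
    cj_eq_of_mem_normalizer (ChoiceSit.le_normalizer_o2 H (hH hx)), cj_eq_of_mem_normalizer (le_normalizer hx)]

theorem cent_zp (a : G) : centralizer ((zpowers a : Subgroup G) : Set G) = centralizer ({a} : Set G) := by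
  ext x
  rw [mem_centralizer_iff, mem_centralizer_iff]
  constructor
  · intro h y hy
    rw [Set.mem_singleton_iff] at hy
    rw [hy]
    exact h a (mem_zpowers a)
  · rintro h y ⟨n, rfl⟩
    exact Commute.zpow_left (show Commute a x from h a rfl) n

theorem le_o2_cent_mono {L D D' : Subgroup G} (h : L ≤ o2 (centralizer (D : Set G))) (hD : D ≤ D')
    (hL : L ≤ centralizer (D' : Set G)) : L ≤ o2 (centralizer (D' : Set G)) :=
  le_o2_mono h (centralizer_le hD) hL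

theorem o2_cent_norm {D : Subgroup G} {y : G} (hy : y ∈ normalizer (D : Set G)) :
    cj y (o2 (centralizer (D : Set G))) = o2 (centralizer (D : Set G)) := by
  have h1 : cj y (centralizer (D : Set G)) = centralizer (D : Set G) := by
    rw [cj_centralizer, cj_eq_of_mem_normalizer hy]
  have h2 : y ∈ normalizer ((centralizer (D : Set G) : Subgroup G) : Set G) := by
    rw [mem_normalizer_iff_cj, h1]
  have h3 := normalizer_le_of_cj (F := fun T : Subgroup G => o2 T) ChoiceSit.o2_cj (centralizer (D : Set G)) h2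
  exact cj_eq_of_mem_normalizer h3

namespace Cx

variable {S B Q M X L : Subgroup G} {V : ι → Subgroup G} {z : ι → G} (c : Cx S B Q M X L V z)
include c

theorem LO_of {D : Subgroup G} {i : ι} (hz : z i ∈ D) (hD : D ≤ X) : L ≤ o2 (centralizer (D : Set G)) := by
  have h1 : L ≤ o2 (centralizer ((zpowers (z i) : Subgroup G) : Set G)) := by
    rw [cent_zp]
    exact c.LO i
  refine le_o2_cent_mono h1 (zpowers_le.2 hz) fun l hl => mem_centralizer_iff.2 fun d hd => ?_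
  exact c.Xc d (hD hd) l (c.LX hl)

theorem LO_Lam {i j : ι} (h : i ≠ j) : L ≤ o2 (centralizer (Lam z j : Set G)) :=
  c.LO_of (i := i) ((le_iSup₂_of_le (f := fun i (_ : i ≠ j) => zpowers (z i)) i h le_rfl) (mem_zpowers _)) (c.Lam_X j)

theorem LO_VV {i j : ι} (h : i ≠ j) : L ≤ o2 (centralizer (VV V j : Set G)) :=
  c.LO_of (i := i) (c.V_VV h (c.zV i)) (c.VV_X j)

theorem LO_V (i : ι) : L ≤ o2 (centralizer (V i : Set G)) := c.LO_of (c.zV i) (c.VX i)

theorem LO_L (i : ι) : L ≤ o2 (centralizer (L : Set G)) := c.LO_of (c.VL i (c.zV i)) c.LX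

theorem cjLO_of {D : Subgroup G} {i : ι} (hz : z i ∈ D) (hD : D ≤ X) {y : G} (hy : y ∈ normalizer (D : Set G)) :
    cj y L ≤ o2 (centralizer (D : Set G)) := by
  rw [← o2_cent_norm hy]
  exact cj_mono y (c.LO_of hz hD)

end Cx

namespace TY

variable {S B Q M X L : Subgroup G} {V : ι → Subgroup G} {z : ι → G} {𝓦 : Set (Subgroup G)} {j : ι}
  {Y W F : Subgroup G}

/-- `Y` normalises `D ≤ X`, `z_i ∈ D` : `W ≤ O₂(C_G(D))` -/
theorem WO_of (c : Cx S B Q M X L V z) (h : TY S B Q M X V z 𝓦 j Y W F) {D : Subgroup G} {i : ι}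
    (hz : z i ∈ D) (hD : D ≤ X) (hY : Y ≤ normalizer (D : Set G)) : W ≤ o2 (centralizer (D : Set G)) := by
  refine h.gen _ (c.LO_of hz hD (c.VL j (c.zV j))) fun y hy => ?_
  rw [mem_normalizer_iff_cj]
  exact o2_cent_norm (hY hy)

theorem Lam_norm (h : TY S B Q M X V z 𝓦 j Y W F) : Y ≤ centralizer (Lam z j : Set G) := fun _ hy =>
  mem_centralizer_iff.2 fun _ hx => (h.cLam hy hx).symm

theorem WO_Lam (c : Cx S B Q M X L V z) (h : TY S B Q M X V z 𝓦 j Y W F) {i : ι} (hij : i ≠ j) :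
    W ≤ o2 (centralizer (Lam z j : Set G)) :=
  h.WO_of c (i := i)
    ((le_iSup₂_of_le (f := fun i (_ : i ≠ j) => zpowers (z i)) i hij le_rfl) (mem_zpowers _)) (c.Lam_X j)
    (h.Lam_norm.trans (centralizer_le_normalizer _))

end TY

end Cfsg.Agent.Omega.NO3S.WY.Tor

namespace Cfsg.Agent.Omega.Node.MulX

open Subgroup Cfsg Cfsg.Agent.ZN Cfsg.Agent.ZN.ChoiceBase
open Cfsg.Agent.Omega.NO3S.WY.Tor (le_o2_mono le_o2_cent_mono Lam cent_zp)

universe u

variable {G : Type u} [Group G] [Finite G] {S : Sylow 2 G} {P B ZJ : Subgroup G} {k : ℕ}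
  {L W Z C A : Fin k → Subgroup G} {q : ℕ}

theorem MulL.V_comm (h : MulL S P B ZJ L W Z C A q) {x y : G} (hx : x ∈ zl (S : Subgroup G) P)
    (hy : y ∈ zl (S : Subgroup G) P) : x * y = y * x := h.fr.Vc hx hy

/-- `V_P ≤ O₂(C_G(D))` if `Z_i ≤ D ≤ V_P` -/
theorem MulL.LO_of (h : MulL S P B ZJ L W Z C A q) {D : Subgroup G} {i : Fin k} (hZ : Z i ≤ D)
    (hD : D ≤ zl (S : Subgroup G) P) : zl (S : Subgroup G) P ≤ o2 (centralizer (D : Set G)) := by
  refine le_o2_mono (h.bg.V_le i) ((centralizer_le hZ).trans (centralizer_le_normalizer _)) fun v hv =>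
    mem_centralizer_iff.2 fun d hd => h.V_comm (hD hd) hv

theorem MulL.LO (h : MulL S P B ZJ L W Z C A q) (i : Fin k) :
    zl (S : Subgroup G) P ≤ o2 (centralizer (Z i : Set G)) := h.LO_of le_rfl (h.fr.ZV i)

/-- `V_P ≤ O₂(C_G(z_i))` -/
theorem MulL.LO_z (h : MulL S P B ZJ L W Z C A q) {z : Fin k → G} (hz : ∀ i, zpowers (z i) = Z i) (i : Fin k) :
    zl (S : Subgroup G) P ≤ o2 (centralizer ({z i} : Set G)) := by
  have h1 := h.LO i
  rwa [← hz i, cent_zp] at h1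

theorem MulL.Lam_le (h : MulL S P B ZJ L W Z C A q) {z : Fin k → G} (hz : ∀ i, zpowers (z i) = Z i) (j : Fin k) :
    Lam z j ≤ zl (S : Subgroup G) P := iSup₂_le fun i _ => by
  rw [hz i]; exact h.fr.ZV i

/-- `V_P ≤ O₂(C_G(Λ_j))` -/
theorem MulL.LO_Lam (h : MulL S P B ZJ L W Z C A q) {z : Fin k → G} (hz : ∀ i, zpowers (z i) = Z i) {i j : Fin k}
    (hij : i ≠ j) : zl (S : Subgroup G) P ≤ o2 (centralizer (Lam z j : Set G)) := by
  refine h.LO_of (i := i) ?_ (h.Lam_le hz j)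
  rw [← hz i]
  exact le_iSup₂_of_le (f := fun i (_ : i ≠ j) => zpowers (z i)) i hij le_rfl

end Cfsg.Agent.Omega.Node.MulX
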