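import Mathlib

/-!
# Facts on `S₅`
-/

namespace Cfsg.Agent.Omega.NO3S.WY.Tor.PermF

/-- the fours group on `1234`, as a finset -/
def T4 : Finset (Equiv.Perm (Fin 5)) :=
  Finset.univ.filter fun σ => σ = 1 ∨ (σ 0 = 0 ∧ σ * σ = 1 ∧ ∀ a, a ≠ 0 → σ a ≠ a)

theorem mem_T4 {σ : Equiv.Perm (Fin 5)} : σ ∈ T4 ↔ σ = 1 ∨ (σ 0 = 0 ∧ σ * σ = 1 ∧ ∀ a, a ≠ 0 → σ a ≠ a) := by
  simp [T4]

set_option maxRecDepth 100000 in
theorem card_T4 : T4.card = 4 := by decide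

set_option maxRecDepth 100000 in
/-- an element of `A₅` which fixes `0` is of order 3 or in the fours group -/
theorem even_fix : ∀ σ : Equiv.Perm (Fin 5), σ 0 = 0 → Equiv.Perm.sign σ = 1 →
    σ * σ * σ = 1 ∨ (σ = 1 ∨ (σ 0 = 0 ∧ σ * σ = 1 ∧ ∀ a, a ≠ 0 → σ a ≠ a)) := by
  decide

end Cfsg.Agent.Omega.NO3S.WY.Tor.PermF
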