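import Cfsg.Agent.Omega.NO3S.WY.TorFive
import Cfsg.Agent.Omega.NO3S.Level.CaseL
import Cfsg.Agent.Omega.NO3S.Sym.Exit

/-!
# (TOR) for one block `S₅`: the data at the base triple `{0, 1, 4}`

`CaseL S P`, `V_P` = the even subsets of the letters `{0,..,4}` (`Five S P p`: `p i` = the complement of the letter `i`,
`Ω₁(Z(S)) = ⟨p 4⟩`, `B = C_S(nn p)`, `nn p = {0, 1}`, `aa p = {2, 3}`).

`SBase` : `Y` is a weird minimal parabolic over `B`, `Y ≤ C(aa p)`, `K = O²(Y)`, `W = ⟨(nn p)^K⟩`, `W ∩ V_P` is the line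
of `W` centralised by `Q = O₂(P)`, `A ≤ Q` is a member of the family (a `W_F`) which moves `W`.

`SBase.false_of` is in `Tor/SEnd.lean`.
-/

set_option autoImplicit false
set_option linter.unusedSectionVars false

namespace Cfsg.Agent.Omega.NO3S.WY.TorFive

open Subgroup Cfsg Cfsg.Agent.ZN Cfsg.Agent.ZN.ChoiceBase
open Cfsg.Agent.Omega.FFThm (OffM ElemM NoOverM SymKM)
open Cfsg.Agent.Omega.FrameFF (cv)
open Cfsg.Agent.Omega.NO1.BestOff (Best)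
open Cfsg.Agent.Omega.NO3S.Level (CaseL)
open Cfsg.Agent.Omega.NTwo (nn aa)

universe u

variable {G : Type u} [Group G] [Finite G]

/-- The base triple `{0, 1, 4}`. -/
structure SBase (S : Sylow 2 G) (P : Subgroup G) (p : Fin 5 → G) (M X W K A : Subgroup G) : Prop where
  cl : CaseL S P
  sym : Nonempty (SymKM (S : Subgroup G) P (zl (S : Subgroup G) P) (cv (S : Subgroup G) P) 1 2)
  five : Sym.Exit.Five S P p
  PM : P ≤ M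
  MX : M ≤ normalizer (X : Set G)
  Xc : X ≤ centralizer (X : Set G)
  Xs : ∀ x ∈ X, x ^ 2 = 1
  LX : zl (S : Subgroup G) P ≤ X
  KM : K ≤ M
  WX : W ≤ X
  nW : nn p ∈ W
  vW : p 0 * p 4 ∈ W
  /-- `W = ⟨(nn p)^K⟩` -/
  gen : ∀ U : Subgroup G, nn p ∈ U → K ≤ normalizer (U : Set G) → W ≤ U
  KW : K ≤ normalizer (W : Set G)
  QW : o2 P ≤ normalizer (W : Set G)
  /-- `O²(Y)` centralises `C_L((0 1 4)) = ⟨p 2, p 3⟩` -/
  K2 : ∀ k ∈ K, k * p 2 * k⁻¹ = p 2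
  K3 : ∀ k ∈ K, k * p 3 * k⁻¹ = p 3
  /-- `C_Q(W)` is normal in `Y` -/
  PI : K ≤ normalizer ((o2 P ⊓ centralizer (W : Set G) : Subgroup G) : Set G)
  /-- `W ∩ L ≤ V_{014} ⟨aa p⟩` -/
  WL : W ⊓ zl (S : Subgroup G) P ≤ closure {p 0 * p 1, p 0 * p 4, aa p}
  /-- `[W, Q] ≤ W ∩ L`, `C_W(q) ≤ W ∩ L` for `q ∈ Q - C(W)` -/
  quad : ∀ q ∈ o2 P, ∀ w ∈ W, q * w * q⁻¹ * w⁻¹ ∈ zl (S : Subgroup G) P
  free : ∀ q ∈ o2 P, ∀ w ∈ W, w ∉ zl (S : Subgroup G) P → q * w = w * q → q ∈ centralizer (W : Set G)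
  /-- `|W : W ∩ L| ≥ 4`, `|Q : C_Q(W)| ≤ 4` -/
  idxW : 4 ≤ (zl (S : Subgroup G) P).relIndex W
  idxQ : (centralizer (W : Set G)).relIndex (o2 P) ≤ 4
  /-- `V_{014} ≤ [W, Q]` -/
  comm : ∀ Z' : Subgroup G, CIn (o2 P) W Z' → p 0 * p 1 ∈ Z' ∧ p 0 * p 4 ∈ Z'
  /-- the lines of `W / F` meet trivially -/
  ti : ∀ g ∈ K ⊔ o2 P, ∀ x : G, (x = p 0 * p 1 ∨ x = p 0 * p 4 ∨ x = p 1 * p 4) →
    g * x * g⁻¹ ∈ zl (S : Subgroup G) P → g ∈ normalizer ((W ⊓ zl (S : Subgroup G) P : Subgroup G) : Set G)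
  /-- `A` moves a line through three different elements -/
  reg : ∃ y ∈ K ⊔ o2 P, ∃ t ∈ A, ∃ t' ∈ A,
    t ∉ normalizer (cj y (W ⊓ zl (S : Subgroup G) P) : Set G) ∧
    t' ∉ normalizer (cj y (W ⊓ zl (S : Subgroup G) P) : Set G) ∧
    t * t' ∉ normalizer (cj y (W ⊓ zl (S : Subgroup G) P) : Set G)
  /-- an element of `B` acting as the transposition `(0 1)` acts on `W / F` as an involution of `S₅ - A₅` -/
  mvB : ∀ b ∈ (S : Subgroup G), b * p 0 * b⁻¹ = p 1 → b * p 1 * b⁻¹ = p 0 → b * p 2 * b⁻¹ = p 2 →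
    b * p 3 * b⁻¹ = p 3 → 2 < (centralizer ({b} : Set G)).relIndex W
  AQ : A ≤ o2 P
  mv : ¬ A ≤ centralizer (W : Set G)
  /-- (*) for the conjugates of `A` under `P`, `D = ⟨p 4⟩` -/
  best : ∀ g ∈ P, ∀ U ≤ X, U ≤ o2 (centralizer (zc (S : Subgroup G) : Set G)) → Best U (cj g A)
  qd : ∀ g ∈ P, ∀ x ∈ X, x ∈ o2 (centralizer (zc (S : Subgroup G) : Set G)) → ∀ a ∈ cj g A, ∀ b ∈ cj g A,
    (a * x * a⁻¹ * x⁻¹) * b = b * (a * x * a⁻¹ * x⁻¹)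

end Cfsg.Agent.Omega.NO3S.WY.TorFive
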