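import Cfsg.Agent.Omega.NTwo.Core
import Cfsg.Agent.ZN.ChoiceBase

/-!
# Five points: small facts for (TOR), one block `S₅`

* `not_mem` : `p a p d ∉ ⟨p a p b, p a p c, p d p e⟩`-type statements;
* `swap_of` : `b ∈ S` with `|L : C_L(b)| ≤ 2`, moving `L = ⟨p i⟩`, acts as `(0 1)` or `(2 3)`.
-/

set_option autoImplicit false
set_option linter.unusedSectionVars false

namespace Cfsg.Agent.Omega.NO3S.WY.TorFive

open Subgroup Cfsg Cfsg.Agent.ZN Cfsg.Agent.ZN.ChoiceBase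
open Cfsg.Agent.Omega.NTwo (nn aa Fv Std)

universe u

variable {G : Type u} [Group G] {S P : Subgroup G} {p : Fin 5 → G}

/-- `{a, d} ∉ ⟨{a, b}, {a, c}, {e, d}⟩` for `e ≠ d` different from `a, b, c` -/
theorem not_mem (h : Fv P p) {a b c d e : Fin 5} (had : a ≠ d) (hae : a ≠ e) (hbd : b ≠ d) (hbe : b ≠ e)
    (hcd : c ≠ d) (hce : c ≠ e) (hde : d ≠ e) :
    p a * p d ∉ closure ({p a * p b, p a * p c, p e * p d} : Set G) := by
  intro hm
  obtain ⟨g, -, hg⟩ := h.full (Equiv.swap d e)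
  have ha : g * p a * g⁻¹ = p a := by rw [hg, Equiv.swap_apply_of_ne_of_ne had hae]
  have hb : g * p b * g⁻¹ = p b := by rw [hg, Equiv.swap_apply_of_ne_of_ne hbd hbe]
  have hc : g * p c * g⁻¹ = p c := by rw [hg, Equiv.swap_apply_of_ne_of_ne hcd hce]
  have hd : g * p d * g⁻¹ = p e := by rw [hg, Equiv.swap_apply_left]
  have he : g * p e * g⁻¹ = p d := by rw [hg, Equiv.swap_apply_right]
  have h1 : closure ({p a * p b, p a * p c, p e * p d} : Set G) ≤ centralizer ({g} : Set G) := by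
    rw [closure_le]
    rintro x hx
    rw [SetLike.mem_coe, mem_centralizer_singleton_iff]
    have key : g * x * g⁻¹ = x := by
      rcases hx with rfl | rfl | hx
      · rw [NTwo.cm, ha, hb]
      · rw [NTwo.cm, ha, hc]
      · rw [Set.mem_singleton_iff.1 hx, NTwo.cm, hd, he, h.comm]
    exact (NTwo.comm_iff.1 key).symm
  have h2 := mem_centralizer_singleton_iff.1 (h1 hm)
  have h3 : g * (p a * p d) * g⁻¹ = p a * p d := NTwo.comm_iff.2 h2.symm
  rw [NTwo.cm, ha, hd] at h3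
  exact hde (h.inj (mul_left_cancel h3)).symm

/-- a permutation which moves at most one pair -/
theorem perm_aux : ∀ σ : Equiv.Perm (Fin 5), σ 4 = 4 → σ ≠ 1 →
    (∀ i j, σ i ≠ i → σ j ≠ j → (σ i = i ∨ σ i = j) ∨ i = j) →
    (((σ 0 = 0 ∧ σ 1 = 1) ∨ (σ 0 = 1 ∧ σ 1 = 0)) ∨ ((σ 0 = 2 ∧ σ 1 = 3) ∨ (σ 0 = 3 ∧ σ 1 = 2))) →
    σ = Equiv.swap 0 1 ∨ σ = Equiv.swap 2 3 := by
  decide +kernel

/-- `p i p j = p k p l`, `i ≠ j` ⟹ `{i, j} = {k, l}` -/
theorem pair_eq (h : Fv P p) {i j k l : Fin 5} (hij : i ≠ j) (e : p i * p j = p k * p l) :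
    (k = i ∧ l = j) ∨ (k = j ∧ l = i) := by
  by_cases hki : k = i
  · subst hki
    exact Or.inl ⟨rfl, (h.inj (mul_left_cancel e)).symm⟩
  by_cases hkj : k = j
  · subst hkj
    rw [h.comm] at e
    exact Or.inr ⟨rfl, (h.inj (mul_left_cancel e)).symm⟩
  exfalso
  -- `l ∉ {i, j}` too; a fifth letter `m` gives a transposition `(k m)`
  have hkl : k ≠ l := by
    rintro rfl
    rw [h.sq] at e
    exact h.mul_ne_one hij e
  obtain ⟨m, hm1, hm2, hm3⟩ := Fv.exists_fourth i j k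
  by_cases hml : m = l
  · -- swap `k` with the fifth letter
    have hli : l ≠ i := by rintro rfl; exact hm1 hml
    have hlj : l ≠ j := by rintro rfl; exact hm2 hml
    obtain ⟨m', h1, h2, h3, h4⟩ : ∃ m' : Fin 5, m' ≠ i ∧ m' ≠ j ∧ m' ≠ k ∧ m' ≠ l := by
      have : ∀ i j k l : Fin 5, ∃ m' : Fin 5, m' ≠ i ∧ m' ≠ j ∧ m' ≠ k ∧ m' ≠ l := by decide
      exact this i j k l
    obtain ⟨g, -, hg⟩ := h.full (Equiv.swap k m')
    have h5 := congrArg (fun x => g * x * g⁻¹) e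
    simp only [NTwo.cm] at h5
    rw [hg i, hg j, hg k, hg l, Equiv.swap_apply_of_ne_of_ne (Ne.symm hki) h1.symm,
      Equiv.swap_apply_of_ne_of_ne (Ne.symm hkj) h2.symm, Equiv.swap_apply_left,
      Equiv.swap_apply_of_ne_of_ne hkl.symm h4.symm, e] at h5
    exact h3 (h.inj (mul_right_cancel h5)).symm
  · obtain ⟨g, -, hg⟩ := h.full (Equiv.swap k m)
    have h5 := congrArg (fun x => g * x * g⁻¹) e
    simp only [NTwo.cm] at h5
    rw [hg i, hg j, hg k, hg l, Equiv.swap_apply_of_ne_of_ne (Ne.symm hki) hm1.symm,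
      Equiv.swap_apply_of_ne_of_ne (Ne.symm hkj) hm2.symm, Equiv.swap_apply_left,
      Equiv.swap_apply_of_ne_of_ne hkl.symm (Ne.symm hml), e] at h5
    exact hm3 (h.inj (mul_right_cancel h5)).symm

/-- `b ∈ S` with `|L : C_L(b)| ≤ 2`, `b ∉ C(L)`, acts as `(0 1)` or `(2 3)`. -/
theorem swap_of [Finite G] (h : Std S P p) {L : Subgroup G} (hL : L = closure (Set.range p)) {b : G} (hb : b ∈ S)
    (hmv : b ∉ centralizer (L : Set G)) (hidx : (centralizer ({b} : Set G)).relIndex L ≤ 2) :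
    (∀ i, b * p i * b⁻¹ = p (Equiv.swap 0 1 i)) ∨ ∀ i, b * p i * b⁻¹ = p (Equiv.swap 2 3 i) := by
  obtain ⟨σ, hσ⟩ := h.perm b (h.le hb)
  have hpL : ∀ i, p i ∈ L := fun i => by rw [hL]; exact subset_closure ⟨i, rfl⟩
  -- two letters which are moved
  have hC : ∀ x, x ∈ L → x ∉ centralizer ({b} : Set G) → ∀ y, y ∈ L → y ∉ centralizer ({b} : Set G) →
      x * y ∈ centralizer ({b} : Set G) := by
    intro x hx hx' y hy hy'
    have h0 : (centralizer ({b} : Set G)).relIndex L ≠ 0 := index_ne_zero_of_finite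
    have h1 : (centralizer ({b} : Set G)).relIndex L ≠ 1 := fun e => hx' (relIndex_eq_one.1 e hx)
    have h2 : (centralizer ({b} : Set G)).relIndex L = 2 := by omega
    have h3 : ((centralizer ({b} : Set G)).subgroupOf L).index = 2 := h2
    have h4 := Subgroup.mul_mem_iff_of_index_two h3 (a := ⟨x, hx⟩) (b := ⟨y, hy⟩)
    rw [mem_subgroupOf, mem_subgroupOf, mem_subgroupOf] at h4
    exact h4.2 ⟨fun h5 => absurd h5 hx', fun h5 => absurd h5 hy'⟩
  have hmem : ∀ i, p i ∈ centralizer ({b} : Set G) ↔ σ i = i := by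
    intro i
    rw [mem_centralizer_singleton_iff]
    constructor
    · intro h1
      have h2 : b * p i * b⁻¹ = p i := NTwo.comm_iff.2 h1.symm
      rw [hσ] at h2
      exact h.inj h2
    · intro h1
      have h2 : b * p i * b⁻¹ = p i := by rw [hσ, h1]
      exact (NTwo.comm_iff.1 h2).symm
  have h4 : σ 4 = 4 := h.inj (by rw [← hσ, h.fix b hb])
  have h1 : σ ≠ 1 := by
    rintro rfl
    apply hmv
    rw [hL, centralizer_closure]
    rw [mem_centralizer_iff]
    rintro _ ⟨i, rfl⟩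
    have h2 : b * p i * b⁻¹ = p i := hσ i
    exact (NTwo.comm_iff.1 h2).symm
  have h5 : ∀ i j, σ i ≠ i → σ j ≠ j → (σ i = i ∨ σ i = j) ∨ i = j := by
    intro i j hi hj
    by_cases hij : i = j
    · exact Or.inr hij
    left; right
    have h6 := hC (p i) (hpL i) (fun h7 => hi ((hmem i).1 h7)) (p j) (hpL j) (fun h7 => hj ((hmem j).1 h7))
    rw [mem_centralizer_singleton_iff] at h6
    have h7 : b * (p i * p j) * b⁻¹ = p i * p j := NTwo.comm_iff.2 h6.symm
    rw [NTwo.cm, hσ, hσ] at h7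
    rcases pair_eq h.toFv hij h7.symm with h8 | h8
    · exact absurd h8.1 hi
    · exact h8.1
  have h6 : ((σ 0 = 0 ∧ σ 1 = 1) ∨ (σ 0 = 1 ∧ σ 1 = 0)) ∨ ((σ 0 = 2 ∧ σ 1 = 3) ∨ (σ 0 = 3 ∧ σ 1 = 2)) := by
    rcases h.part b hb with h7 | h7
    · rw [NTwo.cm, hσ, hσ] at h7
      left
      exact pair_eq h.toFv (by decide) h7.symm
    · rw [NTwo.cm, hσ, hσ] at h7
      right
      exact pair_eq h.toFv (by decide) h7.symm
  rcases perm_aux σ h4 h1 h5 h6 with rfl | rfl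
  · exact Or.inl hσ
  · exact Or.inr hσ

end Cfsg.Agent.Omega.NO3S.WY.TorFive
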