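import Cfsg.Agent.Omega.NO3S.WY.Tor.SBase
import Cfsg.Agent.Omega.NO3S.WY.Tor.SPerm

/-!
# (TOR) for one block `S₅`: the end (helper499 #25327 (2)-(5) = helper150 #25227 (c)-(e))

The conjugates `W^g`, `K^g` (`g ∈ P` moves the triple `{0, 1, 4}` into `{0, 1, 2, 3}`) lie in `C_M(p 4)`;
`R = ⟨C_P(p 4), K^g⟩`, `N = ⟨V_P^R⟩`: this is `TorFive.Five`.

* **`SBase.false_of`**.
-/

set_option autoImplicit false
set_option linter.unusedSectionVars false

namespace Cfsg.Agent.Omega.NO3S.WY.TorFive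

open Subgroup Cfsg Cfsg.Agent.ZN Cfsg.Agent.ZN.ChoiceBase
open Cfsg.Agent.Omega.FFThm (OffM ElemM NoOverM SymKM ActsSym)
open Cfsg.Agent.Omega.FrameFF (cv)
open Cfsg.Agent.Omega.NO1.BestOff (Best)
open Cfsg.Agent.Omega.NO3S.Level (CaseL)
open Cfsg.Agent.Omega.NTwo (nn aa)
open Cfsg.Agent.Omega.NO3b.EZero (cl cj_le_cl le_cl cl_le le_normalizer_cl cent_symm)
open Cfsg.Agent.Omega.SQ1.Bau (mem_sup_norm)
open Cfsg.Agent.Omega.NO3S.Fld (relIndex_mul_card)

universe u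

variable {G : Type u} [Group G] [Finite G]

/-! ### Conjugation -/

theorem relIndex_cj (g : G) (C X : Subgroup G) : (cj g C).relIndex (cj g X) = C.relIndex X := by
  have h1 := relIndex_mul_card X C
  have h2 := relIndex_mul_card (cj g X) (cj g C)
  rw [← cj_inf, card_cj, card_cj, ← h1] at h2
  exact Nat.eq_of_mul_eq_mul_right Nat.card_pos h2

theorem norm_cj {g : G} {A B : Subgroup G} (h : A ≤ normalizer (B : Set G)) :
    cj g A ≤ normalizer ((cj g B : Subgroup G) : Set G) := by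
  rw [← cj_normalizer]; exact cj_mono g h

theorem mem_cj_conj {g x : G} {A : Subgroup G} (h : x ∈ A) : g * x * g⁻¹ ∈ cj g A := by
  rw [mem_cj]
  have e : g⁻¹ * (g * x * g⁻¹) * g = x := by group
  rwa [e]

theorem cj_cent_sing (g x : G) : cj g (centralizer ({x} : Set G)) = centralizer ({g * x * g⁻¹} : Set G) := by
  ext y
  rw [mem_cj, mem_centralizer_singleton_iff, mem_centralizer_singleton_iff]
  constructor
  · intro h
    have := congrArg (fun z => g * z * g⁻¹) h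
    have e1 : g * (g⁻¹ * y * g * x) * g⁻¹ = y * (g * x * g⁻¹) := by group
    have e2 : g * (x * (g⁻¹ * y * g)) * g⁻¹ = g * x * g⁻¹ * y := by group
    simp only [e1, e2] at this
    exact this
  · intro h
    have := congrArg (fun z => g⁻¹ * z * g) h
    have e1 : g⁻¹ * (y * (g * x * g⁻¹)) * g = g⁻¹ * y * g * x := by group
    have e2 : g⁻¹ * (g * x * g⁻¹ * y) * g = x * (g⁻¹ * y * g) := by group
    simp only [e1, e2] at this
    exact this

/-- the index set: the elements of `P` which move the triple `{0, 1, 4}` into `{0, 1, 2, 3}` -/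
def Ix (P : Subgroup G) (p : Fin 5 → G) : Type u := {g : G // g ∈ P ∧ (g * p 2 * g⁻¹ = p 4 ∨ g * p 3 * g⁻¹ = p 4)}

/-- `C_P(z)` -/
abbrev R0 (S : Sylow 2 G) (P : Subgroup G) : Subgroup G := P ⊓ centralizer (zc (S : Subgroup G) : Set G)

/-- `R` -/
abbrev RR (S : Sylow 2 G) (P K : Subgroup G) (p : Fin 5 → G) : Subgroup G := R0 S P ⊔ ⨆ g : Ix P p, cj g.1 K

/-- `N` -/
abbrev NN (S : Sylow 2 G) (P K : Subgroup G) (p : Fin 5 → G) : Subgroup G := cl (zl (S : Subgroup G) P) (RR S P K p)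

namespace SBase

variable {S : Sylow 2 G} {P : Subgroup G} {p : Fin 5 → G} {M X W K A : Subgroup G} (b : SBase S P p M X W K A)
include b

theorem PL : P ≤ normalizer (zl (S : Subgroup G) P : Set G) := le_normalizer_zl _ _

theorem PQ : P ≤ normalizer (o2 P : Set G) := le_normalizer_o2 _

theorem SP : (S : Subgroup G) ≤ P := b.five.std.le

theorem QS : o2 P ≤ (S : Subgroup G) := b.cl.pss.par.isLoc.o2_le S

theorem QL : o2 P ≤ centralizer (zl (S : Subgroup G) P : Set G) := by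
  rw [← b.cl.zc_eq]; exact Level.le_centralizer_zc _

theorem pL (i : Fin 5) : p i ∈ zl (S : Subgroup G) P := by
  rw [b.five.gen]; exact subset_closure ⟨i, rfl⟩

theorem low : zl (S : Subgroup G) P ≤ o2 (centralizer (zc (S : Subgroup G) : Set G)) := b.cl.low P b.cl.pss.par

theorem p4 : p 4 ∈ zc (S : Subgroup G) := by
  rw [ChoiceBase.mem_zc]
  refine ⟨b.five.std.mem 4, by rw [pow_two]; exact b.five.std.sq 4, fun y hy => ?_⟩
  exact NTwo.comm_iff.1 (b.five.std.fix y hy)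

theorem zc_ne : zc (S : Subgroup G) ≠ ⊥ := fun h => b.five.std.ne 4 (by
  have := b.p4
  rw [h] at this
  exact mem_bot.1 this)

/-- `x ∈ C(Ω₁(Z(S)))` iff `x` centralises `p 4` -/
theorem mem_cz {x : G} (h : x * p 4 * x⁻¹ = p 4) : x ∈ centralizer (zc (S : Subgroup G) : Set G) := by
  rw [mem_centralizer_iff]
  intro z hz
  rcases b.five.std.zc4 z hz with rfl | rfl
  · rw [one_mul, mul_one]
  · exact (NTwo.comm_iff.1 h).symm

theorem gP (g : Ix P p) : g.1 ∈ P := g.2.1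

theorem cjQ (g : Ix P p) : cj g.1 (o2 P) = o2 P := cj_eq_of_mem_normalizer (b.PQ g.2.1)

theorem cjL (g : Ix P p) : cj g.1 (zl (S : Subgroup G) P) = zl (S : Subgroup G) P :=
  cj_eq_of_mem_normalizer (b.PL g.2.1)

theorem cjK_cz (g : Ix P p) : cj g.1 K ≤ centralizer (zc (S : Subgroup G) : Set G) := by
  intro x hx
  apply b.mem_cz
  have hk := mem_cj.1 hx
  obtain ⟨g, hg, h | h⟩ := g
  · have h2 := b.K2 _ hk
    simp only at hx hk h2 ⊢
    rw [← h]
    calc x * (g * p 2 * g⁻¹) * x⁻¹ = g * (g⁻¹ * x * g * p 2 * (g⁻¹ * x * g)⁻¹) * g⁻¹ := by group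
      _ = _ := by rw [h2]
  · have h2 := b.K3 _ hk
    simp only at hx hk h2 ⊢
    rw [← h]
    calc x * (g * p 3 * g⁻¹) * x⁻¹ = g * (g⁻¹ * x * g * p 3 * (g⁻¹ * x * g)⁻¹) * g⁻¹ := by group
      _ = _ := by rw [h2]

theorem cjK_M (g : Ix P p) : cj g.1 K ≤ M := by
  have h1 := cj_mono g.1 b.KM
  rwa [cj_eq_of_mem_normalizer (le_normalizer (b.PM g.2.1))] at h1

theorem RR_M : RR S P K p ≤ M := sup_le (inf_le_left.trans b.PM) (iSup_le b.cjK_M)

theorem RR_cz : RR S P K p ≤ centralizer (zc (S : Subgroup G) : Set G) := sup_le inf_le_right (iSup_le b.cjK_cz)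

theorem S_RR : (S : Subgroup G) ≤ RR S P K p :=
  (le_inf b.SP fun x hx => b.mem_cz (b.five.std.fix x hx)).trans le_sup_left

theorem NN_X : NN S P K p ≤ X := cl_le fun r hr => by
  have h1 := cj_mono r b.LX
  rwa [cj_eq_of_mem_normalizer (b.MX (b.RR_M hr))] at h1

theorem NN_low : NN S P K p ≤ o2 (centralizer (zc (S : Subgroup G) : Set G)) := cl_le fun r hr => by
  have h1 := cj_mono r b.low
  rwa [cj_eq_of_mem_normalizer (le_normalizer_o2 _ (b.RR_cz hr))] at h1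

theorem L_NN : zl (S : Subgroup G) P ≤ NN S P K p := le_cl _ _

theorem RN : RR S P K p ≤ normalizer (NN S P K p : Set G) := le_normalizer_cl _ _

theorem WN (g : Ix P p) : cj g.1 W ≤ NN S P K p := by
  have h1 : W ≤ cj g.1⁻¹ (NN S P K p) := by
    refine b.gen _ ?_ ?_
    · rw [mem_cj, inv_inv]
      exact b.L_NN ((mem_normalizer_iff.1 (b.PL g.2.1) _).1 (mul_mem (b.pL 0) (b.pL 1)))
    · have h2 : cj g.1 K ≤ RR S P K p := (le_iSup (fun g : Ix P p => cj g.1 K) g).trans le_sup_right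
      have h3 := norm_cj (g := g.1⁻¹) (h2.trans b.RN)
      rwa [cj_inv_cj] at h3
  have h2 := cj_mono g.1 h1
  rwa [cj_cj_inv] at h2

/-- `Q` normalises the `W^g` -/
theorem QWg (g : Ix P p) : o2 P ≤ normalizer ((cj g.1 W : Subgroup G) : Set G) := by
  have h1 := norm_cj (g := g.1) b.QW
  rwa [b.cjQ g] at h1

theorem PIg (g : Ix P p) : o2 P ⊓ centralizer ((cj g.1 W : Subgroup G) : Set G) =
    cj g.1 (o2 P ⊓ centralizer (W : Set G)) := by
  rw [cj_inf, b.cjQ g, cj_centralizer]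

/-- `free` for `W^g` -/
theorem freeg (g : Ix P p) {q w : G} (hq : q ∈ o2 P) (hw : w ∈ cj g.1 W) (hwL : w ∉ zl (S : Subgroup G) P)
    (h : q * w = w * q) : q ∈ centralizer ((cj g.1 W : Subgroup G) : Set G) := by
  have h1 : g.1⁻¹ * q * g.1 ∈ o2 P := by
    rw [← b.cjQ g] at hq
    exact mem_cj.1 hq
  have h2 : g.1⁻¹ * w * g.1 ∉ zl (S : Subgroup G) P := fun h3 => hwL (by
    rw [← b.cjL g]; exact mem_cj.2 h3)
  have h3 := b.free _ h1 _ (mem_cj.1 hw) h2 (by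
    have := congrArg (fun x => g.1⁻¹ * x * g.1) h
    have e1 : g.1⁻¹ * (q * w) * g.1 = g.1⁻¹ * q * g.1 * (g.1⁻¹ * w * g.1) := by group
    have e2 : g.1⁻¹ * (w * q) * g.1 = g.1⁻¹ * w * g.1 * (g.1⁻¹ * q * g.1) := by group
    simp only [e1, e2] at this
    exact this)
  rw [← cj_centralizer]
  exact mem_cj.2 h3

theorem idxWg (g : Ix P p) : 4 ≤ (zl (S : Subgroup G) P).relIndex (cj g.1 W) := by
  have h1 := relIndex_cj g.1 (zl (S : Subgroup G) P) W
  rw [b.cjL g] at h1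
  rw [h1]; exact b.idxW

theorem idxQg (g : Ix P p) : (centralizer ((cj g.1 W : Subgroup G) : Set G)).relIndex (o2 P) ≤ 4 := by
  have h1 := relIndex_cj g.1 (centralizer (W : Set G)) (o2 P)
  rw [b.cjQ g, cj_centralizer] at h1
  rw [h1]; exact b.idxQ

/-- `C_{W^g}(A') ≤ L` if `A' ≤ Q` moves `W^g` -/
theorem idxA (g : Ix P p) {A' : Subgroup G} (hA : A' ≤ o2 P) (hne : ¬ A' ≤ centralizer ((cj g.1 W : Subgroup G) : Set G)) :
    4 ≤ (centralizer (A' : Set G)).relIndex (cj g.1 W) := by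
  obtain ⟨q, hq, hqn⟩ := SetLike.not_le_iff_exists.1 hne
  have h1 : cj g.1 W ⊓ centralizer (A' : Set G) ≤ zl (S : Subgroup G) P := by
    intro w hw
    by_contra hwL
    exact hqn (b.freeg g (hA hq) hw.1 hwL (mem_centralizer_iff.1 hw.2 q hq))
  have h2 : (zl (S : Subgroup G) P).relIndex (cj g.1 W) ≤ (cj g.1 W ⊓ centralizer (A' : Set G)).relIndex (cj g.1 W) :=
    relIndex_le_of_le_left h1 index_ne_zero_of_finite
  rw [inf_relIndex_left] at h2
  exact (b.idxWg g).trans h2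

theorem noWg (g : Ix P p) (A' : Subgroup G) (hA : A' ≤ o2 P) (hne : ¬ A' ≤ centralizer ((cj g.1 W : Subgroup G) : Set G)) :
    Nat.card A' * Nat.card ↥(cj g.1 W ⊓ centralizer (A' : Set G)) ≤
      Nat.card (cj g.1 W) * Nat.card ↥(A' ⊓ centralizer ((cj g.1 W : Subgroup G) : Set G)) := by
  rw [FFThm.relIndex_le_iff]
  refine le_trans ?_ (b.idxA g hA hne)
  exact (relIndex_le_of_le_right hA index_ne_zero_of_finite).trans (b.idxQg g)

theorem lineWg (g : Ix P p) (A' : Subgroup G) (hA : A' ≤ o2 P) (ho : OffM (cj g.1 W) A') :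
    CIn A' (cj g.1 W) (cj g.1 (W ⊓ zl (S : Subgroup G) P)) ∧ ∀ Z' : Subgroup G, CIn A' (cj g.1 W) Z' →
      cj g.1 (closure {p 0 * p 1, p 0 * p 4}) ≤ Z' := by
  have hcov : ∀ q ∈ o2 P, ∃ a ∈ A', ∃ c ∈ centralizer ((cj g.1 W : Subgroup G) : Set G), q = a * c := by
    have h1 : 4 ≤ (centralizer ((cj g.1 W : Subgroup G) : Set G)).relIndex A' :=
      (b.idxA g hA ho.ne).trans (FFThm.relIndex_le_iff.1 ho.le)
    have h2 := b.idxQg g
    set C := o2 P ⊓ centralizer ((cj g.1 W : Subgroup G) : Set G) with hC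
    have hn : A' ≤ normalizer (C : Set G) := by
      have h3 : o2 P ≤ normalizer (C : Set G) := by
        have h4 := NO3b.EZero.le_normalizer_inf_cent (b.QWg g)
        exact h4
      exact hA.trans h3
    have h3 := NOne.Flat.Off.card_sup_mul_inf hn
    have h4 : A' ⊓ C = A' ⊓ centralizer ((cj g.1 W : Subgroup G) : Set G) := by
      rw [hC, ← inf_assoc, inf_eq_left.2 hA]
    rw [h4] at h3
    have h5 := relIndex_mul_card A' (centralizer ((cj g.1 W : Subgroup G) : Set G))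
    have h6 := relIndex_mul_card (o2 P) (centralizer ((cj g.1 W : Subgroup G) : Set G))
    rw [← hC] at h6
    have hle : A' ⊔ C ≤ o2 P := sup_le hA inf_le_left
    have hge : Nat.card ↥(o2 P) ≤ Nat.card ↥(A' ⊔ C) := by
      have p1 : 0 < Nat.card ↥(A' ⊓ centralizer ((cj g.1 W : Subgroup G) : Set G)) := Nat.card_pos
      refine Nat.le_of_mul_le_mul_right (c := Nat.card ↥(A' ⊓ centralizer ((cj g.1 W : Subgroup G) : Set G))) ?_ p1
      rw [h3, ← h5, ← h6]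
      calc (centralizer ((cj g.1 W : Subgroup G) : Set G)).relIndex (o2 P) * Nat.card C *
            Nat.card ↥(A' ⊓ centralizer ((cj g.1 W : Subgroup G) : Set G))
          ≤ (centralizer ((cj g.1 W : Subgroup G) : Set G)).relIndex A' * Nat.card C *
            Nat.card ↥(A' ⊓ centralizer ((cj g.1 W : Subgroup G) : Set G)) :=
            Nat.mul_le_mul_right _ (Nat.mul_le_mul_right _ (h2.trans h1))
        _ = _ := by ring
    have he : A' ⊔ C = o2 P := Subgroup.eq_of_le_of_card_ge hle hge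
    intro q hq
    rw [← he] at hq
    obtain ⟨a, ha, c, hc, rfl⟩ := mem_sup_norm hn hq
    exact ⟨a, ha, c, hc.2, rfl⟩
  constructor
  · intro q hq w hw
    have hq' : g.1⁻¹ * q * g.1 ∈ o2 P := by
      have h1 := hA hq
      rw [← b.cjQ g] at h1
      exact mem_cj.1 h1
    have hw' := mem_cj.1 hw
    rw [mem_cj]
    have e : g.1⁻¹ * (q * w * q⁻¹ * w⁻¹) * g.1 = (g.1⁻¹ * q * g.1) * (g.1⁻¹ * w * g.1) * (g.1⁻¹ * q * g.1)⁻¹ *
        (g.1⁻¹ * w * g.1)⁻¹ := by group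
    rw [e]
    exact mem_inf.2 ⟨mul_mem ((mem_normalizer_iff.1 (b.QW hq') _).1 hw') (inv_mem hw'), b.quad _ hq' _ hw'⟩
  · intro Z' hZ'
    have h1 : CIn (o2 P) W (cj g.1⁻¹ Z') := by
      intro q hq w hw
      rw [mem_cj, inv_inv]
      have hq' : g.1 * q * g.1⁻¹ ∈ o2 P := by
        rw [← b.cjQ g]; exact mem_cj_conj hq
      have hw' : g.1 * w * g.1⁻¹ ∈ cj g.1 W := mem_cj_conj hw
      obtain ⟨a, ha, c, hc, h2⟩ := hcov _ hq'
      have h3 := hZ' a ha _ hw'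
      have h4 := mem_centralizer_iff.1 hc _ hw'
      have e : g.1 * (q * w * q⁻¹ * w⁻¹) * g.1⁻¹ = (g.1 * q * g.1⁻¹) * (g.1 * w * g.1⁻¹) * (g.1 * q * g.1⁻¹)⁻¹ *
          (g.1 * w * g.1⁻¹)⁻¹ := by group
      rw [e, h2]
      have e2 : a * c * (g.1 * w * g.1⁻¹) * (a * c)⁻¹ * (g.1 * w * g.1⁻¹)⁻¹ =
          a * (c * (g.1 * w * g.1⁻¹)) * c⁻¹ * a⁻¹ * (g.1 * w * g.1⁻¹)⁻¹ := by group
      rw [e2, ← h4]
      have e3 : a * (g.1 * w * g.1⁻¹ * c) * c⁻¹ * a⁻¹ * (g.1 * w * g.1⁻¹)⁻¹ =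
          a * (g.1 * w * g.1⁻¹) * a⁻¹ * (g.1 * w * g.1⁻¹)⁻¹ := by group
      rw [e3]
      exact h3
    have h2 := b.comm _ h1
    have h3 : closure {p 0 * p 1, p 0 * p 4} ≤ cj g.1⁻¹ Z' := by
      rw [closure_le]
      rintro x (rfl | hx)
      · exact h2.1
      · rw [Set.mem_singleton_iff.1 hx]; exact h2.2
    have h4 := cj_mono g.1 h3
    rwa [cj_cj_inv] at h4

/-- an element of `P` with given letters -/
theorem exists_perm (σ : Equiv.Perm (Fin 5)) : ∃ g ∈ P, ∀ i, g * p i * g⁻¹ = p (σ i) := b.five.std.full σ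

theorem conj_mul {g h x y : G} (hx : h * x * h⁻¹ = y) : (g * h) * x * (g * h)⁻¹ = g * y * g⁻¹ := by
  rw [← hx]; group

/-- `sep` from an element `h ∈ P` exchanging `4` and a letter -/
theorem sep_aux (g : Ix P p) (h : G) (hP : h ∈ P) (h0 : h * p 0 * h⁻¹ = p 0) (h1 : h * p 1 * h⁻¹ = p 1)
    (hx : (g.1 * h) * p 2 * (g.1 * h)⁻¹ = p 4 ∨ (g.1 * h) * p 3 * (g.1 * h)⁻¹ = p 4)
    (hn : p 0 * p 4 ∉ cj h (closure ({p 0 * p 1, p 0 * p 4, aa p} : Set G))) :
    ∃ j : Ix P p, ¬ cj g.1 (closure {p 0 * p 1, p 0 * p 4}) ≤ cj j.1 (W ⊓ zl (S : Subgroup G) P) ∧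
      ∀ x ∈ cj j.1 K ⊔ o2 P, cj x (cj g.1 (closure {p 0 * p 1, p 0 * p 4})) ≤ cj g.1 (W ⊓ zl (S : Subgroup G) P) →
        x ∈ normalizer ((cj j.1 (W ⊓ zl (S : Subgroup G) P) : Subgroup G) : Set G) := by
  refine ⟨⟨g.1 * h, mul_mem g.2.1 hP, hx⟩, fun hle => hn ?_, fun x hxK hle => ?_⟩
  · have h2 : g.1 * (p 0 * p 4) * g.1⁻¹ ∈ cj g.1 (closure {p 0 * p 1, p 0 * p 4}) :=
      mem_cj_conj (subset_closure (by simp))
    have h3 := hle h2
    have h4 := cj_mono (g.1 * h) b.WL h3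
    rw [← cj_cj, mem_cj] at h4
    have e : g.1⁻¹ * (g.1 * (p 0 * p 4) * g.1⁻¹) * g.1 = p 0 * p 4 := by group
    rwa [e] at h4
  · simp only at hxK hle ⊢
    set j : Ix P p := ⟨g.1 * h, mul_mem g.2.1 hP, hx⟩ with hj
    -- `x = j x' j⁻¹`
    have hx' : (g.1 * h)⁻¹ * x * (g.1 * h) ∈ K ⊔ o2 P := by
      have h2 : cj (g.1 * h) (K ⊔ o2 P) = cj (g.1 * h) K ⊔ o2 P := by
        rw [cj, Subgroup.map_sup]
        congr 1
        exact b.cjQ j
      rw [← h2] at hxK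
      exact mem_cj.1 hxK
    have h2 : g.1 * (p 0 * p 1) * g.1⁻¹ ∈ cj g.1 (closure {p 0 * p 1, p 0 * p 4}) :=
      mem_cj_conj (subset_closure (by simp))
    have h3 : x * (g.1 * (p 0 * p 1) * g.1⁻¹) * x⁻¹ ∈ zl (S : Subgroup G) P := by
      have h4 := hle (mem_cj_conj (g := x) h2)
      have h5 := cj_mono g.1 (inf_le_right : W ⊓ zl (S : Subgroup G) P ≤ zl (S : Subgroup G) P) h4
      rwa [b.cjL g] at h5
    have h01 : h * (p 0 * p 1) * h⁻¹ = p 0 * p 1 := by rw [NTwo.cm, h0, h1]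
    have h4 : ((g.1 * h)⁻¹ * x * (g.1 * h)) * (p 0 * p 1) * ((g.1 * h)⁻¹ * x * (g.1 * h))⁻¹ ∈ zl (S : Subgroup G) P := by
      have e : ((g.1 * h)⁻¹ * x * (g.1 * h)) * (p 0 * p 1) * ((g.1 * h)⁻¹ * x * (g.1 * h))⁻¹ =
          (g.1 * h)⁻¹ * (x * (g.1 * (h * (p 0 * p 1) * h⁻¹) * g.1⁻¹) * x⁻¹) * ((g.1 * h)⁻¹)⁻¹ := by group
      rw [e, h01]
      exact (mem_normalizer_iff.1 (b.PL (inv_mem (mul_mem g.2.1 hP))) _).1 h3
    have h5 := b.ti _ hx' _ (Or.inl rfl) h4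
    have h6 := norm_cj (g := g.1 * h) (zpowers_le.2 h5)
    have h7 : x ∈ cj (g.1 * h) (zpowers ((g.1 * h)⁻¹ * x * (g.1 * h))) := by
      rw [mem_cj]; exact mem_zpowers _
    exact h6 h7

theorem sep (g : Ix P p) : ∃ j : Ix P p, ¬ cj g.1 (closure {p 0 * p 1, p 0 * p 4}) ≤ cj j.1 (W ⊓ zl (S : Subgroup G) P) ∧
      ∀ x ∈ cj j.1 K ⊔ o2 P, cj x (cj g.1 (closure {p 0 * p 1, p 0 * p 4})) ≤ cj g.1 (W ⊓ zl (S : Subgroup G) P) →
        x ∈ normalizer ((cj j.1 (W ⊓ zl (S : Subgroup G) P) : Subgroup G) : Set G) := by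
  have hcl : ∀ h : G, ∀ c d e : G, h * (p 0 * p 1) * h⁻¹ = c → h * (p 0 * p 4) * h⁻¹ = d → h * aa p * h⁻¹ = e →
      cj h (closure ({p 0 * p 1, p 0 * p 4, aa p} : Set G)) ≤ closure ({c, d, e} : Set G) := by
    intro h c d e hc hd he
    rw [cj, MonoidHom.map_closure, closure_le]
    rintro _ ⟨x, rfl | rfl | hx, rfl⟩
    · exact subset_closure (Or.inl hc)
    · exact subset_closure (Or.inr (Or.inl hd))
    · rw [Set.mem_singleton_iff.1 hx]
      exact subset_closure (Or.inr (Or.inr he))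
  rcases g.2.2 with h | h
  · -- `h = (3 4)`
    obtain ⟨h', hP, hh⟩ := b.exists_perm (Equiv.swap 3 4)
    have s0 : h' * p 0 * h'⁻¹ = p 0 := hh 0
    have s1 : h' * p 1 * h'⁻¹ = p 1 := hh 1
    have s2 : h' * p 2 * h'⁻¹ = p 2 := hh 2
    have s3 : h' * p 3 * h'⁻¹ = p 4 := hh 3
    have s4 : h' * p 4 * h'⁻¹ = p 3 := hh 4
    refine b.sep_aux g h' hP s0 s1 (Or.inl ?_) fun hm => ?_
    · rw [b.conj_mul s2, h]
    · have h2 := hcl h' (p 0 * p 1) (p 0 * p 3) (p 2 * p 4) (by rw [NTwo.cm, s0, s1]) (by rw [NTwo.cm, s0, s4])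
        (by rw [aa, NTwo.cm, s2, s3]) hm
      exact not_mem b.five.std.toFv (a := 0) (b := 1) (c := 3) (d := 4) (e := 2) (by decide) (by decide) (by decide)
        (by decide) (by decide) (by decide) (by decide) h2
  · obtain ⟨h', hP, hh⟩ := b.exists_perm (Equiv.swap 2 4)
    have s0 : h' * p 0 * h'⁻¹ = p 0 := hh 0
    have s1 : h' * p 1 * h'⁻¹ = p 1 := hh 1
    have s2 : h' * p 2 * h'⁻¹ = p 4 := hh 2
    have s3 : h' * p 3 * h'⁻¹ = p 3 := hh 3
    have s4 : h' * p 4 * h'⁻¹ = p 2 := hh 4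
    refine b.sep_aux g h' hP s0 s1 (Or.inr ?_) fun hm => ?_
    · rw [b.conj_mul s3, h]
    · have h2 := hcl h' (p 0 * p 1) (p 0 * p 2) (p 3 * p 4) (by rw [NTwo.cm, s0, s1]) (by rw [NTwo.cm, s0, s4])
        (by rw [aa, NTwo.cm, s2, s3, b.five.std.comm]) hm
      exact not_mem b.five.std.toFv (a := 0) (b := 1) (c := 2) (d := 4) (e := 3) (by decide) (by decide) (by decide)
        (by decide) (by decide) (by decide) (by decide) h2

/-- an element `x ∈ S` acting as `(0 1)` moves some `W^g` much -/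
theorem act01 {x : G} (hx : x ∈ (S : Subgroup G)) (hσ : ∀ i, x * p i * x⁻¹ = p (Equiv.swap 0 1 i)) :
    ∃ g : Ix P p, 2 < (centralizer ({x} : Set G)).relIndex (cj g.1 W) := by
  obtain ⟨g₀, hg₀, hh⟩ := b.exists_perm (Equiv.swap 2 4)
  -- the action of `g₀⁻¹ x g₀`
  have hinv : ∀ i, g₀⁻¹ * p i * g₀ = p (Equiv.swap 2 4 i) := by
    intro i
    have h1 := hh (Equiv.swap 2 4 i)
    rw [Equiv.swap_apply_self] at h1
    rw [← h1]; group
  set a := g₀⁻¹ * x * g₀ with ha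
  have haP : a ∈ P := mul_mem (mul_mem (inv_mem hg₀) (b.SP hx)) hg₀
  have haσ : ∀ i, a * p i * a⁻¹ = p (Equiv.swap 0 1 i) := by
    intro i
    have e : a * p i * a⁻¹ = g₀⁻¹ * (x * (g₀ * p i * g₀⁻¹) * x⁻¹) * g₀ := by rw [ha]; group
    rw [e, hh, hσ, hinv]
    congr 1
    clear e
    revert i
    decide
  -- `a ∈ C_P(L) S`
  set C0 := P ⊓ centralizer (zl (S : Subgroup G) P : Set G) with hC0
  have hPC : P ≤ normalizer (C0 : Set G) := NO3b.EZero.le_normalizer_inf_cent b.PL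
  have hax : a * x⁻¹ ∈ C0 := by
    refine mem_inf.2 ⟨mul_mem haP (inv_mem (b.SP hx)), ?_⟩
    rw [b.five.gen, centralizer_closure, mem_centralizer_iff]
    rintro _ ⟨i, rfl⟩
    have hxi : x⁻¹ * p i * x = p (Equiv.swap 0 1 i) := by
      have h1 := hσ (Equiv.swap 0 1 i)
      rw [Equiv.swap_apply_self] at h1
      rw [← h1]; group
    have h1 : (a * x⁻¹) * p i * (a * x⁻¹)⁻¹ = p i := by
      have e : (a * x⁻¹) * p i * (a * x⁻¹)⁻¹ = a * (x⁻¹ * p i * x) * a⁻¹ := by group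
      rw [e, hxi, haσ, Equiv.swap_apply_self]
    exact (NTwo.comm_iff.1 h1).symm
  have hSC : (S : Subgroup G) ≤ normalizer (C0 : Set G) := b.SP.trans hPC
  have haSC : a ∈ (S : Subgroup G) ⊔ C0 := by
    have h1 : a = (a * x⁻¹) * x := by group
    rw [h1]
    exact mul_mem (mem_sup_right hax) (mem_sup_left hx)
  have h2a : IsPGroup 2 (zpowers a) := by
    have h1 : zpowers a = cj g₀⁻¹ (zpowers x) := by
      rw [cj, MonoidHom.map_zpowers]
      congr 1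
      simp [ha]
    rw [h1]
    exact isPGroup_cj _ (S.isPGroup'.to_le (zpowers_le.2 hx))
  obtain ⟨n, hn, hnS⟩ := NO3b.Union.exists_conj_le (S := S) (N := (S : Subgroup G) ⊔ C0) le_sup_left h2a
    (zpowers_le.2 haSC)
  obtain ⟨s, hs, c, hc, rfl⟩ := mem_sup_norm hSC hn
  have h3 : c * a * c⁻¹ ∈ (S : Subgroup G) := by
    have h4 : (s * c) * a * (s * c)⁻¹ ∈ (S : Subgroup G) := hnS (mem_cj_conj (mem_zpowers a))
    have h5 := mul_mem (mul_mem (inv_mem hs) h4) hs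
    have e : s⁻¹ * ((s * c) * a * (s * c)⁻¹) * s = c * a * c⁻¹ := by group
    rwa [e] at h5
  have hcp : ∀ i, c * p i * c⁻¹ = p i := fun i =>
    NTwo.comm_iff.2 (mem_centralizer_iff.1 hc.2 _ (b.pL i)).symm
  have hcp' : ∀ i, c⁻¹ * p i * c = p i := by
    intro i
    have h1 := hcp i
    calc c⁻¹ * p i * c = c⁻¹ * (c * p i * c⁻¹) * c := by rw [h1]
      _ = p i := by group
  have hb' : ∀ i, (c * a * c⁻¹) * p i * (c * a * c⁻¹)⁻¹ = p (Equiv.swap 0 1 i) := by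
    intro i
    have e : (c * a * c⁻¹) * p i * (c * a * c⁻¹)⁻¹ = c * (a * (c⁻¹ * p i * c) * a⁻¹) * c⁻¹ := by group
    rw [e, hcp', haσ, hcp]
  have h4 := b.mvB _ h3 (hb' 0) (hb' 1) (hb' 2) (hb' 3)
  refine ⟨⟨g₀ * c⁻¹, mul_mem hg₀ (inv_mem hc.1), Or.inl ?_⟩, ?_⟩
  · have e : (g₀ * c⁻¹) * p 2 * (g₀ * c⁻¹)⁻¹ = g₀ * (c⁻¹ * p 2 * c) * g₀⁻¹ := by group
    rw [e, hcp', hh]
    rfl
  · have h5 := relIndex_cj (g₀ * c⁻¹) (centralizer ({c * a * c⁻¹} : Set G)) W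
    rw [cj_cent_sing] at h5
    have e : g₀ * c⁻¹ * (c * a * c⁻¹) * (g₀ * c⁻¹)⁻¹ = x := by rw [ha]; group
    rw [e] at h5
    rw [h5]
    exact h4

theorem actL (A' : Subgroup G) (hA : A' ≤ (S : Subgroup G)) (ho : OffM (zl (S : Subgroup G) P) A') :
    ∃ a ∈ A', ∃ g : Ix P p, (centralizer ({a} : Set G)).relIndex (zl (S : Subgroup G) P) <
      (centralizer ({a} : Set G)).relIndex (cj g.1 W) := by
  obtain ⟨Y⟩ := b.sym
  have hcv : cv (S : Subgroup G) P = ⊥ := b.five.toHyp.cen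
  obtain ⟨-, h1⟩ := Y.offM A' hA ho
  obtain ⟨a, ha, hne⟩ := SetLike.not_le_iff_exists.1 ho.ne
  obtain ⟨τ, hτ, h2⟩ := h1 a ha
  -- `τ 0 ≠ 1`
  have hLn : ∀ y ∈ A', ∀ v ∈ zl (S : Subgroup G) P, y * v * y⁻¹ ∈ zl (S : Subgroup G) P := fun y hy v hv =>
    (mem_normalizer_iff.1 (b.PL (b.SP (hA hy))) v).1 hv
  have hinj : ∀ v ∈ zl (S : Subgroup G) P, ∀ w ∈ zl (S : Subgroup G) P, Y.e v = Y.e w → v = w := by
    intro v hv w hw h
    have hw2 : w * w = 1 := by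
      have := b.Xs w (b.LX hw)
      rwa [pow_two] at this
    have h3 : Y.e (v * w) = 0 := by
      rw [Y.mul v hv w hw, h]
      funext i x
      exact CharTwo.add_self_eq_zero _
    have h4 := (Y.ker _ (mul_mem hv hw)).1 h3
    rw [hcv, mem_bot] at h4
    calc v = v * (w * w) := by rw [hw2, mul_one]
      _ = v * w * w := by rw [mul_assoc]
      _ = w := by rw [h4, one_mul]
  obtain ⟨x, hx⟩ : ∃ x, τ 0 x ≠ x := by
    by_contra hcon
    push Not at hcon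
    apply hne
    rw [mem_centralizer_iff]
    intro v hv
    have h3 : a * v * a⁻¹ = v := by
      refine hinj _ (hLn a ha v hv) _ hv ?_
      funext i y
      have hi : i = 0 := Subsingleton.elim _ _
      subst hi
      have h4 := hτ v hv 0 y
      rw [hcon y] at h4
      exact h4
    exact (NTwo.comm_iff.1 h3).symm
  obtain ⟨-, c, hc, h3⟩ := h2 0 x hx
  set y := τ 0 x with hy
  -- `c` acts as the transposition `(x y)`
  have hact : ∀ v ∈ zl (S : Subgroup G) P, ∀ w, Y.e (c * v * c⁻¹) 0 (Equiv.swap x y w) = Y.e v 0 w := by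
    intro v hv w
    have h4 := h3 v hv 0 w
    simpa using h4
  have hfix : ∀ v ∈ zl (S : Subgroup G) P, Y.e v 0 x = Y.e v 0 y → v ∈ centralizer ({c} : Set G) := by
    intro v hv he
    rw [mem_centralizer_singleton_iff]
    have h4 : c * v * c⁻¹ = v := by
      refine hinj _ (hLn c hc v hv) _ hv ?_
      funext i w
      have hi : i = 0 := Subsingleton.elim _ _
      subst hi
      have h5 := hact v hv (Equiv.swap x y w)
      rw [Equiv.swap_apply_self] at h5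
      rw [h5]
      by_cases hwx : w = x
      · rw [hwx, Equiv.swap_apply_left, he]
      · by_cases hwy : w = y
        · rw [hwy, Equiv.swap_apply_right, he]
        · rw [Equiv.swap_apply_of_ne_of_ne hwx hwy]
    exact (NTwo.comm_iff.1 h4).symm
  have hidx : (centralizer ({c} : Set G)).relIndex (zl (S : Subgroup G) P) ≤ 2 := by
    have h4 : (centralizer ({c} : Set G)).relIndex (zl (S : Subgroup G) P) ∣ 2 := by
      rw [relIndex_dvd_two_iff]
      by_cases hall : ∀ v ∈ zl (S : Subgroup G) P, Y.e v 0 x = Y.e v 0 y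
      · exact ⟨1, one_mem _, fun v hv => Or.inr (hfix v hv (hall v hv))⟩
      · push Not at hall
        obtain ⟨v₀, hv₀, hne₀⟩ := hall
        refine ⟨v₀, hv₀, fun v hv => ?_⟩
        by_cases he : Y.e v 0 x = Y.e v 0 y
        · exact Or.inr (hfix v hv he)
        · left
          apply hfix _ (mul_mem hv hv₀)
          rw [Y.mul v hv v₀ hv₀]
          have hz : ∀ s t s' t' : ZMod 2, s ≠ t → s' ≠ t' → s + s' = t + t' := by decide
          exact hz _ _ _ _ he hne₀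
    exact Nat.le_of_dvd (by norm_num) h4
  have hmv : c ∉ centralizer (zl (S : Subgroup G) P : Set G) := by
    intro hcon
    -- a vector with `e v 0 x ≠ e v 0 y`
    have hxy : x ≠ y := fun h => hx (h ▸ rfl)
    obtain ⟨z, hzx, hzy⟩ : ∃ z : Fin (2 ^ 2 + 1), z ≠ x ∧ z ≠ y := by
      have : ∀ x y : Fin (2 ^ 2 + 1), ∃ z : Fin (2 ^ 2 + 1), z ≠ x ∧ z ≠ y := by decide
      exact this x y
    obtain ⟨v, hv, he⟩ := Y.surj (fun _ w => if w = x ∨ w = z then 1 else 0) (by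
      intro i
      have : ∀ x z : Fin (2 ^ 2 + 1), z ≠ x → ∑ w : Fin (2 ^ 2 + 1), (if w = x ∨ w = z then (1 : ZMod 2) else 0) = 0 := by
        decide
      exact this x z hzx)
    have h4 := hact v hv x
    rw [Equiv.swap_apply_left] at h4
    have h5 : c * v * c⁻¹ = v := NTwo.comm_iff.2 (mem_centralizer_iff.1 hcon v hv).symm
    rw [h5, he] at h4
    simp only [true_or, if_true] at h4
    rw [if_neg (by
      push Not
      exact ⟨fun h => hxy h.symm, fun h => hzy h.symm⟩)] at h4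
    exact zero_ne_one h4
  have hcS := hA hc
  rcases swap_of b.five.std b.five.gen hcS hmv hidx with h4 | h4
  · obtain ⟨g, hg⟩ := b.act01 hcS h4
    exact ⟨c, hc, g, by omega⟩
  · obtain ⟨τ', hτ', h5⟩ := b.five.std.tau
    -- the letters of `τ'`
    obtain ⟨ρ, hρ⟩ := b.five.std.perm τ' (b.SP hτ')
    have h6 : (ρ 0 = 2 ∧ ρ 1 = 3) ∨ (ρ 0 = 3 ∧ ρ 1 = 2) := by
      rw [NTwo.cm, hρ, hρ] at h5
      exact pair_eq b.five.std.toFv (by decide) h5.symm
    have h7 : (ρ 2 = 0 ∧ ρ 3 = 1) ∨ (ρ 2 = 1 ∧ ρ 3 = 0) := by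
      have h8 := b.five.std.s_eq_conj hτ' h5
      rw [aa, NTwo.cm, hρ, hρ] at h8
      exact pair_eq b.five.std.toFv (by decide) h8.symm
    have h8 : ∀ i, (τ' * c * τ'⁻¹) * p i * (τ' * c * τ'⁻¹)⁻¹ = p (Equiv.swap 0 1 i) := by
      intro i
      have hρ' : τ'⁻¹ * p i * τ' = p (ρ.symm i) := by
        have h9 := hρ (ρ.symm i)
        rw [Equiv.apply_symm_apply] at h9
        rw [← h9]; group
      have e : (τ' * c * τ'⁻¹) * p i * (τ' * c * τ'⁻¹)⁻¹ = τ' * (c * (τ'⁻¹ * p i * τ') * c⁻¹) * τ'⁻¹ := by group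
      rw [e, hρ', h4, hρ]
      congr 1
      have : ∀ ρ : Equiv.Perm (Fin 5), ((ρ 2 = 0 ∧ ρ 3 = 1) ∨ (ρ 2 = 1 ∧ ρ 3 = 0)) → ∀ i,
          ρ (Equiv.swap 2 3 (ρ.symm i)) = Equiv.swap 0 1 i := by
        intro ρ h i
        have e1 : ρ * Equiv.swap 2 3 * ρ⁻¹ = Equiv.swap (ρ 2) (ρ 3) := by
          rw [Equiv.swap_apply_apply, mul_assoc]
        have e2 := congrArg (fun σ : Equiv.Perm (Fin 5) => σ i) e1
        simp only [Equiv.Perm.mul_apply] at e2
        rw [show (ρ⁻¹ : Equiv.Perm (Fin 5)) i = ρ.symm i from rfl] at e2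
        rw [e2]
        rcases h with ⟨h1, h2⟩ | ⟨h1, h2⟩
        · rw [h1, h2]
        · rw [h1, h2, Equiv.swap_comm]
      exact this ρ h7 i
    obtain ⟨g, hg⟩ := b.act01 (mul_mem (mul_mem hτ' hcS) (inv_mem hτ')) h8
    have hτ4 : τ'⁻¹ * p 4 * τ' = p 4 := by
      have h9 := b.five.std.fix _ (inv_mem hτ')
      rwa [inv_inv] at h9
    refine ⟨c, hc, ⟨τ'⁻¹ * g.1, mul_mem (inv_mem (b.SP hτ')) g.2.1, ?_⟩, ?_⟩
    · rcases g.2.2 with h9 | h9
      · left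
        have e : (τ'⁻¹ * g.1) * p 2 * (τ'⁻¹ * g.1)⁻¹ = τ'⁻¹ * (g.1 * p 2 * g.1⁻¹) * τ' := by group
        rw [e, h9, hτ4]
      · right
        have e : (τ'⁻¹ * g.1) * p 3 * (τ'⁻¹ * g.1)⁻¹ = τ'⁻¹ * (g.1 * p 3 * g.1⁻¹) * τ' := by group
        rw [e, h9, hτ4]
    · have h9 := relIndex_cj τ'⁻¹ (centralizer ({τ' * c * τ'⁻¹} : Set G)) (cj g.1 W)
      rw [cj_cent_sing, cj_cj] at h9
      have e : τ'⁻¹ * (τ' * c * τ'⁻¹) * τ'⁻¹⁻¹ = c := by group
      rw [e] at h9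
      simp only
      rw [h9]
      omega

theorem noOver : NoOverM (zl (S : Subgroup G) P) P := by
  obtain ⟨A', hA', ho⟩ := b.cl.ff P b.cl.pss
  exact (FF.Glob.ffthmM G (S : Subgroup G) P ⟨b.SP, S.isPGroup', fun _ _ hT hST => S.is_maximal' hT hST⟩
    b.cl.pss.par.toIsMinPar (b.cl.pss.par.isLoc.char2 S b.cl.ctx.char2) ⟨A', hA'.trans b.SP, ho⟩).1

theorem exists_ix : ∃ g : Ix P p, g.1 ∈ P := by
  obtain ⟨g, hg, h⟩ := b.exists_perm (Equiv.swap 2 4)
  exact ⟨⟨g, hg, Or.inl (h 2)⟩, hg⟩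

theorem five' : Five (RR S P K p) (S : Subgroup G) (o2 P) (zl (S : Subgroup G) P) (NN S P K p) (R0 S P)
    (fun g : Ix P p => cj g.1 W) (fun g => cj g.1 K) (fun g => cj g.1 (closure {p 0 * p 1, p 0 * p 4}))
    (fun g => cj g.1 (W ⊓ zl (S : Subgroup G) P)) (fun g => cj g.1 A) where
  Nc := b.NN_X.trans (b.Xc.trans (centralizer_le b.NN_X))
  Ns := fun n hn => b.Xs n (b.NN_X hn)
  RN := b.RN
  SR := b.S_RR
  syl := fun Y hY hY2 => NO3b.Union.exists_conj_le b.S_RR hY2 hY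
  QS := b.QS
  SQL := (b.cl.pss.par.inf_centralizer S b.cl.ctx.char2).le
  LN := b.L_NN
  QL := b.QL
  R0R := le_sup_left
  R0Q := inf_le_left.trans b.PQ
  KR := fun g => (le_iSup (fun g : Ix P p => cj g.1 K) g).trans le_sup_right
  gen := le_rfl
  Ngen := fun Y hLY hRY => cl_le fun r hr => by
    have h1 := cj_mono r hLY
    rwa [cj_eq_of_mem_normalizer (hRY hr)] at h1
  WN := b.WN
  KPI := fun g => by
    rw [b.PIg g]
    exact norm_cj b.PI
  QPI := fun g => NO3b.EZero.le_normalizer_inf_cent (b.QWg g)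
  off := by
    obtain ⟨g, hg⟩ := b.exists_ix
    have hle : cj g.1 A ≤ o2 P := by
      have h1 := cj_mono g.1 b.AQ
      rwa [b.cjQ g] at h1
    refine ⟨cj g.1 A, hle.trans (b.QS.trans b.S_RR), (b.best g.1 hg _ b.NN_X b.NN_low).offM le_rfl fun h => b.mv ?_⟩
    have h1 : cj g.1 A ≤ centralizer ((cj g.1 W : Subgroup G) : Set G) := h.trans (centralizer_le (b.WN g))
    rw [← cj_centralizer] at h1
    have h2 := cj_mono g.1⁻¹ h1
    rwa [cj_inv_cj, cj_inv_cj] at h2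
  noL := fun Y hY hE _ => b.noOver Y (hY.trans b.SP) hE
  actL := b.actL
  noW := fun g Y hY _ hne => b.noWg g Y hY hne
  lineW := fun g Y hY ho => b.lineWg g Y hY ho
  sep := b.sep
  EQ := fun g => by
    have h1 := cj_mono g.1 b.AQ
    rwa [b.cjQ g] at h1
  quad := fun g t ht n hn => by
    rw [mem_centralizer_iff]
    intro y hy
    exact (b.qd g.1 g.2.1 n (b.NN_X hn) (b.NN_low hn) t ht y hy).symm
  reg := fun g => by
    obtain ⟨y, hy, t, ht, t', ht', n1, n2, n3⟩ := b.reg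
    have hKQ : cj g.1 (K ⊔ o2 P) = cj g.1 K ⊔ o2 P := by
      rw [cj, Subgroup.map_sup]
      congr 1
      exact b.cjQ g
    have key : ∀ x : G, x ∉ normalizer (cj y (W ⊓ zl (S : Subgroup G) P) : Set G) →
        g.1 * x * g.1⁻¹ ∉ normalizer ((cj (g.1 * y * g.1⁻¹) (cj g.1 (W ⊓ zl (S : Subgroup G) P)) : Subgroup G) :
          Set G) := by
      intro x hx hcon
      apply hx
      have e : cj (g.1 * y * g.1⁻¹) (cj g.1 (W ⊓ zl (S : Subgroup G) P)) =
          cj g.1 (cj y (W ⊓ zl (S : Subgroup G) P)) := by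
        rw [cj_cj, cj_cj]
        congr 1
        group
      rw [e, ← cj_normalizer, mem_cj] at hcon
      have e2 : g.1⁻¹ * (g.1 * x * g.1⁻¹) * g.1 = x := by group
      rwa [e2] at hcon
    refine ⟨g.1 * y * g.1⁻¹, hKQ ▸ mem_cj_conj hy, g.1 * t * g.1⁻¹, mem_cj_conj ht, g.1 * t' * g.1⁻¹,
      mem_cj_conj ht', key t n1, key t' n2, ?_⟩
    have e : g.1 * t * g.1⁻¹ * (g.1 * t' * g.1⁻¹) = g.1 * (t * t') * g.1⁻¹ := by group
    rw [e]
    exact key _ n3

/-- **(TOR) for one block `S₅`.** -/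
theorem false_of : False := b.five'.false_of

end SBase

end Cfsg.Agent.Omega.NO3S.WY.TorFive
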