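import Cfsg.Agent.Omega.NO3S.WY.Tor.SFiveJ
import Cfsg.Agent.Omega.NO3S.WY.Tor.NatOne
import Cfsg.Agent.Omega.CaseLQ.FiveFacts
import Cfsg.Agent.Omega.CaseLQ.SitFive
import Cfsg.Agent.Omega.CaseLQ.OneY

/-!
# (TOR') for one `S₅`: `F ≤ ⟨nn p⟩`, `V_τ ≤ W`, `W ∩ V_P = V_τ F`

`t : TorS S P p Y`, `T = Std.T S p`, `W = ⟨aa p ^ Y⟩`, `F = C_W(O²(Y))`, `V_τ = ⟨p 2 p 3, p 2 p 4⟩`.

* `cvL` : `cv T Y ≤ V_P`; `hypN` : `NatOne.Hyp`;
* `cent_V` : `C_T(V_τ) ≤ O₂(P) O₂(Y)`;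
* **`TorS.Fq`**, **`TorS.Vt_le_cl`**, **`TorS.WL`**.
-/

set_option autoImplicit false
set_option linter.unusedSectionVars false

namespace Cfsg.Agent.Omega.NO3S.WY.Tor.SFiveFq

open Subgroup Cfsg Cfsg.Agent.ZN Cfsg.Agent.ZN.ChoiceBase
open Cfsg.Agent.ZN.ChoiceSit (Syl)
open Cfsg.Agent.MinSimple.VModule (oddGen mem_oddGen oddGen_le)
open Cfsg.Agent.Omega.FFThm (NatK NatKM ActsSL)
open Cfsg.Agent.Omega.FrameFF (cv)
open Cfsg.Agent.Omega.NatPair (ap ap_zero' ap_one' ap_one ap_mul ap_inv_ap ext2)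
open Cfsg.Agent.Lib.SL2Mat
open Cfsg.Agent.Omega.NO3b.EZero (cl cl_le le_cl cj_le_cl le_normalizer_cl cent_symm)
open Cfsg.Agent.Omega.NTwo (Std nn aa Fv)
open Cfsg.Agent.Omega.NO3S.Sym.Light (FiveL)
open Cfsg.Agent.Omega.NO3S.RedC (GX DX)
open Cfsg.Agent.Omega.NO3S.WY.Tor.SFive
open Cfsg.Agent.Omega.CaseLQ.FiveFacts (Vt mem_Vt Vt_eq Vt_le norm_Vt exists_t)

universe u

variable {G : Type u} [Group G] [Finite G] {S : Sylow 2 G} {P Y : Subgroup G} {p : Fin 5 → G}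

local notation "TT" => Std.T (S : Subgroup G) p
local notation "WW" => cl (zpowers (p 2 * p 3)) Y

variable (t : TorS S P p Y)
include t

theorem zl_le_zcD : zl TT Y ≤ zc (DX (S : Subgroup G) P Y) := by
  have h1 : zc TT ≤ zl (S : Subgroup G) (GX (S : Subgroup G) P Y) :=
    t.wy.toWQ.zcT_le.trans t.wy.toWQ.L_le_zl
  exact (ZN.zl_le h1 (t.wy.toWQ.Y_le.trans (ZN.le_normalizer_zl _ _))).trans t.wy.toWQ.zl_GX_le

/-- `C_U(O₂(P)) ≤ V_P`, `U = zl T Y` -/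
theorem cUQ : zl TT Y ⊓ centralizer (o2 P : Set G) ≤ zl (S : Subgroup G) P := by
  rw [← t.wy.toWQ.cvQ]
  exact inf_le_inf_right _ (zl_le_zcD t)

/-- `O₂(P)` centralises `cv T Y` -/
theorem Q_cv {q d : G} (hq : q ∈ o2 P) (hd : d ∈ cv TT Y) : q * d = d * q := by
  obtain ⟨F, _, _, _, N, -, -, rt⟩ := t.nat
  obtain ⟨b, hb⟩ := rt q hq
  exact hb.2 d hd

/-- **`cv T Y ≤ V_P`** -/
theorem cvL : cv TT Y ≤ zl (S : Subgroup G) P := fun _ hd =>
  cUQ t ⟨hd.1, mem_centralizer_iff.2 fun _ hq => Q_cv t hq hd⟩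

theorem L_cQ : zl (S : Subgroup G) P ≤ centralizer (o2 P : Set G) := by
  rw [← t.wy.toWQ.cl.zc_eq]
  exact fun x hx => mem_centralizer_iff.2 fun q hq => (ChoiceBase.mem_zc.1 hx).2.2 q hq

theorem aa_zc : p 2 * p 3 ∈ zc TT := t.five.std.mem_zcT.2 (Or.inr (Or.inr (Or.inl rfl)))

theorem nn_zc : nn p ∈ zc TT := t.five.std.mem_zcT.2 (Or.inr (Or.inl rfl))

theorem W_le : WW ≤ zl TT Y := cl_le fun y hy => by
  rw [← cj_eq_of_mem_normalizer (ZN.le_normalizer_zl _ _ hy : y ∈ normalizer (zl TT Y : Set G))]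
  exact cj_mono y ((zpowers_le).2 (ZN.zc_le_zl (aa_zc t)))

theorem nn_cv : nn p ∈ cv TT Y := by
  refine ⟨ZN.zc_le_zl (nn_zc t), mem_centralizer_iff.2 fun k hk => ?_⟩
  exact mem_centralizer_singleton_iff.1 (t.cen (oddGen_le Y hk))

theorem cvn : Y ≤ normalizer (cv TT Y : Set G) := fun y hy => by
  rw [mem_normalizer_iff_cj, FrameFF.cv, cj_inf, cj_centralizer,
    cj_eq_of_mem_normalizer (ZN.le_normalizer_zl _ _ hy : y ∈ normalizer (zl TT Y : Set G)),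
    cj_eq_of_mem_normalizer (MinSimple.VModule.le_normalizer_oddGen Y hy)]

/-- `W ≰ cv T Y` -/
theorem W_not : ¬ WW ≤ cv TT Y := by
  intro h
  obtain ⟨v, hv, hvc⟩ := t.exists_not_cv
  exact hvc ((t.zl_le_W.trans (sup_le h ((zpowers_le).2 (nn_cv t)))) hv)

/-- `aa p ∉ cv T Y` -/
theorem aa_not : p 2 * p 3 ∉ cv TT Y := fun h => W_not t (cl_le fun y hy => by
  rw [← cj_eq_of_mem_normalizer (cvn t hy)]
  exact cj_mono y ((zpowers_le).2 h))

/-- **`NatOne.Hyp`** -/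
theorem hypN {F : Type} [Field F] (N : NatKM F TT Y (zl TT Y) (cv TT Y) 1) (c4 : Nat.card F = 4)
    (line : ∀ v ∈ zl TT Y, N.e v 0 1 = 0 ↔ v ∈ closure {p 2 * p 3, p 2 * p 4} ⊔ cv TT Y)
    (rt : ∀ x ∈ o2 P, ∃ b : F, ActsSL N.e (zl TT Y) (cv TT Y) x fun _ => up b) :
    NatOne.Hyp N.toNatK (o2 P) (zl (S : Subgroup G) P) WW where
  syl := t.wy.syl
  min := t.wy.min
  YV := ZN.le_normalizer_zl _ _
  DE := rfl
  oV := t.cent_zl
  f4 := c4
  QT := t.wy.toWQ.QT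
  wc := fun y _ h => t.wy.toWQ.cl.wc.eq y (h.trans t.wy.TS)
  up := rt
  nQ := t.wy.nQ
  hL := fun v hv h0 => by
    have h1 := (line v hv).1 h0
    rw [Vt_eq t.five.std.toFv] at h1
    exact (sup_le (Vt_le t.five.toFive) (cvL t)) h1
  QL := L_cQ t
  WV := W_le t
  YW := le_normalizer_cl _ _
  nW := W_not t

omit t in
theorem exists_sup {U A B : Subgroup G} (Uc : ∀ x ∈ U, ∀ y ∈ U, x * y = y * x) (hA : A ≤ U) (hB : B ≤ U) {x : G}
    (hx : x ∈ A ⊔ B) : ∃ a ∈ A, ∃ b ∈ B, x = a * b := by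
  have hAB : A ≤ normalizer (B : Set G) := by
    have h1 : A ≤ centralizer (B : Set G) := fun a ha =>
      mem_centralizer_iff.2 fun b hb => Uc b (hB hb) a (hA ha)
    exact h1.trans (centralizer_le_normalizer _)
  have h1 : x ∈ ((A ⊔ B : Subgroup G) : Set G) := hx
  rw [coe_mul_of_left_le_normalizer_right A B hAB] at h1
  obtain ⟨a, ha, b, hb, hab⟩ := h1
  exact ⟨a, ha, b, hb, hab.symm⟩

theorem Vt_le_zl' {F : Type} [Field F] (N : NatKM F TT Y (zl TT Y) (cv TT Y) 1) [CharP F 2] (c4 : Nat.card F = 4)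
    (line : ∀ v ∈ zl TT Y, N.e v 0 1 = 0 ↔ v ∈ closure {p 2 * p 3, p 2 * p 4} ⊔ cv TT Y)
    (rt : ∀ x ∈ o2 P, ∃ b : F, ActsSL N.e (zl TT Y) (cv TT Y) x fun _ => up b) :
    closure {p 2 * p 3, p 2 * p 4} ≤ WW := by
  have hv := t.five.std.toFv
  have H := hypN t N c4 line rt
  obtain ⟨l, hl0, hl1, hl, -⟩ := NatOne.exists_lam c4
  obtain ⟨h, hh, hQ, b, hac⟩ := H.exists_h hl0 hl
  have hhY : h ∈ Y := oddGen_le Y hh
  rw [Vt_eq hv]
  -- `h` normalises `V_τ`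
  have hn1 : h ∈ normalizer (zl (S : Subgroup G) P : Set G) := by
    rw [← t.wy.toWQ.cl.zc_eq]
    exact normalizer_le_normalizer_zc _ hQ
  have hn2 : h ∈ normalizer (Vt p : Set G) := norm_Vt t.five ⟨hn1, t.cen hhY⟩
  set a' := h * (p 2 * p 3) * h⁻¹ with ha'
  have hma : p 2 * p 3 ∈ Vt p := (mem_Vt hv).2 (Or.inr (Or.inl rfl))
  have hm : a' ∈ Vt p := (mem_normalizer_iff.1 hn2 _).1 hma
  have hWa : p 2 * p 3 ∈ WW := le_cl _ _ (mem_zpowers _)
  have hW : a' ∈ WW := (mem_normalizer_iff.1 (le_normalizer_cl _ _ hhY) _).1 hWa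
  have hU : p 2 * p 3 ∈ zl TT Y := W_le t hWa
  have e1 : N.e (p 2 * p 3) 0 1 = 0 :=
    (line _ hU).2 (mem_sup_left (subset_closure (by simp)))
  have e0 : N.e (p 2 * p 3) 0 0 ≠ 0 := by
    intro h0
    refine aa_not t ((NatOne.e_zero N.toNatK hU).1 (ext2 h0 e1))
  have hne : a' ≠ p 2 * p 3 := by
    intro h2
    have h3 := NatOne.ac_e hac hU
    rw [← ha', h2] at h3
    have h4 := congrFun h3 0
    rw [ap_zero', e1, mul_zero, add_zero, ent_mul, up_00, up_01, dg_00, dg_10, mul_zero, add_zero, one_mul] at h4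
    have h5 : (l - 1) * N.e (p 2 * p 3) 0 0 = 0 := by
      rw [sub_mul, one_mul, sub_eq_zero]
      exact h4.symm
    rcases mul_eq_zero.1 h5 with h6 | h6
    · exact hl1 (sub_eq_zero.1 h6)
    · exact e0 h6
  have hne1 : a' ≠ 1 := by
    intro h2
    have h3 : p 2 * p 3 = 1 := conj_eq_one_iff.1 h2
    exact t.five.std.a_ne_one h3
  have hsq : ∀ i j : Fin 5, (p i * p j) * (p i * p j) = 1 := fun i j => CaseLQ.FiveFacts.psq hv i j
  have m23 : p 2 * p 3 * (p 3 * p 4) = p 2 * p 4 := CaseLQ.FiveFacts.pmul hv 2 3 4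
  have m24 : p 2 * p 3 * (p 2 * p 4) = p 3 * p 4 := by
    rw [← m23, ← mul_assoc, hsq, one_mul]
  intro x hx
  rcases (mem_Vt hv).1 hm with h2 | h2 | h2 | h2
  · exact absurd h2 hne1
  · exact absurd h2 hne
  · rw [h2] at hW
    rcases (mem_Vt hv).1 hx with rfl | rfl | rfl | rfl
    · exact one_mem _
    · exact hWa
    · exact hW
    · rw [← m23]; exact mul_mem hWa hW
  · rw [h2] at hW
    rcases (mem_Vt hv).1 hx with rfl | rfl | rfl | rfl
    · exact one_mem _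
    · exact hWa
    · rw [← m24]; exact mul_mem hWa hW
    · exact hW

/-- **`C_T(V_τ) ≤ O₂(P) O₂(Y)`** -/
theorem cent_V {b : G} (hb : b ∈ TT) (h : b ∈ centralizer (Vt p : Set G)) : b ∈ o2 P ⊔ o2 Y := by
  classical
  obtain ⟨F, _, _, _, N, c4, line, rt⟩ := t.nat
  have hv := t.five.std.toFv
  have H := hypN t N c4 line rt
  have hVW := Vt_le_zl' t N c4 line rt
  have hbY := t.TY hb
  have Un : ∀ {y v : G}, y ∈ Y → v ∈ zl TT Y → y * v * y⁻¹ ∈ zl TT Y := fun hy hv =>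
    (mem_normalizer_iff.1 (ZN.le_normalizer_zl _ _ hy) _).1 hv
  have Dn : ∀ {y v : G}, y ∈ Y → v ∈ cv TT Y → y * v * y⁻¹ ∈ cv TT Y := fun hy hv =>
    (mem_normalizer_iff.1 (cvn t hy) _).1 hv
  choose s hs hse using NatOne.surj1 N.toNatK
  let φ : (Fin 2 → F) → Fin 2 → F := fun x => N.e (b * s x * b⁻¹) 0
  have key : ∀ v ∈ zl TT Y, φ (N.e v 0) = N.e (b * v * b⁻¹) 0 := by
    intro v hv
    have h1 : s (N.e v 0) * v⁻¹ ∈ cv TT Y := (NatOne.div1 N.toNatK (hs _) hv).2 (hse _)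
    have h2 : b * (s (N.e v 0) * v⁻¹) * b⁻¹ ∈ cv TT Y := Dn hbY h1
    have e1 : b * (s (N.e v 0) * v⁻¹) * b⁻¹ = (b * s (N.e v 0) * b⁻¹) * (b * v * b⁻¹)⁻¹ := by group
    rw [e1] at h2
    exact (NatOne.div1 N.toNatK (Un hbY (hs _)) (Un hbY hv)).1 h2
  obtain ⟨β, hβ⟩ := CaseLQ.exists_up_of_fix φ (fun x y => by
      obtain ⟨v, hv, rfl⟩ := NatOne.surj1 N.toNatK x
      obtain ⟨w, hw, rfl⟩ := NatOne.surj1 N.toNatK y
      rw [← NatOne.mul1 N.toNatK hv hw, key _ (mul_mem hv hw), key v hv, key w hw,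
        ← NatOne.mul1 N.toNatK (Un hbY hv) (Un hbY hw)]
      exact congrArg (fun z => N.e z 0) (by group))
    (fun x => by
      obtain ⟨v, hvU, he⟩ := NatOne.surj1 N.toNatK ![x, 0]
      rw [← he, key v hvU]
      have h1 : v ∈ closure {p 2 * p 3, p 2 * p 4} ⊔ cv TT Y := (line v hvU).1 (by rw [he]; simp)
      obtain ⟨v', hv', d, hd, rfl⟩ := exists_sup t.zl_comm (hVW.trans (W_le t)) (inf_le_left) h1
      have hv'U := W_le t (hVW hv')
      have hv2 : v' ∈ Vt p := by rwa [Vt_eq hv] at hv'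
      have hbv : b * v' = v' * b := (mem_centralizer_iff.1 h v' hv2).symm
      have e1 : b * (v' * d) * b⁻¹ = v' * (b * d * b⁻¹) := by
        calc b * (v' * d) * b⁻¹ = (b * v') * d * b⁻¹ := by group
          _ = v' * b * d * b⁻¹ := by rw [hbv]
          _ = _ := by group
      rw [e1, NatOne.mul1 N.toNatK hv'U (Un hbY hd.1), NatOne.mul1 N.toNatK hv'U hd.1,
        (NatOne.e_zero N.toNatK (Un hbY hd.1)).2 (Dn hbY hd), (NatOne.e_zero N.toNatK hd.1).2 hd])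
    (fun A => by
      obtain ⟨g, hg, hgA⟩ := NatOne.lift1 N.toNatK A
      obtain ⟨A', hA'⟩ := N.norm b hbY g hg (fun _ => A) fun v hv i => by
        rw [Subsingleton.elim i 0]
        exact NatOne.ac_e hgA hv
      refine ⟨A' 0, fun x => ?_⟩
      obtain ⟨v, hv, rfl⟩ := NatOne.surj1 N.toNatK x
      rw [← NatOne.ac_e hgA hv, key _ (Un hg hv), key v hv, ← hA' _ (Un hbY hv) 0]
      exact congrArg (fun z => N.e z 0) (by group))
    (by
      obtain ⟨n, hn⟩ := t.T2 ⟨b, hb⟩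
      have hn' : b ^ 2 ^ n = 1 := by simpa using congrArg Subtype.val hn
      refine ⟨n, fun x => ?_⟩
      have h1 : ∀ m : ℕ, ∀ v ∈ zl TT Y, φ^[m] (N.e v 0) = N.e (b ^ m * v * (b ^ m)⁻¹) 0 := by
        intro m
        induction m with
        | zero => intro v hv; simp
        | succ m ih =>
          intro v hv
          rw [Function.iterate_succ_apply', ih v hv, key _ (Un (pow_mem hbY m) hv)]
          exact congrArg (fun z => N.e z 0) (by rw [pow_succ']; group)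
      obtain ⟨v, hv, rfl⟩ := NatOne.surj1 N.toNatK x
      rw [h1 _ v hv, hn']
      exact congrArg (fun z => N.e z 0) (by group))
  obtain ⟨q, hq, hqb⟩ := H.full β
  have h1 : q⁻¹ * b ∈ o2 Y := by
    refine NatOne.triv_o2 N.toNatK H.syl H.min H.YV H.YD (mul_mem (inv_mem (H.QT hq)) hb) fun v hv => ?_
    have hqY := inv_mem (H.QY hq)
    have hw : q⁻¹ * (b * v * b⁻¹) * q ∈ zl TT Y := by
      have := Un hqY (Un hbY hv)
      rwa [inv_inv] at this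
    have e1 : q⁻¹ * b * v * (q⁻¹ * b)⁻¹ = q⁻¹ * (b * v * b⁻¹) * q := by group
    have h2 := NatOne.ac_e hqb hw
    have e2 : q * (q⁻¹ * (b * v * b⁻¹) * q) * q⁻¹ = b * v * b⁻¹ := by group
    rw [e2, ← key v hv, hβ] at h2
    rw [e1]
    have h3 := congrArg (ap (up β)⁻¹) h2
    rw [ap_inv_ap, ap_inv_ap] at h3
    exact h3.symm
  have h2 : b = q * (q⁻¹ * b) := by group
  rw [h2]
  exact mul_mem (mem_sup_left hq) (mem_sup_right h1)

/-- every `b ∈ T` or `x⁻¹ b` centralises `V_τ` -/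
theorem T_two {x b : G} (hx : x ∈ TT) (hb : b ∈ TT) (hxc : x ∉ centralizer (Vt p : Set G)) :
    b ∈ centralizer (Vt p : Set G) ∨ x⁻¹ * b ∈ centralizer (Vt p : Set G) := by
  have hv := t.five.std.toFv
  have hN : CaseLQ.SitFive.Tau p (Vt p) := CaseLQ.SitFive.tau_closure hv
  by_cases hbc : b ∈ centralizer (Vt p : Set G)
  · exact Or.inl hbc
  · right
    obtain ⟨b1, b2⟩ := CaseLQ.SitFive.T_sw t.five.std hN hb hbc
    obtain ⟨x1, x2⟩ := CaseLQ.SitFive.T_sw t.five.std hN hx hxc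
    rcases CaseLQ.SitFive.T_act t.five.std hN (mul_mem (inv_mem hx) hb) with h1 | ⟨h1, -⟩
    · exact mem_centralizer_iff.2 fun v hv' => (h1 v hv').symm
    · exfalso
      have e1 : x⁻¹ * b * (p 2 * p 4) * (x⁻¹ * b)⁻¹ = x⁻¹ * (b * (p 2 * p 4) * b⁻¹) * x := by group
      have e2 : x⁻¹ * (p 3 * p 4) * x = p 2 * p 4 := by
        rw [← x1]; group
      rw [e1, b1, e2] at h1
      have h2 : p 2 = p 3 := mul_right_cancel h1
      exact absurd (hv.inj h2) (by decide)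

/-- the elements of `F = cv T Y` are `1` and `nn p` -/
theorem cv_cases {f : G} (hf : f ∈ cv TT Y) : f = 1 ∨ f = nn p := by
  have hv := t.five.std.toFv
  have hfL := cvL t hf
  obtain ⟨x, hxT, h1, h2⟩ := exists_t t.five.toFive
  -- `x` centralises `f`
  have hxf : x * f = f * x := by
    rcases h2 f hfL with h3 | h3
    · have h4 : x * f * x⁻¹ = f := mul_inv_eq_one.1 h3
      exact mul_inv_eq_iff_eq_mul.1 h4
    · exfalso
      apply aa_not t
      have h5 : x * f * x⁻¹ * f⁻¹ ∈ cv TT Y :=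
        mul_mem ((mem_normalizer_iff.1 (cvn t (t.TY hxT)) f).1 hf) (inv_mem hf)
      rw [h3] at h5
      exact h5
  have hxc : x ∉ centralizer (Vt p : Set G) := by
    intro hc
    have hm : p 3 * p 4 ∈ Vt p := (mem_Vt hv).2 (Or.inr (Or.inr (Or.inl rfl)))
    have hne : p 3 * p 4 ≠ aa p := fun e =>
      absurd (mul_left_cancel ((hv.comm 2 3).symm.trans e.symm : p 3 * p 2 = p 3 * p 4)) fun e2 =>
        absurd (hv.inj e2) (by decide)
    have h3 := (h1 _ hm (hv.mul_ne_one (by decide))).resolve_left hne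
    have h4 := mem_centralizer_iff.1 hc _ hm
    rw [← h4, mul_inv_cancel_right, mul_inv_cancel] at h3
    exact t.five.std.a_ne_one h3.symm
  have hR : ∀ r ∈ o2 P ⊔ o2 Y, r * f = f * r := by
    have h3 : o2 P ⊔ o2 Y ≤ centralizer ({f} : Set G) := by
      refine sup_le (fun q hq => ?_) (fun q hq => ?_)
      · exact mem_centralizer_singleton_iff.2 (Q_cv t hq hf)
      · exact mem_centralizer_singleton_iff.2 (mem_centralizer_iff.1 (t.cent_zl hq) f hf.1).symm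
    exact fun r hr => mem_centralizer_singleton_iff.1 (h3 hr)
  have hT : ∀ b ∈ TT, b * f = f * b := by
    intro b hb
    rcases T_two t hxT hb hxc with h3 | h3
    · exact hR b (cent_V t hb h3)
    · have h4 := hR _ (cent_V t (mul_mem (inv_mem hxT) hb) h3)
      have e6 : b = x * (x⁻¹ * b) := by group
      rw [e6, mul_assoc, h4, ← mul_assoc, hxf, mul_assoc]
  have hfT : f ∈ TT := t.wy.toWQ.DX_T (ZN.zc_le _ (zl_le_zcD t hf.1))
  have hfz : f ∈ zc TT := ChoiceBase.mem_zc.2 ⟨hfT, by rw [sq]; exact t.zl_sq f hf.1, hT⟩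
  rcases t.five.std.mem_zcT.1 hfz with h3 | h3 | h3 | h3
  · exact Or.inl h3
  · exact Or.inr h3
  · exact absurd (by rw [← h3]; exact hf : aa p ∈ cv TT Y) (aa_not t)
  · exfalso
    apply aa_not t
    have h4 : nn p * (p 2 * p 3) ∈ cv TT Y := by
      rw [← CaseLQ.FiveFacts.p4_eq hv, ← h3]; exact hf
    have h5 := mul_mem (inv_mem (nn_cv t)) h4
    rwa [inv_mul_cancel_left] at h5

end Cfsg.Agent.Omega.NO3S.WY.Tor.SFiveFq

namespace Cfsg.Agent.Omega.NO3S.WY.Tor.SFive.TorS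

open Subgroup Cfsg Cfsg.Agent.ZN Cfsg.Agent.ZN.ChoiceBase
open Cfsg.Agent.MinSimple.VModule (oddGen oddGen_le)
open Cfsg.Agent.Omega.NO3b.EZero (cl)
open Cfsg.Agent.Omega.FrameFF (cv)
open Cfsg.Agent.Omega.NTwo (Std)
open Cfsg.Agent.Omega.NO3S.WY.Tor.SFiveFq

universe u

variable {G : Type u} [Group G] [Finite G] {S : Sylow 2 G} {P Y : Subgroup G} {p : Fin 5 → G}
  (t : TorS S P p Y)
include t

/-- **`F ≤ ⟨nn p⟩`** -/
theorem Fq : ∀ f ∈ cl (zpowers (p 2 * p 3)) Y ⊓ centralizer (oddGen Y : Set G), f = 1 ∨ f = p 0 * p 1 :=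
  fun _ hf => cv_cases t ⟨W_le t hf.1, hf.2⟩

/-- **`V_τ ≤ W`** -/
theorem Vt_le_cl : closure {p 2 * p 3, p 2 * p 4} ≤ cl (zpowers (p 2 * p 3)) Y := by
  obtain ⟨F, _, _, _, N, c4, line, rt⟩ := t.nat
  exact Vt_le_zl' t N c4 line rt

/-- **`W ∩ V_P = V_τ F`** -/
theorem WL : ∀ w ∈ cl (zpowers (p 2 * p 3)) Y ⊓ zl (S : Subgroup G) P,
    ∃ f ∈ cl (zpowers (p 2 * p 3)) Y ⊓ centralizer (oddGen Y : Set G),
      w = f ∨ w = p 2 * p 3 * f ∨ w = p 2 * p 4 * f ∨ w = p 3 * p 4 * f := by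
  obtain ⟨F, _, _, _, N, c4, line, rt⟩ := t.nat
  have hv := t.five.std.toFv
  have H := hypN t N c4 line rt
  have hVW := Vt_le_zl' t N c4 line rt
  rintro w ⟨hw, hwL⟩
  have hwU := W_le t hw
  have h1 := (line w hwU).1 ((H.mem_L hwU).1 hwL)
  obtain ⟨v, hvV, d, hd, rfl⟩ := exists_sup t.zl_comm (hVW.trans (W_le t)) inf_le_left h1
  have hdW : d ∈ cl (zpowers (p 2 * p 3)) Y := by
    have h2 := mul_mem (inv_mem (hVW hvV)) hw
    rwa [inv_mul_cancel_left] at h2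
  refine ⟨d, ⟨hdW, hd.2⟩, ?_⟩
  rw [CaseLQ.FiveFacts.Vt_eq hv] at hvV
  rcases (CaseLQ.FiveFacts.mem_Vt hv).1 hvV with rfl | rfl | rfl | rfl
  · left; rw [one_mul]
  · right; left; rfl
  · right; right; right; rfl
  · right; right; left; rfl

end Cfsg.Agent.Omega.NO3S.WY.Tor.SFive.TorS
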