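import Cfsg.Agent.Omega.NO3S.WY.Tor.LitS
import Cfsg.Agent.Omega.NO3S.WY.Tor.SFiveB

/-!
# (TOR') for one `S₅`: the action of `O₂(P)` on `zl T Y`

`T = Std.T S p`, `t : TorS S P p Y`, `N` any natural structure on `zl T Y / cv T Y`.

* `TorS.ker` : an element of `T` which acts trivially on `zl T Y / cv T Y` lies in `O₂(Y)`;
* `TorS.cent_zl` : `O₂(Y)` centralises `zl T Y`;
* `TorS.fullA`, `TorS.full` : a member `A` of the family, `A ≤ O₂(P)`, `A ≰ O₂(Y)`, induces the full root group;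
* `TorS.QW` : `O₂(P) = A (O₂(P) ∩ O₂(Y))`;
* `TorS.mvW` : `A ≤ O₂(P)`, `A ≰ O₂(Y)` ⟹ `A` moves `W = ⟨aa p ^ Y⟩`.
-/

set_option autoImplicit false
set_option linter.unusedSectionVars false

namespace Cfsg.Agent.Omega.NO3S.WY.Tor.SFive

open Subgroup Cfsg Cfsg.Agent.ZN Cfsg.Agent.ZN.ChoiceBase Cfsg.Agent.ZN.ChoiceSit
open Cfsg.Agent.MinSimple.VModule (oddGen oddGen_def mem_oddGen oddGen_le)
open Cfsg.Agent.Omega.FFThm (OffM ElemM NatKM ActsSL)
open Cfsg.Agent.Omega.NatPair (ap)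
open Cfsg.Agent.Lib.SL2Mat (up)
open Cfsg.Agent.Omega.FrameFF (cv)
open Cfsg.Agent.Omega.NO3b.EZero (cl cl_le le_cl cj_le_cl le_normalizer_cl cent_symm)
open Cfsg.Agent.Omega.NTwo (Std nn aa Fv)
open Cfsg.Agent.Omega.NO3S.Sym.Light (FiveL)
open Cfsg.Agent.Omega.NO3S.RedC (GX DX)

universe u

variable {G : Type u} [Group G] [Finite G] {S : Sylow 2 G} {P Y V A : Subgroup G} {𝓕 : Set (Subgroup G)}
  {p : Fin 5 → G}

theorem cent_zpowers (x : G) : centralizer (zpowers x : Set G) = centralizer ({x} : Set G) := by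
  refine le_antisymm (centralizer_le (Set.singleton_subset_iff.2 (mem_zpowers x))) fun y hy => ?_
  have h1 : zpowers x ≤ centralizer ({y} : Set G) := by
    rw [zpowers_le, mem_centralizer_singleton_iff]
    exact (mem_centralizer_singleton_iff.1 hy).symm
  exact mem_centralizer_iff.2 fun z hz => mem_centralizer_singleton_iff.1 (h1 hz)

namespace TorS

variable (t : TorS S P p Y)
include t

theorem TY : Std.T (S : Subgroup G) p ≤ Y := t.wy.syl.1

theorem T2 : IsPGroup 2 (Std.T (S : Subgroup G) p) := t.wy.syl.2.1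

theorem Tn : ¬ 2 ∣ (Std.T (S : Subgroup G) p).relIndex Y := syl_not_dvd t.wy.syl

theorem zl_sq : ∀ x ∈ zl (Std.T (S : Subgroup G) p) Y, x * x = 1 := fun x hx => by
  rw [← sq]
  exact MinSimple.VModule.zl_sq t.TY t.T2 t.Tn t.wy.c2 x hx

theorem zl_comm : ∀ x ∈ zl (Std.T (S : Subgroup G) p) Y, ∀ y ∈ zl (Std.T (S : Subgroup G) p) Y, x * y = y * x :=
  MinSimple.VModule.zl_comm t.TY t.T2 t.Tn t.wy.c2

/-- (2) `O₂(Y)` centralises `zl T Y` -/
theorem cent_zl : o2 Y ≤ centralizer (zl (Std.T (S : Subgroup G) p) Y : Set G) :=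
  MinSimple.VModule.o2_le_centralizer_zl t.TY t.T2 t.Tn t.wy.c2

omit t [Finite G] in
theorem Yzl : Y ≤ normalizer (zl (Std.T (S : Subgroup G) p) Y : Set G) := ZN.le_normalizer_zl _ _

/-- `zl T Y / cv T Y ≠ 1` -/
theorem exists_not_cv : ∃ v ∈ zl (Std.T (S : Subgroup G) p) Y, v ∉ cv (Std.T (S : Subgroup G) p) Y := by
  obtain ⟨F, _, _, _, N, -⟩ := t.nat
  obtain ⟨v, hv, hve⟩ := N.surj fun _ _ => 1
  refine ⟨v, hv, fun h1 => ?_⟩
  have h2 := (N.ker v hv).2 h1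
  rw [hve] at h2
  exact one_ne_zero (congrFun (congrFun h2 0) 0)

/-- (1) -/
theorem ker {x : G} (hx : x ∈ Std.T (S : Subgroup G) p)
    (h : ∀ v ∈ zl (Std.T (S : Subgroup G) p) Y, x * v * x⁻¹ * v⁻¹ ∈ cv (Std.T (S : Subgroup G) p) Y) : x ∈ o2 Y := by
  have h1 : Y ≤ normalizer (zl (Std.T (S : Subgroup G) p) Y : Set G) := ZN.le_normalizer_zl _ _
  have h2 : Y ≤ normalizer (cv (Std.T (S : Subgroup G) p) Y : Set G) := fun y hy => by
    rw [mem_normalizer_iff_cj, FrameFF.cv, cj_inf, cj_centralizer, cj_eq_of_mem_normalizer (h1 hy),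
      cj_eq_of_mem_normalizer (MinSimple.VModule.le_normalizer_oddGen Y hy)]
  rcases NO3b.K0.min_or t.wy.syl t.wy.min (K := Fld.kmod Y _ _ h1 h2) Fld.kmod_le (Fld.norm_kmod h1 h2) with h3 | h3
  · exfalso
    obtain ⟨v, hv, hvc⟩ := t.exists_not_cv
    apply hvc
    refine ⟨hv, ?_⟩
    have h4 : oddGen Y ≤ centralizer ({v} : Set G) := by
      rw [oddGen_def, closure_le]
      rintro k ⟨hk, ho⟩
      have hk' : k ∈ oddGen Y := mem_oddGen hk ho
      have h5 := SFiveB.comm_of_odd t.zl_sq ho ((Fld.mem_kmod.1 (h3 hk')).2 v hv)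
        (fun z hz => (mem_centralizer_iff.1 hz.2 k hk')) inf_le_left
      exact mem_centralizer_singleton_iff.2 h5
    exact mem_centralizer_iff.2 fun k hk => mem_centralizer_singleton_iff.1 (h4 hk)
  · exact h3 ⟨hx, Fld.mem_kmod.2 ⟨t.TY hx, h⟩⟩

/-- the part of `V` : `zl T Y ≤ V` -/
theorem zl_le_V (fm : FamT S P Y V 𝓕) : zl (Std.T (S : Subgroup G) p) Y ≤ V := by
  have h1 : zc (Std.T (S : Subgroup G) p) ≤ zl (S : Subgroup G) (GX (S : Subgroup G) P Y) :=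
    t.wy.toWQ.zcT_le.trans t.wy.toWQ.L_le_zl
  refine (ZN.zl_le h1 ?_).trans fm.md.ge
  exact t.wy.toWQ.Y_le.trans (ZN.le_normalizer_zl _ _)

/-- `zl T Y ≤ O₂(C_G(nn p))` -/
theorem zl_low : zl (Std.T (S : Subgroup G) p) Y ≤ o2 (centralizer ({nn p} : Set G)) :=
  ZN.zl_le (t.wy.toWQ.zcT_le.trans t.five.V_le_o2) (t.cen.trans (ZN.le_normalizer_o2 _))

/-- a member of the family in `O₂(P)` which is not in `O₂(Y)` is an offender on `zl T Y` -/
theorem offM (fm : FamT S P Y V 𝓕) (hA : A ∈ 𝓕) (hAQ : A ≤ o2 P) (hAY : ¬ A ≤ o2 Y) :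
    OffM (zl (Std.T (S : Subgroup G) p) Y) A := by
  have hn : nn p ∈ zl (S : Subgroup G) P := t.five.toFive.n_mem
  have hD : zpowers (nn p) ≤ ChoiceBase.cj 1 (zl (S : Subgroup G) P) := by
    rw [cj_one, zpowers_le]
    exact hn
  have hne : zpowers (nn p) ≠ ⊥ := by
    rw [Ne, zpowers_eq_bot]
    exact t.five.std.n_ne_one
  have h1 := (fm.her A hA (hAQ.trans t.wy.toWQ.o2P_le) 1 (one_mem _) (zpowers (nn p)) _ hne hD (t.zl_le_V fm)
    (by rw [cent_zpowers]; exact t.zl_low)).1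
  rw [cj_one] at h1
  refine ⟨h1.toElemM, fun h2 => hAY fun a ha => t.ker (t.wy.toWQ.QT (hAQ ha)) fun v hv => ?_, ?_⟩
  · have h3 := mem_centralizer_iff.1 (h2 ha) v hv
    have e : a * v * a⁻¹ * v⁻¹ = 1 := by rw [← h3]; group
    rw [e]
    exact one_mem _
  · have h3 := h1.max (A ⊓ centralizer (zl (Std.T (S : Subgroup G) p) Y : Set G)) inf_le_left le_rfl
    have h4 : zl (Std.T (S : Subgroup G) p) Y ⊓
        centralizer ((A ⊓ centralizer (zl (Std.T (S : Subgroup G) p) Y : Set G) : Subgroup G) : Set G) =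
          zl (Std.T (S : Subgroup G) p) Y := inf_eq_left.2 (cent_symm inf_le_right)
    rw [h4, mul_comm] at h3
    exact h3

/-- (3) **the full root group** -/
theorem fullA (fm : FamT S P Y V 𝓕) (hA : A ∈ 𝓕) (hAQ : A ≤ o2 P) (hAY : ¬ A ≤ o2 Y) {F : Type} [Field F] [Finite F]
    [CharP F 2] (N : NatKM F (Std.T (S : Subgroup G) p) Y (zl (Std.T (S : Subgroup G) p) Y)
      (cv (Std.T (S : Subgroup G) p) Y) 1) (b : F) :
    ∃ x ∈ A, ActsSL N.e (zl (Std.T (S : Subgroup G) p) Y) (cv (Std.T (S : Subgroup G) p) Y) x fun _ => up b := by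
  have hAT : A ≤ Std.T (S : Subgroup G) p := hAQ.trans t.wy.toWQ.QT
  obtain ⟨I, h1, h2⟩ := N.offM A hAT (t.offM fm hA hAQ hAY)
  by_cases hI : (0 : Fin 1) ∈ I
  · obtain ⟨x, hx, h3⟩ := h2 (fun _ => b) fun i hi => absurd (by rwa [Subsingleton.elim i 0]) hi
    exact ⟨x, hx, h3⟩
  · exfalso
    apply hAY
    intro a ha
    obtain ⟨c, hc, h3⟩ := h1 a ha
    refine t.ker (hAT ha) fun v hv => ?_
    have h4 := h3.1 v hv
    have hav : a * v * a⁻¹ ∈ zl (Std.T (S : Subgroup G) p) Y :=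
      (mem_normalizer_iff.1 (ZN.le_normalizer_zl _ _ (t.TY (hAT ha))) v).1 hv
    have e1 : v⁻¹ = v := inv_eq_of_mul_eq_one_left (t.zl_sq v hv)
    rw [← N.ker _ (mul_mem hav (inv_mem hv)), e1, N.mul _ hav _ hv]
    funext i j
    have hi : i = 0 := Subsingleton.elim _ _
    subst hi
    have h5 : c 0 = 0 := hc 0 hI
    have h6 : N.e (a * v * a⁻¹) 0 j = ap (up (c 0)) (N.e v 0) j := congrFun (h4 0) j
    rw [h5, Lib.SL2Mat.up_zero] at h6
    rw [Pi.add_apply, Pi.add_apply, h6]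
    have h7 : ap (1 : Matrix.SpecialLinearGroup (Fin 2) F) (N.e v 0) j = N.e v 0 j := by
      fin_cases j
      · change 1 * _ + 0 * _ = _
        simp
      · change 0 * _ + 1 * _ = _
        simp
    rw [h7]
    exact CharTwo.add_self_eq_zero _

theorem full {F : Type} [Field F] [Finite F]
    [CharP F 2] (N : NatKM F (Std.T (S : Subgroup G) p) Y (zl (Std.T (S : Subgroup G) p) Y)
      (cv (Std.T (S : Subgroup G) p) Y) 1) (b : F) :
    ∃ x ∈ o2 P, ActsSL N.e (zl (Std.T (S : Subgroup G) p) Y) (cv (Std.T (S : Subgroup G) p) Y) x fun _ => up b := by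
  obtain ⟨V, 𝓕, fm⟩ := t.fam
  obtain ⟨A, hA, hAQ, hAY⟩ := fm.act
  obtain ⟨x, hx, h⟩ := t.fullA fm hA hAQ hAY N b
  exact ⟨x, hAQ hx, h⟩

/-- two elements of `T` which act by the same `up b` agree modulo `O₂(Y)` -/
theorem mem_of_up {F : Type} [Field F] [Finite F]
    [CharP F 2] (N : NatKM F (Std.T (S : Subgroup G) p) Y (zl (Std.T (S : Subgroup G) p) Y)
      (cv (Std.T (S : Subgroup G) p) Y) 1) {b : F} {a x : G} (ha : a ∈ Std.T (S : Subgroup G) p)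
    (hx : x ∈ Std.T (S : Subgroup G) p)
    (h1 : ActsSL N.e (zl (Std.T (S : Subgroup G) p) Y) (cv (Std.T (S : Subgroup G) p) Y) a fun _ => up b)
    (h2 : ActsSL N.e (zl (Std.T (S : Subgroup G) p) Y) (cv (Std.T (S : Subgroup G) p) Y) x fun _ => up b) :
    a⁻¹ * x ∈ o2 Y := by
  have hm := mul_mem (inv_mem ha) hx
  refine t.ker hm fun v hv => ?_
  have hY : ∀ y ∈ Std.T (S : Subgroup G) p, ∀ v ∈ zl (Std.T (S : Subgroup G) p) Y, y * v * y⁻¹ ∈
      zl (Std.T (S : Subgroup G) p) Y := fun y hy v hv =>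
    (mem_normalizer_iff.1 (ZN.le_normalizer_zl _ _ (t.TY hy)) v).1 hv
  set w := a⁻¹ * x * v * (a⁻¹ * x)⁻¹ with hw
  have hwV : w ∈ zl (Std.T (S : Subgroup G) p) Y := hY _ hm v hv
  have e1 : a * w * a⁻¹ = x * v * x⁻¹ := by rw [hw]; group
  have h3 := h1.1 w hwV 0
  rw [e1, h2.1 v hv 0] at h3
  have h4 : N.e w 0 1 = N.e v 0 1 := by
    have h5 := congrFun h3 1
    change 0 * N.e v 0 0 + 1 * N.e v 0 1 = 0 * N.e w 0 0 + 1 * N.e w 0 1 at h5
    simpa using h5.symm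
  have h6 : N.e w 0 0 = N.e v 0 0 := by
    have h5 := congrFun h3 0
    change 1 * N.e v 0 0 + b * N.e v 0 1 = 1 * N.e w 0 0 + b * N.e w 0 1 at h5
    rw [h4] at h5
    simpa using h5.symm
  have e2 : v⁻¹ = v := inv_eq_of_mul_eq_one_left (t.zl_sq v hv)
  rw [← N.ker _ (mul_mem hwV (inv_mem hv)), e2, N.mul _ hwV _ hv]
  funext i j
  have hi : i = 0 := Subsingleton.elim _ _
  subst hi
  rw [Pi.add_apply, Pi.add_apply]
  fin_cases j
  · change N.e w 0 0 + N.e v 0 0 = 0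
    rw [h6]
    exact CharTwo.add_self_eq_zero _
  · change N.e w 0 1 + N.e v 0 1 = 0
    rw [h4]
    exact CharTwo.add_self_eq_zero _

/-- (4) `O₂(P) = A (O₂(P) ∩ O₂(Y))` -/
theorem QW (fm : FamT S P Y V 𝓕) (hA : A ∈ 𝓕) (hAQ : A ≤ o2 P) (hAY : ¬ A ≤ o2 Y) {q : G} (hq : q ∈ o2 P) :
    ∃ a ∈ A, ∃ x ∈ o2 P ⊓ o2 Y, a * x = q := by
  obtain ⟨F, _, _, _, N, -, -, hN⟩ := t.nat
  obtain ⟨b, hb⟩ := hN q hq
  obtain ⟨a, ha, h1⟩ := t.fullA fm hA hAQ hAY N b
  have h2 := t.mem_of_up N (t.wy.toWQ.QT (hAQ ha)) (t.wy.toWQ.QT hq) h1 hb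
  exact ⟨a, ha, a⁻¹ * q, mem_inf.2 ⟨mul_mem (inv_mem (hAQ ha)) hq, h2⟩, by group⟩

/-- `zl T Y ≤ ⟨aa p ^ Y⟩ ⟨nn p⟩` -/
theorem zl_le_W : zl (Std.T (S : Subgroup G) p) Y ≤ cl (zpowers (p 2 * p 3)) Y ⊔ zpowers (nn p) := by
  refine ZN.zl_le (fun x hx => ?_) fun y hy => ?_
  · have h0 : aa p ∈ cl (zpowers (p 2 * p 3)) Y ⊔ zpowers (nn p) :=
      mem_sup_left (le_cl _ _ (mem_zpowers (p 2 * p 3)))
    have h1 : nn p ∈ cl (zpowers (p 2 * p 3)) Y ⊔ zpowers (nn p) := mem_sup_right (mem_zpowers _)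
    rcases t.five.std.mem_zcT.1 hx with rfl | rfl | rfl | rfl
    · exact one_mem _
    · exact h1
    · exact h0
    · rw [← t.five.std.na]
      exact mul_mem h1 h0
  · rw [mem_normalizer_iff_cj, cj_sup, cj_eq_of_mem_normalizer (le_normalizer_cl _ _ hy)]
    have h1 : y ∈ normalizer (zpowers (nn p) : Set G) := by
      have h2 := t.cen hy
      rw [← cent_zpowers] at h2
      exact centralizer_le_normalizer _ h2
    rw [cj_eq_of_mem_normalizer h1]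

/-- (5) -/
theorem mvW (hAQ : A ≤ o2 P) (hAY : ¬ A ≤ o2 Y) : ¬ A ≤ centralizer (cl (zpowers (p 2 * p 3)) Y : Set G) := by
  intro h
  apply hAY
  intro a ha
  have haT : a ∈ Std.T (S : Subgroup G) p := t.wy.toWQ.QT (hAQ ha)
  refine t.ker haT fun v hv => ?_
  have h1 : cl (zpowers (p 2 * p 3)) Y ⊔ zpowers (nn p) ≤ centralizer ({a} : Set G) := by
    refine sup_le (fun w hw => ?_) ?_
    · rw [mem_centralizer_singleton_iff]
      exact mem_centralizer_iff.1 (h ha) w hw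
    · rw [zpowers_le, mem_centralizer_singleton_iff]
      exact (mem_centralizer_singleton_iff.1 (t.cen (t.TY haT))).symm
  have h2 := mem_centralizer_singleton_iff.1 (h1 (t.zl_le_W hv))
  have e : a * v * a⁻¹ * v⁻¹ = 1 := by rw [← h2]; group
  rw [e]
  exact one_mem _

end TorS

end Cfsg.Agent.Omega.NO3S.WY.Tor.SFive
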