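import Cfsg.Agent.Omega.NO3S.Sym.Light

/-!
# One `S₅`: `V_τ` and `V_P = V_τ ⟨nn p⟩ ⟨p 0⟩`
-/

set_option autoImplicit false

namespace Cfsg.Agent.Omega.NO3S.WY.Tor.SFiveI

open Subgroup Cfsg Cfsg.Agent.ZN
open Cfsg.Agent.Omega.NTwo
open Cfsg.Agent.Omega.NO3S.Sym.Light (FiveL)

universe u

variable {G : Type u} [Group G]

theorem vt_mem_fv {P : Subgroup G} {p : Fin 5 → G} (h : Fv P p) {v : G} (hv : v ∈ closure {p 2 * p 3, p 2 * p 4}) :
    v = 1 ∨ v = p 2 * p 3 ∨ v = p 2 * p 4 ∨ v = p 3 * p 4 := by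
  have hm : ∀ i j : Fin 5, (p i * p j) * (p i * p j) = 1 := fun i j => by
    rw [mul_assoc, ← mul_assoc (p j), h.comm j i, mul_assoc (p i), h.sq, mul_one, h.sq]
  have h23 : p 2 * p 3 = p 3 * p 2 := h.comm _ _
  have h24 : p 2 * p 4 = p 4 * p 2 := h.comm _ _
  have h34 : p 3 * p 4 = p 4 * p 3 := h.comm _ _
  induction hv using closure_induction with
  | mem x hx =>
    rcases hx with rfl | hx
    · simp
    · rw [Set.mem_singleton_iff] at hx
      simp [hx]
  | one => simp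
  | inv x hx ih =>
    rcases ih with rfl | rfl | rfl | rfl
    · simp
    · right; left; exact inv_eq_of_mul_eq_one_left (hm _ _)
    · right; right; left; exact inv_eq_of_mul_eq_one_left (hm _ _)
    · right; right; right; exact inv_eq_of_mul_eq_one_left (hm _ _)
  | mul x y hx hy ihx ihy =>
    have e : p 2 * p 3 * (p 3 * p 4) = p 2 * p 4 := by
      rw [mul_assoc, ← mul_assoc (p 3), h.sq, one_mul]
    have a1 : p 2 * p 3 * (p 2 * p 4) = p 3 * p 4 := by
      rw [h23, mul_assoc, ← mul_assoc (p 2), h.sq, one_mul]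
    have a2 : p 2 * p 4 * (p 2 * p 3) = p 3 * p 4 := by
      rw [h24, mul_assoc, ← mul_assoc (p 2), h.sq, one_mul, h34]
    have a3 : p 2 * p 4 * (p 3 * p 4) = p 2 * p 3 := by
      rw [h34, mul_assoc, ← mul_assoc (p 4), h.sq, one_mul]
    have a4 : p 3 * p 4 * (p 2 * p 3) = p 2 * p 4 := by
      rw [h34, mul_assoc, h23, ← mul_assoc (p 3), h.sq, one_mul, h24]
    have a5 : p 3 * p 4 * (p 2 * p 4) = p 2 * p 3 := by
      rw [h24, mul_assoc, ← mul_assoc (p 4), h.sq, one_mul, h23]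
    rcases ihx with rfl | rfl | rfl | rfl <;> rcases ihy with rfl | rfl | rfl | rfl <;>
      simp [hm, a1, a2, a3, a4, a5, e]

theorem mem_vt23 (p : Fin 5 → G) : p 2 * p 3 ∈ closure {p 2 * p 3, p 2 * p 4} := subset_closure (by simp)

theorem mem_vt24 (p : Fin 5 → G) : p 2 * p 4 ∈ closure {p 2 * p 3, p 2 * p 4} := subset_closure (by simp)

theorem mem_vt34 {P : Subgroup G} {p : Fin 5 → G} (h : Fv P p) : p 3 * p 4 ∈ closure {p 2 * p 3, p 2 * p 4} := by
  have e : p 3 * p 4 = p 2 * p 3 * (p 2 * p 4) := by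
    rw [h.comm 2 3, mul_assoc, ← mul_assoc (p 2), h.sq, one_mul]
  rw [e]
  exact mul_mem (mem_vt23 p) (mem_vt24 p)

variable [Finite G] {S : Sylow 2 G} {P : Subgroup G} {p : Fin 5 → G}

theorem vt_cases (h : FiveL S P p) {v : G} (hv : v ∈ closure {p 2 * p 3, p 2 * p 4}) :
    v = 1 ∨ v = p 2 * p 3 ∨ v = p 2 * p 4 ∨ v = p 3 * p 4 := vt_mem_fv h.std.toFv hv

theorem mem_vt_iff (h : FiveL S P p) {v : G} : v ∈ closure {p 2 * p 3, p 2 * p 4} ↔
    v = 1 ∨ v = p 2 * p 3 ∨ v = p 2 * p 4 ∨ v = p 3 * p 4 := by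
  refine ⟨vt_cases h, ?_⟩
  rintro (rfl | rfl | rfl | rfl)
  · exact one_mem _
  · exact mem_vt23 p
  · exact mem_vt24 p
  · exact mem_vt34 h.std.toFv

/-- `p 4 = nn p * aa p`, `p 3`, `p 2 ∈ V_τ ⟨nn p⟩` -/
theorem p_mem_vt (h : FiveL S P p) {i : Fin 5} (hi : 2 ≤ i) :
    p i ∈ closure {p 2 * p 3, p 2 * p 4} ⊔ zpowers (nn p) := by
  have h4 : p 4 ∈ closure {p 2 * p 3, p 2 * p 4} ⊔ zpowers (nn p) := by
    have h1 : aa p * nn p ∈ closure {p 2 * p 3, p 2 * p 4} ⊔ zpowers (nn p) :=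
      mul_mem (mem_sup_left (mem_vt23 p)) (mem_sup_right (mem_zpowers _))
    rwa [h.std.an] at h1
  have key : ∀ i : Fin 5, 2 ≤ i → i = 2 ∨ i = 3 ∨ i = 4 := by decide
  rcases key i hi with rfl | rfl | rfl
  · have h1 := mul_mem (mem_sup_left (mem_vt24 p)) h4
    rwa [mul_assoc, h.std.sq, mul_one] at h1
  · have h1 := mul_mem (mem_sup_left (mem_vt34 h.std.toFv)) h4
    rwa [mul_assoc, h.std.sq, mul_one] at h1
  · exact h4

/-- `V_P = V_τ ⟨nn p⟩ ⟨p 0⟩` -/
theorem L_gen (h : FiveL S P p) :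
    zl (S : Subgroup G) P ≤ closure {p 2 * p 3, p 2 * p 4} ⊔ zpowers (nn p) ⊔ zpowers (p 0) := by
  rw [h.gen, closure_le]
  rintro _ ⟨i, rfl⟩
  have key : ∀ i : Fin 5, i = 0 ∨ i = 1 ∨ 2 ≤ i := by decide
  rcases key i with rfl | rfl | hi
  · exact mem_sup_right (mem_zpowers _)
  · have e : p 1 = nn p * p 0 := by
      rw [nn, h.std.comm 0 1, mul_assoc, h.std.sq, mul_one]
    rw [SetLike.mem_coe, e]
    exact mul_mem (mem_sup_left (mem_sup_right (mem_zpowers _))) (mem_sup_right (mem_zpowers _))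
  · exact mem_sup_left (p_mem_vt h hi)

/-- every `v ∈ V_P` is `w l` or `w l (p 0)`, `w ∈ V_τ`, `l ∈ ⟨nn p⟩` -/
theorem exists_vt (h : FiveL S P p) {v : G} (hv : v ∈ zl (S : Subgroup G) P) :
    ∃ w ∈ closure {p 2 * p 3, p 2 * p 4}, ∃ l, (l = 1 ∨ l = nn p) ∧ ∃ c, (c = 1 ∨ c = p 0) ∧ v = w * l * c := by
  have hz : ∀ {x y : G}, x * x = 1 → y ∈ zpowers x → y = 1 ∨ y = x := by
    rintro x y hx ⟨n, rfl⟩
    have h3 : x ^ (2 : ℤ) = 1 := by rw [zpow_ofNat, sq, hx]
    change x ^ n = 1 ∨ x ^ n = x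
    rcases Int.even_or_odd' n with ⟨c, hc | hc⟩
    · left; rw [hc, zpow_mul, h3, one_zpow]
    · right; rw [hc, zpow_add, zpow_mul, h3, one_zpow, one_mul, zpow_one]
  have hV : ∀ x ∈ closure (Set.range p), ∀ y ∈ closure (Set.range p), x * y = y * x := by
    intro x hx y hy
    have h1 : closure (Set.range p) ≤ centralizer (closure (Set.range p) : Set G) := by
      rw [closure_le]
      rintro _ ⟨i, rfl⟩
      rw [SetLike.mem_coe, mem_centralizer_iff]
      intro z hz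
      have h2 : closure (Set.range p) ≤ centralizer ({p i} : Set G) := by
        rw [closure_le]
        rintro _ ⟨j, rfl⟩
        exact mem_centralizer_singleton_iff.2 (h.std.comm _ _)
      exact mem_centralizer_singleton_iff.1 (h2 hz)
    exact (mem_centralizer_iff.1 (h1 hx) y hy).symm
  have hm : ∀ i, p i ∈ closure (Set.range p) := fun i => subset_closure ⟨i, rfl⟩
  have hVt : closure {p 2 * p 3, p 2 * p 4} ≤ closure (Set.range p) := by
    rw [closure_le]
    rintro x (rfl | rfl)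
    · exact mul_mem (hm _) (hm _)
    · exact mul_mem (hm _) (hm _)
  have hn : zpowers (nn p) ≤ closure (Set.range p) := zpowers_le.2 (mul_mem (hm _) (hm _))
  have h0 : zpowers (p 0) ≤ closure (Set.range p) := zpowers_le.2 (hm _)
  have mulm : ∀ {A B : Subgroup G}, A ≤ closure (Set.range p) → B ≤ closure (Set.range p) → ∀ {x : G}, x ∈ A ⊔ B →
      ∃ a ∈ A, ∃ b ∈ B, a * b = x := by
    intro A B hA hB x hx
    have hAB : A ≤ normalizer (B : Set G) := by
      intro a ha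
      rw [mem_normalizer_iff]
      intro y
      constructor
      · intro hy
        have e : a * y * a⁻¹ = y := by rw [hV a (hA ha) y (hB hy), mul_inv_cancel_right]
        rwa [e]
      · intro hy
        have e : a * y * a⁻¹ = y := by
          have h2 := hV a (hA ha) _ (hB hy)
          have h3 : a * (a * y * a⁻¹) = a * y := by rw [h2]; group
          exact mul_left_cancel h3
        rwa [e] at hy
    have h1 : x ∈ ((A ⊔ B : Subgroup G) : Set G) := hx
    rw [coe_mul_of_left_le_normalizer_right A B hAB] at h1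
    obtain ⟨a, ha, b, hb, hab⟩ := h1
    exact ⟨a, ha, b, hb, hab⟩
  have h1 := L_gen h hv
  obtain ⟨a, ha, c, hc, rfl⟩ := mulm (sup_le hVt hn) h0 h1
  obtain ⟨w, hw, l, hl, rfl⟩ := mulm hVt hn ha
  exact ⟨w, hw, l, hz h.std.nsq hl, c, hz (h.std.sq 0) hc, rfl⟩

end Cfsg.Agent.Omega.NO3S.WY.Tor.SFiveI
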