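import Cfsg.Agent.Omega.NO3S.WY.Tor.SFiveJ
import Cfsg.Agent.Omega.NO3S.WY.Tor.SFiveVt

/-!
# (TOR') for one `S₅`: `C_Q(W)` is normal in `Y`

`T = Std.T S p`, `W = ⟨aa p ^ Y⟩`, `Q = O₂(P)` : `Q ∩ C(W) = O₂(Y) ∩ C(p 0)`.
-/

set_option autoImplicit false
set_option linter.unusedSectionVars false

namespace Cfsg.Agent.Omega.NO3S.WY.Tor.SFive

open Subgroup Cfsg Cfsg.Agent.ZN Cfsg.Agent.ZN.ChoiceBase Cfsg.Agent.ZN.ChoiceSit
open Cfsg.Agent.MinSimple.VModule (oddGen oddGen_def mem_oddGen oddGen_le)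
open Cfsg.Agent.Omega.NO3b.EZero (cl cl_le le_cl cj_le_cl le_normalizer_cl cent_symm)
open Cfsg.Agent.Omega.NTwo (Std nn aa Fv)
open Cfsg.Agent.Omega.NO3S.Sym.Light (FiveL)

universe u

variable {G : Type u} [Group G] [Finite G] {S : Sylow 2 G} {P Y : Subgroup G} {p : Fin 5 → G}

namespace TorS

variable (t : TorS S P p Y)
include t

/-- `C_S(V_P) = O₂(P)` -/
theorem cs_L : (S : Subgroup G) ⊓ centralizer (zl (S : Subgroup G) P : Set G) = o2 P :=
  MinPar.IsParS.inf_centralizer S t.wy.toWQ.hG t.wy.toWQ.parP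

theorem aa_zl : p 2 * p 3 ∈ zl (Std.T (S : Subgroup G) p) Y :=
  zc_le_zl _ _ (t.five.std.mem_zcT.2 (Or.inr (Or.inr (Or.inl rfl))))

theorem nn_zl : nn p ∈ zl (Std.T (S : Subgroup G) p) Y :=
  zc_le_zl _ _ (t.five.std.mem_zcT.2 (Or.inr (Or.inl rfl)))

theorem W_le_zlE : cl (zpowers (p 2 * p 3)) Y ≤ zl (Std.T (S : Subgroup G) p) Y :=
  cl_le fun y hy => by
    have h1 := cj_mono y (zpowers_le.2 t.aa_zl)
    rwa [cj_eq_of_mem_normalizer (ZN.le_normalizer_zl _ _ hy)] at h1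

/-- an element of `O₂(Y)` which centralises `p 0` centralises `V_P` -/
theorem cent_L_of_p0 (h24 : p 2 * p 4 ∈ zl (Std.T (S : Subgroup G) p) Y) {x : G} (hx : x ∈ o2 Y)
    (h0 : x * p 0 = p 0 * x) : x ∈ centralizer (zl (S : Subgroup G) P : Set G) := by
  have h1 : zl (S : Subgroup G) P ≤ centralizer ({x} : Set G) := by
    refine (SFiveI.L_gen t.five).trans (sup_le (sup_le ?_ ?_) ?_)
    · rw [closure_le]
      intro v hv
      have hv' : v ∈ zl (Std.T (S : Subgroup G) p) Y := by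
        rcases hv with rfl | hv
        · exact t.aa_zl
        · rw [Set.mem_singleton_iff] at hv
          rw [hv]; exact h24
      rw [SetLike.mem_coe, mem_centralizer_singleton_iff]
      exact mem_centralizer_iff.1 (t.cent_zl hx) v hv'
    · rw [zpowers_le, mem_centralizer_singleton_iff]
      exact mem_centralizer_iff.1 (t.cent_zl hx) _ t.nn_zl
    · rw [zpowers_le, mem_centralizer_singleton_iff]
      exact h0.symm
  exact mem_centralizer_iff.2 fun v hv => mem_centralizer_singleton_iff.1 (h1 hv)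

/-- an element of `T` which centralises `W` lies in `O₂(Y)` -/
theorem o2Y_of_cent {x : G} (hx : x ∈ Std.T (S : Subgroup G) p)
    (h : x ∈ centralizer (cl (zpowers (p 2 * p 3)) Y : Set G)) : x ∈ o2 Y := by
  refine t.ker hx fun v hv => ?_
  have h1 : cl (zpowers (p 2 * p 3)) Y ⊔ zpowers (nn p) ≤ centralizer ({x} : Set G) := by
    refine sup_le (fun w hw => ?_) ?_
    · rw [mem_centralizer_singleton_iff]
      exact mem_centralizer_iff.1 h w hw
    · rw [zpowers_le, mem_centralizer_singleton_iff]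
      exact (mem_centralizer_singleton_iff.1 (t.cen (t.TY hx))).symm
  have h2 := mem_centralizer_singleton_iff.1 (h1 (t.zl_le_W hv))
  have e : x * v * x⁻¹ * v⁻¹ = 1 := by rw [← h2]; group
  rw [e]
  exact one_mem _

/-- `O₂(P) ∩ C(W) = O₂(Y) ∩ C(p 0)` -/
theorem Q_inf_cent (h24 : p 2 * p 4 ∈ zl (Std.T (S : Subgroup G) p) Y) :
    o2 P ⊓ centralizer (cl (zpowers (p 2 * p 3)) Y : Set G) = o2 Y ⊓ centralizer ({p 0} : Set G) := by
  apply le_antisymm
  · rintro x ⟨hx, hc⟩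
    refine ⟨t.o2Y_of_cent (t.wy.toWQ.QT hx) hc, ?_⟩
    rw [← t.cs_L] at hx
    exact mem_centralizer_singleton_iff.2 (mem_centralizer_iff.1 hx.2 _ (t.five.toFive.p_mem 0)).symm
  · rintro x ⟨hx, h0⟩
    have h1 := t.cent_L_of_p0 h24 hx (mem_centralizer_singleton_iff.1 h0)
    refine ⟨?_, centralizer_le t.W_le_zlE (t.cent_zl hx)⟩
    rw [← t.cs_L]
    exact ⟨t.wy.toWQ.o2Y_le hx, h1⟩

/-- **`C_Q(W)` is normal in `Y`** -/
theorem KE_of (h24 : p 2 * p 4 ∈ zl (Std.T (S : Subgroup G) p) Y) (K0 : ∀ k ∈ oddGen Y, k * p 0 = p 0 * k) :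
    oddGen Y ≤ normalizer ((o2 P ⊓ centralizer (cl (zpowers (p 2 * p 3)) Y : Set G) : Subgroup G) : Set G) := by
  intro k hk
  rw [t.Q_inf_cent h24, mem_normalizer_iff_cj, cj_inf]
  congr 1
  · exact cj_eq_of_mem_normalizer (ChoiceSit.le_normalizer_o2 Y (oddGen_le Y hk))
  · exact cj_eq_of_mem_normalizer (le_normalizer (mem_centralizer_singleton_iff.2 (K0 k hk)))

end TorS

end Cfsg.Agent.Omega.NO3S.WY.Tor.SFive
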