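import Cfsg.Agent.Omega.NO3S.WY.Tor.LitS

/-!
# (TOR) for ONE `S₅`: the letters

`FiveL S P p`, `T = Std.T S p`.

* `act` : `N_G(V_P)` permutes the five heavy vectors `p i`;
* `exists_t01` : some `t ∈ T` acts as the transposition `(0 1)`;
* `perm_nn`, `perm_T`, `perm_odd` : elements which centralise `nn p`; elements of `T`; elements of odd order;
* `exists_up` : an additive map of `F²` which fixes the line `{(x, 0)}` pointwise, normalises `SL₂(F)` and has 2-power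
  order is an `up b`.
-/

set_option autoImplicit false
set_option linter.unusedSectionVars false

namespace Cfsg.Agent.Omega.NO3S.WY.Tor.SFiveI

open Subgroup Cfsg Cfsg.Agent.ZN Cfsg.Agent.ZN.ChoiceBase
open Cfsg.Agent.Omega.NatPair (ap ap_zero' ap_one' ext2)
open Cfsg.Agent.Lib.SL2Mat
open Cfsg.Agent.Omega.NTwo (Std nn aa mem_cent cm cc)
open Cfsg.Agent.Omega.NO3S.Sym.Light (FiveL)

universe u

section lin

variable {F : Type} [Field F]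

/-- An additive map of `F²` which fixes the line `{(x, 0)}` pointwise, normalises `SL₂(F)` and has 2-power order. -/
theorem exists_up [CharP F 2] (φ : (Fin 2 → F) → Fin 2 → F) (hadd : ∀ x y, φ (x + y) = φ x + φ y)
    (hfix : ∀ x : F, φ ![x, 0] = ![x, 0])
    (hnorm : ∀ A : Matrix.SpecialLinearGroup (Fin 2) F, ∃ B : Matrix.SpecialLinearGroup (Fin 2) F,
      ∀ x, φ (ap A x) = ap B (φ x))
    (h2 : ∃ n : ℕ, ∀ x, φ^[2 ^ n] x = x) : ∃ b, ∀ x, φ x = ap (up b) x := by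
  obtain ⟨B, hB⟩ := hnorm (wm 1 one_ne_zero)
  -- `φ (0, x) = x (c₀, c₁)`
  have hw : ∀ x : F, ap (wm (1 : F) one_ne_zero) ![x, 0] = ![0, -x] := by
    intro x
    apply ext2
    · rw [ap_zero', wm_00, wm_01]; simp
    · rw [ap_one', wm_10, wm_11]; simp
  have h0 : ∀ x : F, φ ![0, -x] = ![ent B 0 0 * x, ent B 1 0 * x] := by
    intro x
    have h := hB ![x, 0]
    rw [hw, hfix] at h
    rw [h]
    apply ext2
    · rw [ap_zero']; simp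
    · rw [ap_one']; simp
  set c₀ : F := - ent B 0 0 with hc₀
  set c₁ : F := - ent B 1 0 with hc₁
  have h1 : ∀ x : F, φ ![0, x] = ![c₀ * x, c₁ * x] := by
    intro x
    have h := h0 (-x)
    rw [neg_neg] at h
    rw [h, hc₀, hc₁]
    apply ext2
    · simp
    · simp
  have h3 : ∀ x, φ x = ![x 0 + c₀ * x 1, c₁ * x 1] := by
    intro x
    have e : x = ![x 0, 0] + ![0, x 1] := by
      apply ext2
      · simp
      · simp
    conv_lhs => rw [e, hadd, hfix, h1]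
    apply ext2
    · simp
    · simp
  have h4 : ∀ n : ℕ, ∀ x, φ^[n] x 1 = c₁ ^ n * x 1 := by
    intro n
    induction n with
    | zero => intro x; simp
    | succ n ih =>
      intro x
      rw [Function.iterate_succ_apply', h3]
      change c₁ * (φ^[n] x 1) = _
      rw [ih x, pow_succ]
      ring
  have hd1 : c₁ = 1 := by
    obtain ⟨n, hn⟩ := h2
    have h5 := h4 (2 ^ n) ![0, 1]
    rw [hn] at h5
    have h6 : c₁ ^ 2 ^ n = 1 := by simpa using h5.symm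
    have h7 : (c₁ - 1) ^ 2 ^ n = 0 := by
      rw [sub_pow_char_pow, one_pow, h6, sub_self]
    have h8 := eq_zero_of_pow_eq_zero h7
    exact sub_eq_zero.mp h8
  refine ⟨c₀, fun x => ?_⟩
  rw [h3, hd1]
  apply ext2
  · rw [ap_zero', up_00, up_01]; simp
  · rw [ap_one', up_10, up_11]; simp

end lin

section perms

theorem dec_nn : ∀ σ : Equiv.Perm (Fin 5), (σ 2 = 2 ∧ σ 3 = 3 ∧ σ 4 = 4) →
    (∀ i, σ i = i) ∨ ∀ i, σ i = Equiv.swap 0 1 i := by decide +kernel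

theorem dec_T : ∀ σ : Equiv.Perm (Fin 5), σ 4 = 4 → ((σ 0 = 0 ∧ σ 1 = 1) ∨ (σ 0 = 1 ∧ σ 1 = 0)) →
    ((σ 2 = 2 ∧ σ 3 = 3) ∨ (σ 2 = 3 ∧ σ 3 = 2)) := by decide +kernel

theorem dec_conj : ∀ σ : Equiv.Perm (Fin 5), (σ * Equiv.swap 0 1 * σ⁻¹ : Equiv.Perm (Fin 5)) 4 = 4 →
    (((σ * Equiv.swap 0 1 * σ⁻¹ : Equiv.Perm (Fin 5)) 0 = 0 ∧ (σ * Equiv.swap 0 1 * σ⁻¹ : Equiv.Perm (Fin 5)) 1 = 1) ∨
      ((σ * Equiv.swap 0 1 * σ⁻¹ : Equiv.Perm (Fin 5)) 0 = 1 ∧ (σ * Equiv.swap 0 1 * σ⁻¹ : Equiv.Perm (Fin 5)) 1 = 0) ∨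
      ((σ * Equiv.swap 0 1 * σ⁻¹ : Equiv.Perm (Fin 5)) 0 = 2 ∧ (σ * Equiv.swap 0 1 * σ⁻¹ : Equiv.Perm (Fin 5)) 1 = 3) ∨
      ((σ * Equiv.swap 0 1 * σ⁻¹ : Equiv.Perm (Fin 5)) 0 = 3 ∧ (σ * Equiv.swap 0 1 * σ⁻¹ : Equiv.Perm (Fin 5)) 1 = 2)) →
    (∀ i, (σ * Equiv.swap 0 1 * σ⁻¹ : Equiv.Perm (Fin 5)) i = Equiv.swap 0 1 i) ∨
      ∀ i, (σ * Equiv.swap 0 1 * σ⁻¹ : Equiv.Perm (Fin 5)) i = Equiv.swap 2 3 i := by decide +kernel

theorem dec_tau : ∀ σ : Equiv.Perm (Fin 5), ((σ 0 = 2 ∧ σ 1 = 3) ∨ (σ 0 = 3 ∧ σ 1 = 2)) →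
    ∀ i, (σ⁻¹ * Equiv.swap 2 3 * σ : Equiv.Perm (Fin 5)) i = Equiv.swap 0 1 i := by decide +kernel

theorem dec_odd : ∀ σ : Equiv.Perm (Fin 5), σ ^ 15 = 1 → ((σ 0 = 0 ∧ σ 1 = 1) ∨ (σ 0 = 1 ∧ σ 1 = 0)) →
    (∀ i, σ i = i) ∨ (σ 0 = 0 ∧ σ 1 = 1 ∧ σ 2 = 3 ∧ σ 3 = 4 ∧ σ 4 = 2) ∨
      (σ 0 = 0 ∧ σ 1 = 1 ∧ σ 2 = 4 ∧ σ 3 = 2 ∧ σ 4 = 3) := by decide +kernel

theorem pow_fifteen {σ : Equiv.Perm (Fin 5)} {m : ℕ} (hm : Odd m) (h : σ ^ m = 1) : σ ^ 15 = 1 := by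
  rw [← orderOf_dvd_iff_pow_eq_one] at h ⊢
  have h1 : orderOf σ ∣ 8 * 15 := by
    have := orderOf_dvd_card (x := σ)
    rw [Fintype.card_perm, Fintype.card_fin] at this
    exact this
  have h2 : Nat.Coprime (orderOf σ) 8 := by
    have : Odd (orderOf σ) := hm.of_dvd_nat h
    exact (Nat.Coprime.pow_right 3 (Nat.coprime_two_right.2 this) : Nat.Coprime (orderOf σ) (2 ^ 3))
  exact h2.dvd_of_dvd_mul_left h1

end perms

variable {G : Type u} [Group G] {p : Fin 5 → G}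

theorem act_pow {g : G} {σ : Equiv.Perm (Fin 5)} (h : ∀ i, g * p i * g⁻¹ = p (σ i)) (n : ℕ) :
    ∀ i, g ^ n * p i * (g ^ n)⁻¹ = p ((σ ^ n) i) := by
  induction n with
  | zero => intro i; simp
  | succ n ih =>
    intro i
    have e : g ^ (n + 1) * p i * (g ^ (n + 1))⁻¹ = g * (g ^ n * p i * (g ^ n)⁻¹) * g⁻¹ := by
      rw [pow_succ']; group
    rw [e, ih, h, pow_succ']
    rfl

theorem act_mul {g k : G} {σ τ : Equiv.Perm (Fin 5)} (h : ∀ i, g * p i * g⁻¹ = p (σ i))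
    (h' : ∀ i, k * p i * k⁻¹ = p (τ i)) : ∀ i, g * k * p i * (g * k)⁻¹ = p ((σ * τ) i) := by
  intro i
  have e : g * k * p i * (g * k)⁻¹ = g * (k * p i * k⁻¹) * g⁻¹ := by group
  rw [e, h', h]
  rfl

theorem act_inv {g : G} {σ : Equiv.Perm (Fin 5)} (h : ∀ i, g * p i * g⁻¹ = p (σ i)) :
    ∀ i, g⁻¹ * p i * g⁻¹⁻¹ = p (σ⁻¹ i) := by
  intro i
  have e := h (σ⁻¹ i)
  rw [show σ (σ⁻¹ i) = i from σ.apply_symm_apply i] at e
  rw [← e]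
  group

variable [Finite G] {S : Sylow 2 G} {P : Subgroup G}

/-- `N_G(V_P)` permutes the five heavy vectors. -/
theorem act (h : FiveL S P p) {g : G} (hg : g ∈ normalizer (zl (S : Subgroup G) P : Set G)) :
    ∃ σ : Equiv.Perm (Fin 5), ∀ i, g * p i * g⁻¹ = p (σ i) := by
  have key : ∀ i, ∃ j, g * p i * g⁻¹ = p j := by
    intro i
    have h1 : g * p i * g⁻¹ ∈ zl (S : Subgroup G) P := (mem_normalizer_iff.1 hg _).1 (h.toFive.p_mem i)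
    rcases h.toFive.elts h1 with h2 | ⟨j, h2⟩ | ⟨j, k, hjk, h2⟩
    · exfalso
      refine h.std.ne i ?_
      calc p i = g⁻¹ * (g * p i * g⁻¹) * g := by group
        _ = 1 := by rw [h2]; group
    · exact ⟨j, h2⟩
    · exfalso
      obtain ⟨k1, hk1, e1⟩ := h.toFive.heavy i
      obtain ⟨k2, hk2, e2⟩ := h.toFive.lights hjk
      refine h.not_conj (k2⁻¹ * g * k1) ?_
      calc k2⁻¹ * g * k1 * p 4 * (k2⁻¹ * g * k1)⁻¹ = k2⁻¹ * (g * (k1 * p 4 * k1⁻¹) * g⁻¹) * k2 := by group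
        _ = k2⁻¹ * (k2 * nn p * k2⁻¹) * k2 := by rw [e1, h2, e2]
        _ = nn p := by group
  choose f hf using key
  have hinj : Function.Injective f := by
    intro i j hij
    apply h.std.inj
    have h1 := hf i
    rw [hij, ← hf j] at h1
    exact mul_left_cancel (mul_right_cancel h1)
  exact ⟨Equiv.ofBijective f (Finite.injective_iff_bijective.1 hinj), fun i => hf i⟩

/-- the permutation of an element which centralises `nn p` -/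
theorem perm_nn (h : Std (S : Subgroup G) P p) {g : G} {σ : Equiv.Perm (Fin 5)} (hσ : ∀ i, g * p i * g⁻¹ = p (σ i))
    (hn : g * nn p * g⁻¹ = nn p) : (σ 0 = 0 ∧ σ 1 = 1) ∨ (σ 0 = 1 ∧ σ 1 = 0) := by
  rw [nn, cm, hσ, hσ] at hn
  exact h.pair_inj (fun e => absurd (σ.injective e) (by decide)) (by decide) hn

theorem perm_T (h : Std (S : Subgroup G) P p) {g : G} {σ : Equiv.Perm (Fin 5)} (hσ : ∀ i, g * p i * g⁻¹ = p (σ i))
    (hg : g ∈ Std.T (S : Subgroup G) p) : σ 4 = 4 ∧ ((σ 0 = 0 ∧ σ 1 = 1) ∨ (σ 0 = 1 ∧ σ 1 = 0)) ∧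
      ((σ 2 = 2 ∧ σ 3 = 3) ∨ (σ 2 = 3 ∧ σ 3 = 2)) := by
  obtain ⟨h1, h2⟩ := Std.mem_T.1 hg
  have h4 : σ 4 = 4 := h.inj (by rw [← hσ, h.fix g h1])
  have h3 := perm_nn h hσ h2
  exact ⟨h4, h3, dec_T σ h4 h3⟩

/-- the permutation of an element of odd order which centralises `nn p` -/
theorem perm_odd (h : Std (S : Subgroup G) P p) {g : G} {σ : Equiv.Perm (Fin 5)} (hσ : ∀ i, g * p i * g⁻¹ = p (σ i))
    (hn : g * nn p * g⁻¹ = nn p) (ho : Odd (orderOf g)) :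
    (∀ i, σ i = i) ∨ (σ 0 = 0 ∧ σ 1 = 1 ∧ σ 2 = 3 ∧ σ 3 = 4 ∧ σ 4 = 2) ∨
      (σ 0 = 0 ∧ σ 1 = 1 ∧ σ 2 = 4 ∧ σ 3 = 2 ∧ σ 4 = 3) := by
  refine dec_odd σ (pow_fifteen ho ?_) (perm_nn h hσ hn)
  ext i
  have h1 := act_pow hσ (orderOf g) i
  rw [pow_orderOf_eq_one, one_mul, inv_one, mul_one] at h1
  exact congrArg _ (h.inj h1).symm

/-- **some `t ∈ T` acts as `(0 1)`** -/
theorem exists_t01 (h : FiveL S P p) :
    ∃ t ∈ Std.T (S : Subgroup G) p, ∀ i, t * p i * t⁻¹ = p (Equiv.swap 0 1 i) := by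
  have hs := h.std
  obtain ⟨g, hg, h1⟩ := hs.full (Equiv.swap 0 1)
  have hn0 : orderOf g ≠ 0 := (orderOf_pos g).ne'
  obtain ⟨s, m, hm, hnm⟩ := Nat.exists_eq_two_pow_mul_odd hn0
  have h2 : ∀ i, g ^ m * p i * (g ^ m)⁻¹ = p (Equiv.swap 0 1 i) := by
    intro i
    rw [act_pow h1]
    obtain ⟨r, hr⟩ := hm
    have e : (Equiv.swap (0 : Fin 5) 1) ^ m = Equiv.swap 0 1 := by
      rw [hr, pow_succ, pow_mul, pow_two, Equiv.swap_mul_self, one_pow, one_mul]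
    rw [e]
  have h3 : IsPGroup 2 (zpowers (g ^ m)) := by
    refine IsPGroup.of_card (n := s) ?_
    rw [Nat.card_zpowers, orderOf_pow_of_dvd (Nat.pos_of_ne_zero (by rintro rfl; simp at hm)).ne' ⟨2 ^ s, by
      rw [hnm, mul_comm]⟩, hnm]
    exact Nat.mul_div_cancel _ (Nat.pos_of_ne_zero (by rintro rfl; simp at hm))
  obtain ⟨x, hx, hxS⟩ := Cfsg.Agent.Omega.FFThm.exists_conj_le S hs.le h3 (zpowers_le.2 (pow_mem hg m))
  obtain ⟨σ, hσ⟩ := hs.perm x hx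
  set y := x * g ^ m * x⁻¹ with hy
  have hyS : y ∈ (S : Subgroup G) := hxS ⟨g ^ m, mem_zpowers _, rfl⟩
  have hρ : ∀ i, y * p i * y⁻¹ = p ((σ * Equiv.swap 0 1 * σ⁻¹ : Equiv.Perm (Fin 5)) i) :=
    act_mul (act_mul hσ h2) (act_inv hσ)
  have h4 : (σ * Equiv.swap 0 1 * σ⁻¹ : Equiv.Perm (Fin 5)) 4 = 4 := hs.inj (by rw [← hρ, hs.fix y hyS])
  have h5 : ((σ * Equiv.swap 0 1 * σ⁻¹ : Equiv.Perm (Fin 5)) 0 = 0 ∧ (σ * Equiv.swap 0 1 * σ⁻¹ : Equiv.Perm (Fin 5)) 1 = 1) ∨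
      ((σ * Equiv.swap 0 1 * σ⁻¹ : Equiv.Perm (Fin 5)) 0 = 1 ∧ (σ * Equiv.swap 0 1 * σ⁻¹ : Equiv.Perm (Fin 5)) 1 = 0) ∨
      ((σ * Equiv.swap 0 1 * σ⁻¹ : Equiv.Perm (Fin 5)) 0 = 2 ∧ (σ * Equiv.swap 0 1 * σ⁻¹ : Equiv.Perm (Fin 5)) 1 = 3) ∨
      ((σ * Equiv.swap 0 1 * σ⁻¹ : Equiv.Perm (Fin 5)) 0 = 3 ∧ (σ * Equiv.swap 0 1 * σ⁻¹ : Equiv.Perm (Fin 5)) 1 = 2) := by
    have hne : (σ * Equiv.swap 0 1 * σ⁻¹ : Equiv.Perm (Fin 5)) 0 ≠ (σ * Equiv.swap 0 1 * σ⁻¹ : Equiv.Perm (Fin 5)) 1 := fun e =>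
      absurd ((σ * Equiv.swap 0 1 * σ⁻¹ : Equiv.Perm (Fin 5)).injective e) (by decide)
    rcases hs.part y hyS with h6 | h6
    · rw [cm, hρ, hρ] at h6
      rcases hs.pair_inj hne (by decide) h6 with h7 | h7
      · exact Or.inl h7
      · exact Or.inr (Or.inl h7)
    · rw [cm, hρ, hρ] at h6
      rcases hs.pair_inj hne (by decide) h6 with h7 | h7
      · exact Or.inr (Or.inr (Or.inl h7))
      · exact Or.inr (Or.inr (Or.inr h7))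
  have key : ∃ t ∈ (S : Subgroup G), ∀ i, t * p i * t⁻¹ = p (Equiv.swap 0 1 i) := by
    rcases dec_conj σ h4 h5 with h6 | h6
    · exact ⟨y, hyS, fun i => by rw [hρ, h6]⟩
    · obtain ⟨τ, hτ, h7⟩ := hs.tau
      obtain ⟨ρ, hρ'⟩ := hs.perm τ (hs.le hτ)
      have h8 : (ρ 0 = 2 ∧ ρ 1 = 3) ∨ (ρ 0 = 3 ∧ ρ 1 = 2) := by
        rw [cm, hρ', hρ'] at h7
        exact hs.pair_inj (fun e => absurd (ρ.injective e) (by decide)) (by decide) h7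
      have h9 : ∀ i, y * p i * y⁻¹ = p (Equiv.swap 2 3 i) := fun i => by rw [hρ, h6]
      refine ⟨τ⁻¹ * y * τ, mul_mem (mul_mem (inv_mem hτ) hyS) hτ, fun i => ?_⟩
      rw [act_mul (act_mul (act_inv hρ') h9) hρ', dec_tau ρ h8]
  obtain ⟨t, ht, h6⟩ := key
  refine ⟨t, Std.mem_T.2 ⟨ht, ?_⟩, h6⟩
  rw [nn, cm, h6, h6, Equiv.swap_apply_left, Equiv.swap_apply_right, hs.comm]

end Cfsg.Agent.Omega.NO3S.WY.Tor.SFiveI
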