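import Cfsg.Agent.Omega.NO3S.WY.Tor.SFiveK
import Cfsg.Agent.Omega.CaseLQ.FiveFacts

/-!
# (TOR') for one `S₅`: `O²(Y)` centralises `V*_τ`

* `TorS.p0_comm` : `[Y, p 0] ≤ ⟨nn p⟩`: the odd kernel lemma, since `N_Y(O₂(P))` permutes `p 0`, `p 1`;
* `TorS.K0`, `TorS.K1` : `O²(Y)` centralises `p 0`, `p 1`.
-/

set_option autoImplicit false
set_option linter.unusedSectionVars false

namespace Cfsg.Agent.Omega.NO3S.WY.Tor.SFive

open Subgroup Cfsg Cfsg.Agent.ZN Cfsg.Agent.ZN.ChoiceBase Cfsg.Agent.ZN.ChoiceSit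
open Cfsg.Agent.MinSimple.VModule (oddGen oddGen_def mem_oddGen oddGen_le)
open Cfsg.Agent.Omega.NTwo (Std nn aa Fv cm)
open Cfsg.Agent.Omega.NO3S.Sym.Light (FiveL)
open Cfsg.Agent.Omega.NO3S.RedC (GX DX)
open scoped commutatorElement

universe u

variable {G : Type u} [Group G] [Finite G] {S : Sylow 2 G} {P Y : Subgroup G} {p : Fin 5 → G}

namespace TorS

variable (t : TorS S P p Y)
include t

/-- `Y` centralises `nn p` -/
theorem Ynn {y : G} (hy : y ∈ Y) : y * nn p = nn p * y := mem_centralizer_singleton_iff.1 (t.cen hy)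

/-- an element of `C(nn p)` which normalises `O₂(P)` maps `p 0` to `p 0` or `p 1` -/
theorem mv_p0 {g : G} (hg : g * nn p = nn p * g) (hQ : g ∈ normalizer (o2 P : Set G)) :
    g * p 0 * g⁻¹ = p 0 ∨ g * p 0 * g⁻¹ = p 1 := by
  obtain ⟨σ, hσ⟩ := CaseLQ.FiveFacts.act t.five (t.wy.toWQ.cl.norm_o2_le hQ)
  have h1 : g * (p 0 * p 1) * g⁻¹ = p 0 * p 1 := by
    change g * nn p * g⁻¹ = nn p
    rw [hg, mul_inv_cancel_right]
  rw [cm, hσ, hσ] at h1
  rw [hσ]
  have h2 := t.five.std.toFv.pair_inj (fun e => absurd (σ.injective e) (by decide)) (by decide) h1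
  rcases h2 with ⟨a, -⟩ | ⟨a, -⟩
  · left; rw [a]
  · right; rw [a]

/-- **`[Y, p 0] ≤ ⟨nn p⟩`** -/
theorem p0_comm : ∀ y ∈ Y, y * p 0 * y⁻¹ * (p 0)⁻¹ ∈ zpowers (nn p) := by
  obtain ⟨V, 𝓕, fm⟩ := t.fam
  have hL : zl (S : Subgroup G) P ≤ V ⊓ o2 (centralizer ({nn p} : Set G)) :=
    le_inf (t.wy.toWQ.L_le_zl.trans fm.md.ge) t.five.V_le_o2
  refine t.ker0V fm (zpowers (nn p)) ((zpowers_le.2 t.five.toFive.n_mem).trans hL) (fun y hy => ?_) (p 0)
    (hL (t.five.toFive.p_mem 0)) fun g hg hQ => ?_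
  · have h2 := t.cen hy
    rw [← cent_zpowers] at h2
    exact centralizer_le_normalizer _ h2
  · rw [commutatorElement_def]
    rcases t.mv_p0 (t.Ynn hg) hQ with h | h
    · rw [h, mul_inv_cancel]; exact one_mem _
    · rw [h, t.five.std.toFv.pinv, t.five.std.comm 1 0]; exact mem_zpowers _

/-- **`O²(Y)` centralises `p 0`** -/
theorem K0 : ∀ k ∈ oddGen Y, k * p 0 = p 0 * k := by
  have h1 : oddGen Y ≤ centralizer ({p 0} : Set G) := by
    rw [oddGen_def, closure_le]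
    rintro k ⟨hk, ho⟩
    rw [SetLike.mem_coe, mem_centralizer_singleton_iff]
    refine SFiveB.comm_of_odd (A := zl (S : Subgroup G) P) (Λ := zpowers (nn p)) (fun a ha => ?_) ho (t.p0_comm k hk)
      (fun z hz => ?_) (zpowers_le.2 t.five.toFive.n_mem)
    · rw [← sq]
      exact (ChoiceBase.mem_zc.1 (t.wy.toWQ.L_le ha)).2.1
    · have h2 := t.cen hk
      rw [← cent_zpowers] at h2
      exact (mem_centralizer_iff.1 h2 z hz).symm
  exact fun k hk => mem_centralizer_singleton_iff.1 (h1 hk)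

/-- **`O²(Y)` centralises `p 1`** -/
theorem K1 : ∀ k ∈ oddGen Y, k * p 1 = p 1 * k := by
  intro k hk
  have e : p 1 = nn p * p 0 := by
    change p 1 = p 0 * p 1 * p 0
    rw [t.five.std.comm 0 1, mul_assoc, t.five.std.sq, mul_one]
  have h1 := t.Ynn (oddGen_le Y hk)
  have h2 := t.K0 k hk
  calc k * p 1 = k * nn p * p 0 := by rw [e]; group
    _ = nn p * (k * p 0) := by rw [h1]; group
    _ = nn p * p 0 * k := by rw [h2]; group
    _ = p 1 * k := by rw [← e]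

end TorS

end Cfsg.Agent.Omega.NO3S.WY.Tor.SFive
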