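import Cfsg.Agent.Omega.NO3S.WY.Tor.SFiveK
import Cfsg.Agent.Omega.NO3S.WY.Tor.SFiveVt
import Cfsg.Agent.Omega.CaseLQ.FiveFacts
import Cfsg.Agent.Omega.CaseLQ.FiveSit

/-!
# (TOR') for one `S₅`: helper944's `SFiveB.Sit`

`t : TorS S P p Y`, `T = Std.T S p`, `V_τ = ⟨p 2 p 3, p 2 p 4⟩`, `W = ⟨aa p ^ Y⟩`, `Λ = ⟨nn p⟩`.

* `TorS.Vt_le_zl` : `V_τ ≤ zl T Y`;  `TorS.Vt_le_W` : `V_τ ≤ W Λ`;
* `TorS.NQ` : `[N_Y(O₂(P)), V_P] ≤ W Λ`;
* **`TorS.sit`** : `SFiveB.Sit Y (o2 P) T (V ∩ O₂(C(n))) V_P W Λ`, `V` the module of the family.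
-/

set_option autoImplicit false
set_option linter.unusedSectionVars false

namespace Cfsg.Agent.Omega.NO3S.WY.Tor.SFive

open Subgroup Cfsg Cfsg.Agent.ZN Cfsg.Agent.ZN.ChoiceBase Cfsg.Agent.ZN.ChoiceSit
open Cfsg.Agent.Omega.FFThm (OffM ElemM NatKM ActsSL)
open Cfsg.Agent.Omega.FrameFF (cv)
open Cfsg.Agent.Omega.NO3b.EZero (cl cl_le le_cl cj_le_cl le_normalizer_cl cent_symm)
open Cfsg.Agent.Omega.NTwo (Std nn aa Fv cm)
open Cfsg.Agent.Omega.NO3S.Sym.Light (FiveL)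
open Cfsg.Agent.Omega.NO3S.RedC (GX DX)
open Cfsg.Agent.Omega.SQ1.Bau (mem_sup_comm)

universe u

variable {G : Type u} [Group G] [Finite G] {S : Sylow 2 G} {P Y V A : Subgroup G} {𝓕 : Set (Subgroup G)}
  {p : Fin 5 → G}

/-- an element of `N(V_P) ∩ C(n)` moves `V_P` inside `V_τ Λ` -/
theorem comm_Vt (hl : FiveL S P p) {g : G} (hg : g ∈ normalizer (zl (S : Subgroup G) P : Set G))
    (hn : g * nn p * g⁻¹ = nn p) {v : G} (hv : v ∈ zl (S : Subgroup G) P) :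
    g * v * g⁻¹ * v⁻¹ ∈ closure {p 2 * p 3, p 2 * p 4} ⊔ zpowers (nn p) := by
  obtain ⟨σ, hσ⟩ := CaseLQ.FiveFacts.act hl hg
  have h := hl.std.toFv
  have h01 : (σ 0 = 0 ∧ σ 1 = 1) ∨ (σ 0 = 1 ∧ σ 1 = 0) := by
    have e : p (σ 0) * p (σ 1) = p 0 * p 1 := by
      have e2 : g * (p 0 * p 1) * g⁻¹ = p 0 * p 1 := hn
      rwa [cm, hσ, hσ] at e2
    rcases h.pair_inj (fun e => absurd (σ.injective e) (by decide)) (by decide) e with h1 | h1
    · exact Or.inl h1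
    · exact Or.inr h1
  have hnm : nn p ∈ closure {p 2 * p 3, p 2 * p 4} ⊔ zpowers (nn p) := mem_sup_right (mem_zpowers _)
  have hpi : ∀ i, p (σ i) * p i ∈ closure {p 2 * p 3, p 2 * p 4} ⊔ zpowers (nn p) := by
    have key : ∀ σ : Equiv.Perm (Fin 5), ((σ 0 = 0 ∧ σ 1 = 1) ∨ (σ 0 = 1 ∧ σ 1 = 0)) → ∀ i : Fin 5, 2 ≤ i → 2 ≤ σ i := by
      decide +kernel
    have key2 : ∀ i : Fin 5, i = 0 ∨ i = 1 ∨ 2 ≤ i := by decide
    intro i
    rcases key2 i with rfl | rfl | hi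
    · rcases h01 with ⟨e, -⟩ | ⟨e, -⟩ <;> rw [e]
      · rw [h.sq]; exact one_mem _
      · rw [h.comm 1 0]; exact hnm
    · rcases h01 with ⟨-, e⟩ | ⟨-, e⟩ <;> rw [e]
      · rw [h.sq]; exact one_mem _
      · exact hnm
    · exact mul_mem (SFiveI.p_mem_vt hl (key σ h01 i hi)) (SFiveI.p_mem_vt hl hi)
  rcases hl.toFive.elts hv with rfl | ⟨i, rfl⟩ | ⟨i, j, -, rfl⟩
  · have e : g * 1 * g⁻¹ * (1 : G)⁻¹ = 1 := by group
    rw [e]
    exact one_mem _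
  · rw [hσ, h.pinv]
    exact hpi i
  · rw [cm, hσ, hσ, mul_inv_rev, h.pinv, h.pinv]
    have e : p (σ i) * p (σ j) * (p j * p i) = (p (σ i) * p i) * (p (σ j) * p j) := by
      have e1 : p j * p i = p i * p j := h.comm _ _
      have e2 : p (σ j) * p i = p i * p (σ j) := h.comm _ _
      calc p (σ i) * p (σ j) * (p j * p i) = p (σ i) * p (σ j) * (p i * p j) := by rw [e1]
        _ = p (σ i) * (p (σ j) * p i) * p j := by group
        _ = p (σ i) * (p i * p (σ j)) * p j := by rw [e2]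
        _ = (p (σ i) * p i) * (p (σ j) * p j) := by group
    rw [e]
    exact mul_mem (hpi i) (hpi j)

namespace TorS

variable (t : TorS S P p Y)
include t

/-- `V_P` lies in the module of the family -/
theorem L_le_V (fm : FamT S P Y V 𝓕) : zl (S : Subgroup G) P ≤ V := t.wy.toWQ.L_le_zl.trans fm.md.ge

theorem Vt_le_L : closure {p 2 * p 3, p 2 * p 4} ≤ zl (S : Subgroup G) P := by
  rw [closure_le]
  rintro _ (rfl | rfl)
  · exact mul_mem (t.five.toFive.p_mem 2) (t.five.toFive.p_mem 3)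
  · exact mul_mem (t.five.toFive.p_mem 2) (t.five.toFive.p_mem 4)

/-- **`V_τ ≤ zl T Y`** -/
theorem Vt_le_zl : closure {p 2 * p 3, p 2 * p 4} ≤ zl (Std.T (S : Subgroup G) p) Y := by
  obtain ⟨V, 𝓕, fm⟩ := t.fam
  obtain ⟨F, _, _, _, N, h4, hN, -⟩ := t.nat
  have hVc : V ≤ centralizer (V : Set G) := t.wy.toWQ.Vc fm.md
  have hcm : ∀ a ∈ closure {p 2 * p 3, p 2 * p 4}, ∀ b ∈ cv (Std.T (S : Subgroup G) p) Y, a * b = b * a := by
    intro a ha b hb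
    have h1 : a ∈ V := t.L_le_V fm (t.Vt_le_L ha)
    have h2 : b ∈ V := t.zl_le_V fm hb.1
    exact (mem_centralizer_iff.1 (hVc h1) b h2).symm
  have hex : ∀ c : F, ∃ w : closure {p 2 * p 3, p 2 * p 4}, (w : G) ∈ zl (Std.T (S : Subgroup G) p) Y ∧
      N.e (w : G) 0 = ![c, 0] := by
    intro c
    obtain ⟨v, hv, hve⟩ := N.surj fun _ => ![c, 0]
    have h1 : N.e v 0 1 = 0 := by rw [hve]; rfl
    obtain ⟨w, hw, d, hd, e⟩ := mem_sup_comm hcm ((hN v hv).1 h1)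
    have hwz : w ∈ zl (Std.T (S : Subgroup G) p) Y := by
      have e2 : w = v * d⁻¹ := by rw [e]; group
      rw [e2]
      exact mul_mem hv (inv_mem hd.1)
    refine ⟨⟨w, hw⟩, hwz, ?_⟩
    have h2 := N.mul w hwz d hd.1
    rw [← e, (N.ker d hd.1).2 hd, add_zero, hve] at h2
    exact (congrFun h2 0).symm
  choose f hf hfe using hex
  have hinj : Function.Injective f := by
    intro a b hab
    have h1 := hfe a
    rw [hab, hfe b] at h1
    exact (congrFun h1 0).symm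
  have hcard : Nat.card (closure {p 2 * p 3, p 2 * p 4}) ≤ Nat.card F := by
    rw [h4]
    exact (CaseLQ.FiveI.card_Vt t.five.std.toFv).le
  have hbij := hinj.bijective_of_nat_card_le hcard
  intro w hw
  obtain ⟨c, hc⟩ := hbij.2 ⟨w, hw⟩
  have h1 := hf c
  rw [hc] at h1
  exact h1

/-- **`V_τ ≤ W Λ`** -/
theorem Vt_le_W : closure {p 2 * p 3, p 2 * p 4} ≤ cl (zpowers (p 2 * p 3)) Y ⊔ zpowers (nn p) :=
  t.Vt_le_zl.trans t.zl_le_W

theorem a_zl : p 2 * p 3 ∈ zl (Std.T (S : Subgroup G) p) Y :=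
  ZN.zc_le_zl (t.five.std.mem_zcT.2 (Or.inr (Or.inr (Or.inl rfl))))

/-- `W ≤ zl T Y` -/
theorem W_le_zlT : cl (zpowers (p 2 * p 3)) Y ≤ zl (Std.T (S : Subgroup G) p) Y := by
  refine cl_le fun y hy => ?_
  have h1 : zpowers (p 2 * p 3) ≤ zl (Std.T (S : Subgroup G) p) Y := zpowers_le.2 t.a_zl
  have h2 := cj_mono y h1
  rwa [cj_eq_of_mem_normalizer (ZN.le_normalizer_zl (Std.T (S : Subgroup G) p) Y hy)] at h2

/-- `[N_Y(O₂(P)), V_P] ≤ W Λ` -/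
theorem NQ {g : G} (hg : g ∈ Y) (hgQ : g ∈ normalizer (o2 P : Set G)) {l : G} (hl : l ∈ zl (S : Subgroup G) P) :
    g * l * g⁻¹ * l⁻¹ ∈ cl (zpowers (p 2 * p 3)) Y ⊔ zpowers (nn p) := by
  have hn : g * nn p * g⁻¹ = nn p := by
    have := mem_centralizer_singleton_iff.1 (t.cen hg)
    rw [this, mul_inv_cancel_right]
  exact sup_le t.Vt_le_W le_sup_right (comm_Vt t.five (t.wy.toWQ.cl.norm_o2_le hgQ) hn hl)

/-- **helper944's `Sit`** -/
theorem sit (fm : FamT S P Y V 𝓕) : SFiveB.Sit Y (o2 P) (Std.T (S : Subgroup G) p)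
    (V ⊓ o2 (centralizer ({nn p} : Set G))) (zl (S : Subgroup G) P) (cl (zpowers (p 2 * p 3)) Y)
    (zpowers (nn p)) where
  Aab := fun a ha b hb => (mem_centralizer_iff.1 (t.wy.toWQ.Vc fm.md ha.1) b hb.1).symm
  As := fun a ha => by
    rw [← sq]
    exact t.wy.toWQ.V_sq a (fm.md.le ha.1)
  YA := fun y hy => by
    rw [mem_normalizer_iff_cj, cj_inf, cj_eq_of_mem_normalizer (fm.md.norm (t.wy.toWQ.Y_le hy)),
      cj_eq_of_mem_normalizer (ZN.le_normalizer_o2 _ (t.cen hy))]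
  LA := le_inf (t.L_le_V fm) t.five.V_le_o2
  WA := t.W_le_zlT.trans (le_inf (t.zl_le_V fm) t.zl_low)
  YW := le_normalizer_cl _ _
  ΛL := zpowers_le.2 t.five.toFive.n_mem
  YΛ := fun y hy z hz => by
    have h1 : zpowers (nn p) ≤ centralizer ({y} : Set G) := by
      rw [zpowers_le, mem_centralizer_singleton_iff]
      exact (mem_centralizer_singleton_iff.1 (t.cen hy)).symm
    exact (mem_centralizer_singleton_iff.1 (h1 hz)).symm
  syl := t.Tn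
  NQ := fun g hg hgQ l hl => t.NQ hg hgQ hl
  ker := t.ker0V fm

end TorS

end Cfsg.Agent.Omega.NO3S.WY.Tor.SFive
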