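import Cfsg.Agent.Omega.NO3S.WY.Tor.NatOne
import Cfsg.Agent.Omega.NO3S.WY.Tor.SFiveJ
import Cfsg.Agent.Omega.NO3S.WY.Tor.SFiveVt
import Cfsg.Agent.Omega.TTn.Norm

/-!
# (TOR') for one `S₅`: `O₂(P)` is a Sylow 2-subgroup of `O²(Y) O₂(P)`
-/

set_option autoImplicit false
set_option linter.unusedSectionVars false

namespace Cfsg.Agent.Omega.NO3S.WY.Tor.SFive

open Subgroup Cfsg Cfsg.Agent.ZN Cfsg.Agent.ZN.ChoiceBase Cfsg.Agent.ZN.ChoiceSit
open Cfsg.Agent.MinSimple.VModule (oddGen oddGen_def mem_oddGen oddGen_le le_normalizer_oddGen)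
open Cfsg.Agent.Omega.MinPar
open Cfsg.Agent.Omega.FFThm (OffM ElemM NatKM ActsSL)
open Cfsg.Agent.Omega.NatPair (ap ap_one)
open Cfsg.Agent.Lib.SL2Mat (up)
open Cfsg.Agent.Omega.FrameFF (cv)
open Cfsg.Agent.Omega.NTwo (Std nn aa Fv cm mem_cent)
open Cfsg.Agent.Omega.NO3S.Sym.Light (FiveL)

universe u

variable {G : Type u} [Group G] [Finite G] {S : Sylow 2 G} {P Y : Subgroup G} {p : Fin 5 → G}

theorem key_syl : ∀ σ : Equiv.Perm (Fin 5), σ 4 = 4 → σ 0 = 0 → ((σ 0 = 0 ∧ σ 1 = 1) ∨ (σ 0 = 1 ∧ σ 1 = 0)) →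
    σ = 1 ∨ (σ 2 = 3 ∧ σ 3 = 2) := by decide +kernel

namespace TorS

variable (t : TorS S P p Y)
include t

/-- an element of `K ∩ T` lies in `Q` -/
theorem KT_le {F : Type} [Field F] [Finite F] [CharP F 2]
    (N : NatKM F (Std.T (S : Subgroup G) p) Y (zl (Std.T (S : Subgroup G) p) Y) (cv (Std.T (S : Subgroup G) p) Y) 1)
    (hN : ∀ v ∈ zl (Std.T (S : Subgroup G) p) Y,
      N.e v 0 1 = 0 ↔ v ∈ closure {p 2 * p 3, p 2 * p 4} ⊔ cv (Std.T (S : Subgroup G) p) Y)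
    (D1 : ∀ d ∈ cv (Std.T (S : Subgroup G) p) Y, d = 1 ∨ d = nn p)
    (h24 : p 2 * p 4 ∈ zl (Std.T (S : Subgroup G) p) Y) (K0 : ∀ k ∈ oddGen Y, k * p 0 = p 0 * k) {k : G}
    (hk : k ∈ oddGen Y) (hkT : k ∈ Std.T (S : Subgroup G) p) : k ∈ o2 P := by
  have hs := t.five.std
  have hV : Y ≤ normalizer (zl (Std.T (S : Subgroup G) p) Y : Set G) := ZN.le_normalizer_zl _ _
  have hD : Y ≤ normalizer (cv (Std.T (S : Subgroup G) p) Y : Set G) := fun y hy => by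
    rw [mem_normalizer_iff_cj, FrameFF.cv, cj_inf, cj_centralizer,
      cj_eq_of_mem_normalizer (ZN.le_normalizer_zl _ _ hy), cj_eq_of_mem_normalizer (le_normalizer_oddGen Y hy)]
  obtain ⟨b, hb⟩ := NatOne.T_up N.toNatK t.wy.syl hV hD hkT hk
  have hkY := oddGen_le Y hk
  -- `[p 2 p 4, k] ∈ D`
  have h0 : N.e (p 2 * p 4) 0 1 = 0 :=
    (hN _ h24).2 (mem_sup_left (SFiveI.mem_vt24 p))
  have hw : k * (p 2 * p 4) * k⁻¹ ∈ zl (Std.T (S : Subgroup G) p) Y := (mem_normalizer_iff.1 (hV hkY) _).1 h24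
  have h1 : k * (p 2 * p 4) * k⁻¹ * (p 2 * p 4)⁻¹ ∈ cv (Std.T (S : Subgroup G) p) Y := by
    refine (NatOne.div1 N.toNatK hw h24).2 ?_
    rw [NatOne.ac_e hb h24]
    funext j
    fin_cases j
    · change 1 * N.e (p 2 * p 4) 0 0 + b * N.e (p 2 * p 4) 0 1 = N.e (p 2 * p 4) 0 0
      rw [h0, mul_zero, add_zero, one_mul]
    · change 0 * N.e (p 2 * p 4) 0 0 + 1 * N.e (p 2 * p 4) 0 1 = N.e (p 2 * p 4) 0 1
      rw [zero_mul, zero_add, one_mul]
  have h2 := D1 _ h1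
  -- the permutation
  obtain ⟨σ, hσ⟩ := hs.perm k (hs.le (Std.T_le hkT))
  have h4 : σ 4 = 4 := by
    have h3 := hs.fix k (Std.T_le hkT)
    rw [hσ] at h3
    exact hs.inj h3
  have h00 : σ 0 = 0 := by
    have h3 : k * p 0 * k⁻¹ = p 0 := by rw [K0 k hk, mul_inv_cancel_right]
    rw [hσ] at h3
    exact hs.inj h3
  have hn : (σ 0 = 0 ∧ σ 1 = 1) ∨ (σ 0 = 1 ∧ σ 1 = 0) := by
    have h3 := mem_cent.1 (t.cen hkY)
    rw [nn, cm, hσ, hσ] at h3
    exact hs.pair_inj (fun e => absurd (σ.injective e) (by decide)) (by decide) h3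
  rcases key_syl σ h4 h00 hn with rfl | ⟨h23, h32⟩
  · -- `k` centralises `L`
    rw [← MinPar.IsParS.inf_centralizer S t.five.ctx.char2 t.five.star]
    refine ⟨Std.T_le hkT, mem_centralizer_iff.2 fun v hv => ?_⟩
    have hv : v ∈ zl (S : Subgroup G) P := hv
    rw [t.five.gen] at hv
    have h5 : closure (Set.range p) ≤ centralizer ({k} : Set G) := by
      rw [closure_le]
      rintro _ ⟨i, rfl⟩
      refine mem_centralizer_singleton_iff.2 ?_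
      have h6 := hσ i
      rw [Equiv.Perm.one_apply] at h6
      exact (mul_inv_eq_iff_eq_mul.1 h6).symm
    exact mem_centralizer_singleton_iff.1 (h5 hv)
  · exfalso
    have e : k * (p 2 * p 4) * k⁻¹ * (p 2 * p 4)⁻¹ = aa p := by
      rw [cm, hσ, hσ, h23, h4, mul_inv_rev, hs.pinv, hs.pinv, mul_assoc, ← mul_assoc (p 4), hs.sq, one_mul,
        hs.comm 3 2]
    rw [e] at h2
    rcases h2 with h2 | h2
    · exact hs.a_ne_one h2
    · exact hs.n_ne_a h2.symm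

theorem syl_of {F : Type} [Field F] [Finite F] [CharP F 2]
    (N : NatKM F (Std.T (S : Subgroup G) p) Y (zl (Std.T (S : Subgroup G) p) Y) (cv (Std.T (S : Subgroup G) p) Y) 1)
    (hN : ∀ v ∈ zl (Std.T (S : Subgroup G) p) Y,
      N.e v 0 1 = 0 ↔ v ∈ closure {p 2 * p 3, p 2 * p 4} ⊔ cv (Std.T (S : Subgroup G) p) Y)
    (D1 : ∀ d ∈ cv (Std.T (S : Subgroup G) p) Y, d = 1 ∨ d = nn p)
    (h24 : p 2 * p 4 ∈ zl (Std.T (S : Subgroup G) p) Y) (K0 : ∀ k ∈ oddGen Y, k * p 0 = p 0 * k) :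
    Syl (o2 P) (oddGen Y ⊔ o2 P) := by
  have hQT : o2 P ≤ Std.T (S : Subgroup G) p := t.wy.toWQ.QT
  have hQY : o2 P ≤ Y := hQT.trans t.TY
  have hKQY : oddGen Y ⊔ o2 P ≤ Y := sup_le (oddGen_le Y) hQY
  have hTQ : Std.T (S : Subgroup G) p ≤ normalizer (o2 P : Set G) :=
    (Std.T_le.trans t.five.std.le).trans (ZN.le_normalizer_o2 P)
  have hQK : o2 P ≤ normalizer (oddGen Y : Set G) := hQY.trans (le_normalizer_oddGen Y)
  -- `T ∩ K Q ≤ Q`
  have hint : ∀ x ∈ Std.T (S : Subgroup G) p, x ∈ oddGen Y ⊔ o2 P → x ∈ o2 P := by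
    intro x hx hxK
    have h1 : x ∈ ((o2 P ⊔ oddGen Y : Subgroup G) : Set G) := by rw [sup_comm]; exact hxK
    rw [coe_mul_of_left_le_normalizer_right _ _ hQK] at h1
    obtain ⟨q, hq, k, hk, rfl⟩ := h1
    have hq' : q ∈ o2 P := hq
    have hk' : k ∈ oddGen Y := hk
    have hkT : k ∈ Std.T (S : Subgroup G) p := by
      have h2 : (fun x1 x2 : G => x1 * x2) q k ∈ Std.T (S : Subgroup G) p := hx
      have h3 := mul_mem (inv_mem (hQT hq')) h2
      rwa [inv_mul_cancel_left] at h3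
    exact mul_mem hq' (t.KT_le N hN D1 h24 K0 hk' hkT)
  -- `Y ≤ N(K Q)`
  have hY : Y ≤ normalizer ((oddGen Y ⊔ o2 P : Subgroup G) : Set G) := by
    have h1 : Y = oddGen Y ⊔ Std.T (S : Subgroup G) p := (NO3b.EZero.oddGen_sup_syl t.wy.syl).symm
    rw [h1]
    rw [← h1]
    have h2 : oddGen Y ⊔ Std.T (S : Subgroup G) p ≤ normalizer ((oddGen Y ⊔ o2 P : Subgroup G) : Set G) := by
      refine sup_le (le_sup_left.trans le_normalizer) fun x hx => ?_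
      rw [mem_normalizer_iff_cj, cj_sup, cj_eq_of_mem_normalizer (le_normalizer_oddGen Y (t.TY hx)),
        cj_eq_of_mem_normalizer (hTQ hx)]
    exact h1.le.trans h2
  refine ⟨le_sup_right, ChoiceSit.isPGroup_o2 P, fun R hR hR2 hQR => ?_⟩
  obtain ⟨y, hy, hyR⟩ := TTn.exists_conj_le_of_odd_relIndex t.T2 t.Tn hR2 (hR.trans hKQY)
  have h1 : cj y R ≤ o2 P := by
    rintro _ ⟨x, hx, rfl⟩
    exact hint _ (hyR x hx) ((mem_normalizer_iff.1 (hY hy) x).1 (hR hx))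
  have h2 : Nat.card R ≤ Nat.card (o2 P) := by
    have h3 : Nat.card (cj y R) = Nat.card R := card_cj y R
    rw [← h3]
    exact Subgroup.card_le_of_le h1
  exact (Subgroup.eq_of_le_of_card_ge hQR h2).symm

end TorS

end Cfsg.Agent.Omega.NO3S.WY.Tor.SFive
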