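import Cfsg.Agent.Omega.NO3S.WY.Tor.SFiveI

/-!
# (TOR) for ONE `S₅`: `TorS` gives the facts `Y5`

* `K0_of` : `[Y, p 0] ≤ ⟨nn p⟩` implies `O²(Y) ≤ C(p 0)`;
* `WL_of`; **`y5_of`**.
-/

set_option autoImplicit false
set_option linter.unusedSectionVars false
set_option linter.dupNamespace false

namespace Cfsg.Agent.Omega.NO3S.WY.Tor.SFiveI

open Subgroup Cfsg Cfsg.Agent.ZN Cfsg.Agent.ZN.ChoiceBase
open Cfsg.Agent.ZN.ChoiceSit (Syl exists_syl syl_conj)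
open Cfsg.Agent.Omega.FFThm (OffM ElemM NatK NatKM ActsSL)
open Cfsg.Agent.Lib.SL2Mat
open Cfsg.Agent.Omega.FrameFF (cv)
open Cfsg.Agent.Omega.NTwo (Std nn aa mem_cent cm cc)
open Cfsg.Agent.MinSimple.VModule (oddGen oddGen_def oddGen_le le_normalizer_oddGen)
open Cfsg.Agent.Omega.NO3b.EZero (cl cl_le le_cl cj_le_cl le_normalizer_cl oddGen_sup_syl)
open Cfsg.Agent.Omega.SQ1.Bau (mem_sup_comm)
open Cfsg.Agent.Omega.NO3S.WY.Tor.SFive (TorS Y5)

universe u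

variable {G : Type u} [Group G] [Finite G] {S : Sylow 2 G} {P Y : Subgroup G} {p : Fin 5 → G}

/-- `O²(Y)` centralises `p 0` -/
theorem K0_of (t : TorS S P p Y) (hp : ∀ y ∈ Y, y * p 0 * y⁻¹ * (p 0)⁻¹ ∈ zpowers (nn p)) :
    ∀ k ∈ oddGen Y, k * p 0 = p 0 * k := by
  have h1 : oddGen Y ≤ centralizer ({p 0} : Set G) := by
    rw [oddGen_def, closure_le]
    rintro g ⟨hg, ho⟩
    rw [SetLike.mem_coe, mem_centralizer_singleton_iff]
    refine SFiveB.comm_of_odd (A := Lm p) (Λ := Lm p) (fun a ha => ?_) ho (hp g hg) (fun z hz => ?_) le_rfl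
    · obtain ⟨n, rfl⟩ := mem_zpowers_iff.1 ha
      rw [← (Commute.refl (nn p)).mul_zpow, t.five.std.nsq, one_zpow]
    · exact (mem_centralizer_iff.1 (Y_Lm t hg) z hz).symm
  exact fun k hk => mem_centralizer_singleton_iff.1 (h1 hk)

theorem K1_of (t : TorS S P p Y) (K0 : ∀ k ∈ oddGen Y, k * p 0 = p 0 * k) : ∀ k ∈ oddGen Y, k * p 1 = p 1 * k := by
  intro k hk
  have e1 : p 1 = p 0 * nn p := by rw [nn, ← mul_assoc, t.five.std.sq, one_mul]
  rw [e1]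
  exact ((show Commute k (p 0) from K0 k hk).mul_right (show Commute k (nn p) from Y_nn' t (oddGen_le Y hk))).eq

section main

variable {F : Type} [Field F] [Finite F] [CharP F 2] (t : TorS S P p Y)
  (N : NatKM F (Std.T (S : Subgroup G) p) Y (zl (Std.T (S : Subgroup G) p) Y) (cv (Std.T (S : Subgroup G) p) Y) 1)
  (f4 : Nat.card F = 4)
  (hl : ∀ v ∈ zl (Std.T (S : Subgroup G) p) Y, N.e v 0 1 = 0 ↔ v ∈ Vt p ⊔ cv (Std.T (S : Subgroup G) p) Y)
  (hu : ∀ x ∈ o2 P, ∃ b : F,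
    ActsSL N.e (zl (Std.T (S : Subgroup G) p) Y) (cv (Std.T (S : Subgroup G) p) Y) x fun _ => up b)
include t N f4 hl hu

theorem Vt_W : Vt p ≤ cl (zpowers (aa p)) Y := by
  rw [closure_le]
  rintro a (rfl | ha)
  · exact le_cl _ Y (mem_zpowers _)
  · rw [Set.mem_singleton_iff] at ha
    rw [ha]
    exact mem24 t N f4 hl hu

theorem WL_of {w : G} (hw : w ∈ cl (zpowers (aa p)) Y ⊓ zl (S : Subgroup G) P) :
    ∃ f ∈ cl (zpowers (aa p)) Y ⊓ centralizer (oddGen Y : Set G),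
      w = f ∨ w = p 2 * p 3 * f ∨ w = p 2 * p 4 * f ∨ w = p 3 * p 4 * f := by
  have H := hyp t N f4 hl hu
  have hV := W_V0 t hw.1
  have h0 := (H.mem_L hV).1 hw.2
  have hLc : ∀ v ∈ Vt p, ∀ w ∈ cv (Std.T (S : Subgroup G) p) Y, v * w = w * v := fun v hv w hw =>
    t.five.toFive.V_comm (Vt_L t hv) (cv_L t N hu hw)
  obtain ⟨v, hv, d, hd, rfl⟩ := mem_sup_comm hLc ((hl _ hV).1 h0)
  have hdW : d ∈ cl (zpowers (aa p)) Y := by
    have := mul_mem (inv_mem (Vt_W t N f4 hl hu hv)) hw.1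
    rwa [inv_mul_cancel_left] at this
  refine ⟨d, ⟨hdW, hd.2⟩, ?_⟩
  rcases vt_four t hv with rfl | rfl | rfl | rfl
  · left; rw [one_mul]
  · right; left; rfl
  · right; right; left; rfl
  · right; right; right; rfl

theorem Fq_of {f : G} (hf : f ∈ cl (zpowers (aa p)) Y ⊓ centralizer (oddGen Y : Set G)) : f = 1 ∨ f = p 0 * p 1 :=
  cv_eq t N f4 hl hu ⟨W_V0 t hf.1, hf.2⟩

/-- **`TorS` gives `Y5`.** -/
theorem y5_of (K0 : ∀ k ∈ oddGen Y, k * p 0 = p 0 * k)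
    (KE : oddGen Y ≤ normalizer ((o2 P ⊓ centralizer (cl (zpowers (p 2 * p 3)) Y : Set G) : Subgroup G) : Set G))
    (syl : Syl (o2 P) (oddGen Y ⊔ o2 P)) :
    ∃ (K W F R : Subgroup G) (g h : G), K ≤ Y ∧ Y5 (o2 P) (zl (S : Subgroup G) P) K W F R g h p ∧
      ∀ A ≤ o2 P, ¬ A ≤ o2 Y → ¬ A ≤ centralizer (W : Set G) := by
  have H := hyp t N f4 hl hu
  obtain ⟨R, g, h, o⟩ := H.out
  exact ⟨oddGen Y, cl (zpowers (aa p)) Y, _, R, g, h, oddGen_le Y,
    { QW := o.QW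
      idx := o.idx
      cW := o.cW
      ix := o.ix
      KW := o.KW
      KE := KE
      syl := syl
      FW := o.FW
      KF := o.KF
      Fe := o.Fe
      iF := o.iF
      RK := o.RK
      nR := o.nR
      ER := o.ER
      RW := o.RW
      gK := o.gK
      gn := o.gn
      hK := o.hK
      hQ := o.hQ
      hv := o.hv
      WK := o.WK
      WC := o.WC
      K0 := K0
      K1 := K1_of t K0
      Fq := fun f hf => Fq_of t N f4 hl hu hf
      V3 := le_cl _ Y (mem_zpowers _)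
      V4 := mem24 t N f4 hl hu
      WL := fun w hw => WL_of t N f4 hl hu hw }, fun A hA hAY => t.mvW hA hAY⟩

end main

end Cfsg.Agent.Omega.NO3S.WY.Tor.SFiveI
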