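import Cfsg.Agent.Omega.NO3S.WY.Tor.Co
import Cfsg.Agent.Omega.NO3S.WY.Tor.Base

/-!
# THEOREM TOR: `TY` from coordinates (`Co.lean`)

* `Co.VW` : `V j ≤ W = ⟨z_j^Y⟩`; `Co.line'` : `{w ∈ W | e w 1 = 0} = V j F`, `F = W ∩ C_U(O²(Y))`;
* `Co.cent_V` : `C_B(V j) ≤ Q O₂(Y)`; `Co.F_le` : `F ≤ Λ_j`;
* `Co.cWQ`, `Co.quad`, `Co.free`.
-/

set_option autoImplicit false
set_option linter.unusedSectionVars false
set_option linter.dupNamespace false

namespace Cfsg.Agent.Omega.NO3S.WY.Tor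

open Subgroup Cfsg Cfsg.Agent.ZN Cfsg.Agent.ZN.ChoiceBase
open Cfsg.Agent.ZN.ChoiceSit (Syl exists_syl syl_conj syl_not_dvd)
open Cfsg.Agent.MinSimple.MinParabolic (IsMinPar)
open Cfsg.Agent.MinSimple.VModule (oddGen oddGen_le mem_oddGen)
open Cfsg.Agent.Omega.FFThm (OffM ElemM NatK NatKM ActsSL)
open Cfsg.Agent.Omega.FrameFF (cv)
open Cfsg.Agent.Omega.NO3b.EZero (cl cj_le_cl le_cl cl_le le_normalizer_cl cent_symm cj_cent)
open Cfsg.Agent.Omega.NO3b.K0 (conj_mem' cj_of_le cj_self min_or)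
open Cfsg.Agent.Omega.SQ1.Bau (mem_sup_comm card_sup_comm mem_sup_norm)
open Cfsg.Agent.Omega.NatPair (ap ap_zero' ap_one' ap_one ap_mul ap_add ext2 ap_inv_ap ap_inj)
open Cfsg.Agent.Lib.SL2Mat

universe u

variable {G : Type u} [Group G] {ι : Type}

namespace Co

variable [Finite G] {F : Type} [Field F] {S B Q M X L : Subgroup G} {V : ι → Subgroup G} {z : ι → G}
  {𝓦 : Set (Subgroup G)} {j : ι} {Y : Subgroup G} (o : Co F S B Q M X L V z 𝓦 j Y)

/-- `F = C_W(O²(Y))` -/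
def F0 (o : Co F S B Q M X L V z 𝓦 j Y) : Subgroup G := o.Wj ⊓ cv B Y

/-- an element of `N(Q)` which fixes `z i` normalises `V i` -/
theorem fix_V (o : Co F S B Q M X L V z 𝓦 j Y) {g : G} (hg : g ∈ normalizer (Q : Set G)) {i : ι}
    (h : g * z i * g⁻¹ = z i) : cj g (V i) = V i := by
  obtain ⟨m, hm⟩ := o.cx.perm g hg i
  have h1 : z i ∈ V m := by
    rw [← hm, ← h]
    exact ⟨z i, o.cx.zV i, rfl⟩
  by_cases hmi : m = i
  · rw [hm, hmi]
  · exfalso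
    have h2 : z i ∈ V i ⊓ VV V i := ⟨o.cx.zV i, le_trans (le_iSup (fun _ : m ≠ i => V m) hmi)
      (le_iSup (fun m => ⨆ (_ : m ≠ i), V m) m) h1⟩
    rw [o.cx.ind i, mem_bot] at h2
    exact o.cx.z1 i h2

/-- an element of `Y ∩ N(Q)` normalises every `V i` -/
theorem norm_V (o : Co F S B Q M X L V z 𝓦 j Y) {g : G} (hY : g ∈ Y) (hg : g ∈ normalizer (Q : Set G)) (i : ι) :
    cj g (V i) = V i := by
  by_cases hi : i = j
  · subst hi
    obtain ⟨m, hm⟩ := o.cx.perm g hg i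
    by_cases hmi : m = i
    · rw [hm, hmi]
    · exfalso
      have h1 : cj g (V m) = V m := o.fix_V hg (by rw [o.cen g hY m hmi]; group)
      have h2 : V i = V m := by
        have h3 := congrArg (cj g⁻¹) (hm.trans h1.symm)
        rwa [cj_inv_cj, cj_inv_cj] at h3
      have h4 : z i ∈ V i ⊓ VV V i := ⟨o.cx.zV i, le_trans (le_iSup (fun _ : m ≠ i => V m) hmi)
        (le_iSup (fun m => ⨆ (_ : m ≠ i), V m) m) (h2 ▸ o.cx.zV i)⟩
      rw [o.cx.ind i, mem_bot] at h4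
      exact o.cx.z1 i h4
  · exact o.fix_V hg (by rw [o.cen g hY i hi]; group)

theorem VjU (o : Co F S B Q M X L V z 𝓦 j Y) {v : G} (hv : v ∈ V j) (hU : v ∈ zl B Y) : o.e v 1 = 0 :=
  (o.line v hU).2 (mem_sup_left hv)

/-- **`V j ≤ W`** -/
theorem VW [Finite F] [CharP F 2] (o : Co F S B Q M X L V z 𝓦 j Y) : V j ≤ o.Wj := by
  obtain ⟨d, hdY, hdQ, -, a, ha0, ha1, hd⟩ := o.exists_d
  have hdV : cj d (V j) = V j := o.norm_V hdY hdQ j
  have hz' : d * z j * d⁻¹ ∈ V j := by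
    rw [← hdV]
    exact ⟨z j, o.cx.zV j, rfl⟩
  have hzW := o.z_W
  have hz'W : d * z j * d⁻¹ ∈ o.Wj := conj_mem' o.YW hdY hzW
  have he1 : o.e (z j) 1 = 0 := o.VjU (o.cx.zV j) (o.z_U j)
  have he0 : o.e (z j) 0 ≠ 0 := fun h => o.z_cv ((o.e_ker (o.z_U j)).1 (ext2 h he1))
  have hne : d * z j * d⁻¹ ≠ z j := by
    intro h
    have h1 := congrFun (hd (z j) (o.z_U j)) 0
    rw [h] at h1
    have h2 : (a - 1) * o.e (z j) 0 = 0 := by
      rw [sub_mul, one_mul, sub_eq_zero]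
      exact h1.symm
    rcases mul_eq_zero.1 h2 with h3 | h3
    · exact ha1 (sub_eq_zero.1 h3)
    · exact he0 h3
  have hne1 : d * z j * d⁻¹ ≠ 1 := fun h => o.cx.z1 j (conj_eq_one_iff.1 h)
  -- the order of `V j ∩ W`
  set K : Subgroup G := V j ⊓ o.Wj with hK
  have h3 : 3 ≤ Nat.card K := by
    classical
    let f : Fin 3 → K := ![1, ⟨z j, o.cx.zV j, hzW⟩, ⟨d * z j * d⁻¹, hz', hz'W⟩]
    have hf : Function.Injective f := by
      intro x y hxy
      have hz1 := o.cx.z1 j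
      fin_cases x <;> fin_cases y <;> simp [f, Subtype.ext_iff] at hxy ⊢
      · exact absurd hxy.symm hz1
      · exact absurd hxy.symm hne1
      · exact absurd hxy hz1
      · exact absurd hxy.symm hne
      · exact absurd hxy hz1
      · exact absurd hxy hne
    have := Nat.card_le_card_of_injective f hf
    simpa using this
  have h4 : Nat.card K ∣ 4 := by
    rw [← o.cx.cV j]
    exact Subgroup.card_dvd_of_le inf_le_left
  have h5 : Nat.card K = 4 := by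
    have h6 : Nat.card K ≤ 4 := Nat.le_of_dvd (by norm_num) h4
    interval_cases h : Nat.card K
    · omega
    · rfl
  have h6 : K = V j := Subgroup.eq_of_le_of_card_ge inf_le_left (by rw [h5, o.cx.cV])
  rw [← h6]
  exact inf_le_right

/-- `{w ∈ W | e w 1 = 0} = V j F` -/
theorem line' [Finite F] [CharP F 2] (o : Co F S B Q M X L V z 𝓦 j Y) {w : G} (hw : w ∈ o.Wj) :
    o.e w 1 = 0 ↔ w ∈ V j ⊔ o.F0 := by
  have hVW := o.VW
  constructor
  · intro h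
    have h1 : w ∈ V j ⊔ cv B Y := (o.line w (o.W_le hw)).1 h
    obtain ⟨v, hv, d, hd, rfl⟩ := mem_sup_comm
      (fun v hv d hd => o.U_comm v (o.W_le (hVW hv)) d (o.cv_le hd)) h1
    refine mul_mem (mem_sup_left hv) (mem_sup_right ⟨?_, hd⟩)
    have h2 := mul_mem (inv_mem (hVW hv)) hw
    rwa [inv_mul_cancel_left] at h2
  · intro h
    exact (o.line w (o.W_le hw)).2 ((sup_le_sup_left inf_le_right (V j) : V j ⊔ o.F0 ≤ _) h)

theorem exists_q [Finite F] (o : Co F S B Q M X L V z 𝓦 j Y) : ∃ q ∈ Q, o.bb q = 1 := o.full 1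

theorem cWQ [Finite F] [CharP F 2] (o : Co F S B Q M X L V z 𝓦 j Y) {w : G} (hw : w ∈ o.Wj)
    (h : ∀ q ∈ Q, q * w = w * q) : w ∈ V j ⊔ o.F0 := by
  rw [← o.line' hw]
  obtain ⟨q, hq, hb⟩ := o.exists_q
  have h1 := o.e_comm (o.QY hq) (o.bb_spec hq) (o.W_le hw)
  have h2 : q * w * q⁻¹ * w⁻¹ = 1 := by rw [h q hq]; group
  rw [h2, o.e_one, hb] at h1
  have h3 := congrFun h1 0
  simpa using h3.symm

theorem quad [Finite F] [CharP F 2] (o : Co F S B Q M X L V z 𝓦 j Y) {q w : G} (hq : q ∈ Q) (hw : w ∈ o.Wj) :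
    q * w * q⁻¹ * w⁻¹ ∈ V j ⊔ o.F0 := by
  rw [← o.line' (mul_mem (conj_mem' o.YW (o.QY hq) hw) (inv_mem hw)),
    o.e_comm (o.QY hq) (o.bb_spec hq) (o.W_le hw)]
  simp

theorem free [Finite F] [CharP F 2] (o : Co F S B Q M X L V z 𝓦 j Y) {q w : G} (hq : q ∈ Q) (hw : w ∈ o.Wj)
    (hn : w ∉ V j ⊔ o.F0) (h : q * w * q⁻¹ * w⁻¹ ∈ o.F0) {u : G} (hu : u ∈ o.Wj) : q * u = u * q := by
  have h1 := o.e_comm (o.QY hq) (o.bb_spec hq) (o.W_le hw)
  have h2 : o.e (q * w * q⁻¹ * w⁻¹) = 0 := (o.e_ker (mul_mem (o.Un (o.QY hq) (o.W_le hw)) (inv_mem (o.W_le hw)))).2 h.2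
  rw [h2] at h1
  have h3 := congrFun h1 0
  have h4 : o.bb q * o.e w 1 = 0 := by simpa using h3.symm
  rcases mul_eq_zero.1 h4 with h5 | h5
  · exact o.o2_cent ((o.bb_ker hq).1 h5) (o.W_le hu)
  · exact absurd ((o.line' hw).1 h5) hn

/-! ### `C_B(V j) ≤ Q O₂(Y)` -/

/-- **`C_B(V j) ≤ Q O₂(Y)`** -/
theorem cent_V [Finite F] [CharP F 2] (o : Co F S B Q M X L V z 𝓦 j Y) {b : G} (hb : b ∈ B)
    (h : ∀ v ∈ V j, b * v = v * b) : b ∈ Q ⊔ o2 Y := by
  classical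
  have hbY := o.BY hb
  choose s hs hse using o.e_surj
  let φ : (Fin 2 → F) → Fin 2 → F := fun x => o.e (b * s x * b⁻¹)
  have key : ∀ v ∈ zl B Y, φ (o.e v) = o.e (b * v * b⁻¹) := by
    intro v hv
    have h1 : s (o.e v) * v⁻¹ ∈ cv B Y := by
      rw [← o.e_ker (mul_mem (hs _) (inv_mem hv)), o.e_div (hs _) hv, hse, sub_self]
    have h2 : b * (s (o.e v) * v⁻¹) * b⁻¹ ∈ cv B Y := conj_mem' o.Dn hbY h1
    have e1 : b * (s (o.e v) * v⁻¹) * b⁻¹ = (b * s (o.e v) * b⁻¹) * (b * v * b⁻¹)⁻¹ := by group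
    rw [e1, ← o.e_ker (mul_mem (o.Un hbY (hs _)) (inv_mem (o.Un hbY hv))), o.e_div (o.Un hbY (hs _)) (o.Un hbY hv),
      sub_eq_zero] at h2
    exact h2
  obtain ⟨β, hβ⟩ := CaseLQ.exists_up_of_fix φ (fun x y => by
      obtain ⟨v, hv, rfl⟩ := o.e_surj x
      obtain ⟨w, hw, rfl⟩ := o.e_surj y
      rw [← o.e_mul hv hw, key _ (mul_mem hv hw), key v hv, key w hw, ← o.e_mul (o.Un hbY hv) (o.Un hbY hw)]
      congr 1
      group)
    (fun x => by
      obtain ⟨v, hv, he⟩ := o.e_surj ![x, 0]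
      rw [← he, key v hv]
      have h1 : v ∈ V j ⊔ cv B Y := (o.line v hv).1 (by
        change o.e v 1 = 0
        rw [he]; simp)
      obtain ⟨v', hv', d, hd, rfl⟩ := mem_sup_comm
        (fun v hv d hd => o.U_comm v (o.W_le (o.VW hv)) d (o.cv_le hd)) h1
      have hv'U := o.W_le (o.VW hv')
      have e1 : b * (v' * d) * b⁻¹ = v' * (b * d * b⁻¹) := by
        calc b * (v' * d) * b⁻¹ = (b * v') * d * b⁻¹ := by group
          _ = v' * b * d * b⁻¹ := by rw [h v' hv']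
          _ = _ := by group
      rw [e1, o.e_mul hv'U (o.Un hbY (o.cv_le hd)), o.e_mul hv'U (o.cv_le hd),
        (o.e_ker (o.Un hbY (o.cv_le hd))).2 (conj_mem' o.Dn hbY hd), (o.e_ker (o.cv_le hd)).2 hd])
    (fun A => by
      obtain ⟨g, hg, hgA⟩ := o.e_lift A
      obtain ⟨A', hA'⟩ := o.e_norm hbY hg hgA
      refine ⟨A', fun x => ?_⟩
      obtain ⟨v, hv, rfl⟩ := o.e_surj x
      rw [← hgA v hv, key _ (o.Un hg hv), key v hv, ← hA' _ (o.Un hbY hv)]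
      congr 1
      group)
    (by
      obtain ⟨n, hn⟩ := o.B2 ⟨b, hb⟩
      have hn' : b ^ 2 ^ n = 1 := by simpa using congrArg Subtype.val hn
      refine ⟨n, fun x => ?_⟩
      have h1 : ∀ m : ℕ, ∀ v ∈ zl B Y, φ^[m] (o.e v) = o.e (b ^ m * v * (b ^ m)⁻¹) := by
        intro m
        induction m with
        | zero => intro v hv; simp
        | succ m ih =>
          intro v hv
          rw [Function.iterate_succ_apply', ih v hv, key _ (o.Un (pow_mem hbY m) hv)]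
          congr 1
          rw [pow_succ']; group
      obtain ⟨v, hv, rfl⟩ := o.e_surj x
      rw [h1 _ v hv, hn']
      congr 1
      group)
  obtain ⟨q, hq, hqb⟩ := o.full β
  have h1 : q⁻¹ * b ∈ o2 Y := by
    refine o.B_Kr ⟨B.mul_mem (B.inv_mem (o.cx.QB hq)) hb, o.mem_Kr.2 ⟨mul_mem (inv_mem (o.QY hq)) hbY, fun v hv => ?_⟩⟩
    have hqY := inv_mem (o.QY hq)
    have hw : q⁻¹ * (b * v * b⁻¹) * q ∈ zl B Y := by
      have := o.Un hqY (o.Un hbY hv)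
      rwa [inv_inv] at this
    have e1 : q⁻¹ * b * v * (q⁻¹ * b)⁻¹ = q⁻¹ * (b * v * b⁻¹) * q := by group
    have h2 := o.bb_spec hq _ hw
    have e2 : q * (q⁻¹ * (b * v * b⁻¹) * q) * q⁻¹ = b * v * b⁻¹ := by group
    rw [e2, ← key v hv, hβ, hqb] at h2
    rw [e1]
    have h3 := congrArg (ap (up β)⁻¹) h2
    rw [ap_inv_ap, ap_inv_ap] at h3
    exact h3.symm
  have h2 : b = q * (q⁻¹ * b) := by group
  rw [h2]
  exact mul_mem (mem_sup_left hq) (mem_sup_right h1)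

/-! ### `F ≤ Λ_j` -/

theorem z_sq (o : Co F S B Q M X L V z 𝓦 j Y) (i : ι) : z i * z i = 1 := o.cx.Xs _ (o.cx.zX i)

theorem mem_zp (o : Co F S B Q M X L V z 𝓦 j Y) {x : G} (h : x ∈ zpowers (z j)) : x = 1 ∨ x = z j := by
  obtain ⟨n, rfl⟩ := mem_zpowers_iff.1 h
  rcases Int.even_or_odd' n with ⟨m, rfl | rfl⟩
  · left
    rw [zpow_mul, zpow_two, o.z_sq j, one_zpow]
  · right
    rw [zpow_add, zpow_mul, zpow_two, o.z_sq j, one_zpow, one_mul, zpow_one]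

theorem card_zp (o : Co F S B Q M X L V z 𝓦 j Y) : Nat.card (zpowers (z j)) = 2 := by
  rw [Nat.card_zpowers]
  exact orderOf_eq_prime (by rw [pow_two]; exact o.z_sq j) (o.cx.z1 j)

theorem idx_zp (o : Co F S B Q M X L V z 𝓦 j Y) : ((zpowers (z j)).subgroupOf (V j)).index = 2 := by
  have h0 : zpowers (z j) ≤ V j := (zpowers_le).2 (o.cx.zV j)
  have h1 := ((zpowers (z j)).subgroupOf (V j)).index_mul_card
  rw [Nat.card_congr (Subgroup.subgroupOfEquivOfLe h0).toEquiv, o.card_zp, o.cx.cV] at h1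
  omega

/-- two elements of `V j` outside `⟨z_j⟩` differ by an element of `⟨z_j⟩` -/
theorem mul_zp (o : Co F S B Q M X L V z 𝓦 j Y) {v w : G} (hv : v ∈ V j) (hw : w ∈ V j)
    (hv' : v ∉ zpowers (z j)) (hw' : w ∉ zpowers (z j)) : v * w⁻¹ ∈ zpowers (z j) := by
  have h6 := Subgroup.mul_mem_iff_of_index_two o.idx_zp (a := ⟨v, hv⟩) (b := ⟨w⁻¹, inv_mem hw⟩)
  have h7 : (⟨v, hv⟩ * ⟨w⁻¹, inv_mem hw⟩ : V j) ∈ (zpowers (z j)).subgroupOf (V j) := by
    rw [h6, mem_subgroupOf, mem_subgroupOf]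
    exact ⟨fun h8 => absurd h8 hv', fun h8 => absurd ((inv_mem_iff).1 h8) hw'⟩
  exact mem_subgroupOf.1 h7

/-- `[B, V j] ≤ ⟨z_j⟩` -/
theorem comm_zp (o : Co F S B Q M X L V z 𝓦 j Y) {b v : G} (hb : b ∈ B) (hv : v ∈ V j) :
    b * v * b⁻¹ * v⁻¹ = 1 ∨ b * v * b⁻¹ * v⁻¹ = z j := by
  apply o.mem_zp
  have hbv : b * v * b⁻¹ ∈ V j := conj_mem' (o.cx.BV j) hb hv
  have hbz : ∀ x ∈ zpowers (z j), b * x * b⁻¹ = x := fun x hx => by
    rcases o.mem_zp hx with rfl | rfl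
    · group
    · rw [o.cx.Bz b hb j]; group
  by_cases h : v ∈ zpowers (z j)
  · rw [hbz v h, mul_inv_cancel]
    exact one_mem _
  · refine o.mul_zp hbv hv (fun h2 => h ?_) h
    have h3 : b⁻¹ ∈ B := inv_mem hb
    have h4 : b⁻¹ * (b * v * b⁻¹) * b⁻¹⁻¹ = b * v * b⁻¹ := by
      rcases o.mem_zp h2 with h5 | h5
      · rw [h5]; group
      · rw [h5, o.cx.Bz _ h3 j]; group
    have h5 : b⁻¹ * (b * v * b⁻¹) * b⁻¹⁻¹ = v := by group
    rw [← h5, h4]
    exact h2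

theorem z_comm_v (o : Co F S B Q M X L V z 𝓦 j Y) {v : G} (hv : v ∈ V j) : z j * v = v * z j :=
  o.cx.xc (o.cx.zX j) (o.cx.VX j hv)

/-- **`F ≤ Λ_j`** -/
theorem F_le [Finite F] [CharP F 2] (o : Co F S B Q M X L V z 𝓦 j Y) : o.F0 ≤ Lam z j := by
  rintro f ⟨hfW, hfc⟩
  have hQ : ∀ q ∈ Q, q * f = f * q := fun q hq => by
    obtain ⟨b, -, h⟩ := o.up_of hq
    exact h f hfc
  have hfX : f ∈ X := o.W_X hfW
  have hfL : f ∈ L := o.cx.cXQ f hfX hQ
  obtain ⟨t, htB, htC, v₀, hv₀, hne⟩ := o.cx.t j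
  have hV' : VV V j ≤ centralizer ({t} : Set G) := iSup_le fun i => iSup_le fun hi v hv => by
    rw [mem_centralizer_iff]
    rintro x rfl
    exact htC i hi v hv
  -- `t` centralises `f`
  have ht : t * f = f * t := by
    obtain ⟨v, hv, v', hv', e⟩ := o.cx.split j hfL
    have h1 : t * v' = v' * t := mem_centralizer_iff.1 (hV' hv') t rfl
    have h2 : t * f * t⁻¹ * f⁻¹ = t * v * t⁻¹ * v⁻¹ := by
      rw [e]
      calc t * (v * v') * t⁻¹ * (v * v')⁻¹ = t * v * (v' * t⁻¹) * v'⁻¹ * v⁻¹ := by group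
        _ = t * v * (t⁻¹ * v') * v'⁻¹ * v⁻¹ := by
            have h3 : v' * t⁻¹ = t⁻¹ * v' := by
              calc v' * t⁻¹ = t⁻¹ * (t * v') * t⁻¹ := by group
                _ = t⁻¹ * (v' * t) * t⁻¹ := by rw [h1]
                _ = t⁻¹ * v' := by group
            rw [h3]
        _ = _ := by group
    rcases o.comm_zp htB hv with h3 | h3
    · rw [h3] at h2
      exact comm_iff.1 h2
    · exfalso
      rw [h3] at h2
      apply o.z_cv
      rw [← h2]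
      exact (cv B Y).mul_mem (conj_mem' o.Dn (o.BY htB) hfc) ((cv B Y).inv_mem hfc)
  -- `Q O₂(Y)` centralises `f`
  have hR : Q ⊔ o2 Y ≤ centralizer ({f} : Set G) := by
    refine sup_le (fun q hq => ?_) (fun q hq => ?_)
    · rw [mem_centralizer_iff]
      rintro x rfl
      exact (hQ q hq).symm
    · rw [mem_centralizer_iff]
      rintro x rfl
      exact (o.o2_cent hq (o.W_le hfW)).symm
  have hR' : ∀ r ∈ Q ⊔ o2 Y, r * f = f * r := fun r hr => (mem_centralizer_iff.1 (hR hr) f rfl).symm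
  -- an element of `B` which fixes `v₀` centralises `V j`
  have hv₀z : v₀ ∉ zpowers (z j) := by
    intro h
    rcases o.mem_zp h with h1 | h1
    · apply hne; rw [h1]; group
    · apply hne; rw [h1, o.cx.Bz t htB j]
  have hfix : ∀ b ∈ B, b * v₀ = v₀ * b → ∀ v ∈ V j, b * v = v * b := by
    intro b hb h v hv
    have hz := o.cx.Bz b hb j
    have hzp : ∀ x ∈ zpowers (z j), b * x = x * b := fun x hx => by
      rcases o.mem_zp hx with rfl | rfl
      · group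
      · exact hz
    by_cases h1 : v ∈ zpowers (z j)
    · exact hzp v h1
    · have h2 := hzp _ (o.mul_zp hv hv₀ h1 hv₀z)
      have e : v = v * v₀⁻¹ * v₀ := by group
      rw [e, ← mul_assoc, h2, mul_assoc, h]
      group
  -- `B` centralises `f`
  have hBf : ∀ b ∈ B, b * f = f * b := by
    intro b hb
    rcases o.comm_zp hb hv₀ with h1 | h1
    · exact hR' b (o.cent_V hb (hfix b hb (comm_iff.1 h1)))
    · rcases o.comm_zp htB hv₀ with h2 | h2
      · exact absurd (comm_iff.1 h2) hne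
      · have htb : t⁻¹ * b ∈ B := B.mul_mem (B.inv_mem htB) hb
        have e1 : b * v₀ * b⁻¹ = z j * v₀ := by rw [← h1]; group
        have e2 : t * v₀ * t⁻¹ = z j * v₀ := by rw [← h2]; group
        have e3 : t⁻¹ * b * v₀ * (t⁻¹ * b)⁻¹ * v₀⁻¹ = 1 := by
          have e4 : t⁻¹ * b * v₀ * (t⁻¹ * b)⁻¹ = t⁻¹ * (b * v₀ * b⁻¹) * t := by group
          have e5 : t⁻¹ * (t * v₀ * t⁻¹) * t = v₀ := by group
          rw [e4, e1, ← e2, e5, mul_inv_cancel]
        have h3 := hR' _ (o.cent_V htb (hfix _ htb (comm_iff.1 e3)))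
        have e6 : b = t * (t⁻¹ * b) := by group
        rw [e6, mul_assoc, h3, ← mul_assoc, ht, mul_assoc]
  have hfB : f ∈ B := o.o2_B (o.nc.VQ (o.W_le hfW))
  have hfz : f ∈ zc B := ChoiceBase.mem_zc.2 ⟨hfB, o.U_sq f (o.W_le hfW), hBf⟩
  have hsup : zc B ≤ zpowers (z j) ⊔ Lam z j := o.zc_le_sup (mem_sup_left (mem_zpowers _)) le_sup_right
  obtain ⟨a, ha, l, hl, rfl⟩ := mem_sup_comm (fun a ha l hl => o.U_comm a
    ((zpowers_le.2 (o.z_U j)) ha) l (o.cv_le (o.Lam_cv hl))) (hsup hfz)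
  rcases o.mem_zp ha with rfl | rfl
  · rw [one_mul]; exact hl
  · exfalso
    apply o.z_cv
    have h1 := (cv B Y).mul_mem hfc ((cv B Y).inv_mem (o.Lam_cv hl))
    rwa [mul_inv_cancel_right] at h1

/-- **`TY` from coordinates**, without `act` -/
theorem ty [Finite F] [CharP F 2] (o : Co F S B Q M X L V z 𝓦 j Y)
    (hact : ∃ (ℓ : Fin 5 → Subgroup G) (π : ↥Y →* Equiv.Perm (Fin 5)), ℓ 0 = V j ⊔ o.F0 ∧ (∀ a, ℓ a ≤ o.Wj) ∧
      (∀ a b, a ≠ b → ℓ a ⊓ ℓ b = o.F0) ∧ (∀ (y : Y) a, cj (y : G) (ℓ a) = ℓ (π y a)) ∧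
      alternatingGroup (Fin 5) ≤ π.range ∧ ∀ y : Y, π y = 1 → ∀ w ∈ o.Wj, (y : G) * w * (y : G)⁻¹ * w⁻¹ ∈ o.F0) :
    TY S B Q M X V z 𝓦 j Y o.Wj o.F0 where
  min := o.min
  YM := o.YM
  Yz := o.cen
  WX := o.W_X
  YW := o.YW
  gen := fun _ h1 h2 => o.gen h1 h2
  VW := o.VW
  FW := inf_le_left
  FL := o.F_le
  cW := o.cardW
  cWQ := fun _ hw h => o.cWQ hw h
  quad := fun _ hq _ hw => o.quad hq hw
  free := fun _ hq _ hw hn h _ hu => o.free hq hw hn h hu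
  cardQ := o.cardQ
  act := hact
  mv := by
    obtain ⟨A, hA, hAS, hAQ, hAY⟩ := o.act
    refine ⟨A, hA, hAS, fun h => hAY fun a ha => ?_⟩
    exact (o.o2W (o.cx.QB (hAQ ha))).2 fun w hw => (mem_centralizer_iff.1 (h ha) w hw).symm

end Co

end Cfsg.Agent.Omega.NO3S.WY.Tor
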