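import Cfsg.Agent.Omega.NO3S.WY.Tor.EndTY
import Cfsg.Agent.Omega.NO3S.WY.Tor.UniEq

/-!
# THEOREM TOR: (2+) over the frame `Cx`, `TY` (helper491 #25169, helper613's `UniEq.eq_of_le`)

* `Cx.syl_VV` : `C_B(V_(j))` is a Sylow 2-subgroup of every `N*`, `C_B(V_(j)) ≤ N* ≤ C_G(V_(j))`;
* `TY.irr` : `W` is an irreducible `Y`-module (`F = 1`);
* `TY.WS_eq` : `W^g = W` for `g ∈ M ∩ N(Q) ∩ N(V_j)`, if `W^g ≤ W L` and `O²(Y)` centralises `V_(j)`.
-/

set_option autoImplicit false
set_option linter.unusedSectionVars false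

namespace Cfsg.Agent.Omega.NO3S.WY.Tor

open Subgroup Cfsg Cfsg.Agent.ZN Cfsg.Agent.ZN.ChoiceBase
open Cfsg.Agent.ZN.ChoiceSit (Syl syl_not_dvd syl_conj)
open Cfsg.Agent.MinSimple.MinParabolic (IsMinPar)
open Cfsg.Agent.MinSimple.VModule (oddGen mem_oddGen)

open scoped commutatorElement

universe u

variable {G : Type u} [Group G] {ι : Type}

namespace Cx

variable {S B Q M X L : Subgroup G} {V : ι → Subgroup G} {z : ι → G} (c : Cx S B Q M X L V z)
include c

theorem Q_V {q v : G} {i : ι} (hq : q ∈ Q) (hv : v ∈ V i) : q * v = v * q := c.cQL q hq v (c.VLe i hv)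

theorem wB2 : IsPGroup 2 B := c.S2.to_le c.BS

theorem wBV (i : ι) : B ≤ normalizer (V i : Set G) := by
  intro b hb
  rw [mem_normalizer_iff_cj]
  obtain ⟨m, hm⟩ := c.perm b (c.SnQ (c.BS hb)) i
  have h1 : z i ∈ V m := by
    rw [← hm]
    refine ⟨z i, c.zV i, ?_⟩
    show b * z i * b⁻¹ = z i
    rw [c.Bz b hb i]; group
  rw [hm, c.V_inj' (c.zV i) h1 (c.z1 i)]

theorem wcj_VV {g : G} (hg : g ∈ normalizer (Q : Set G)) {i j : ι} (e : cj g (V i) = V j) :
    cj g (VV V i) = VV V j := by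
  have key : ∀ {g : G} (_ : g ∈ normalizer (Q : Set G)) {i j : ι} (_ : cj g (V i) = V j),
      cj g (VV V i) ≤ VV V j := by
    intro g hg i j e
    rw [cj_le_iff]
    refine iSup₂_le fun l hl => ?_
    rw [← cj_le_iff]
    obtain ⟨m, hm⟩ := c.perm g hg l
    rw [hm]
    refine le_iSup₂_of_le (f := fun l (_ : l ≠ j) => V l) m ?_ le_rfl
    rintro rfl
    have h1 : V l = V i := by rw [← cj_inv_cj g (V l), hm, ← e, cj_inv_cj]
    exact hl (c.V_inj' (c.zV i) (by rw [h1]; exact c.zV i) (c.z1 i))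
  refine le_antisymm (key hg e) ?_
  have h1 : cj g⁻¹ (V j) = V i := by rw [← e, cj_inv_cj]
  have h2 := key (inv_mem hg) h1
  rwa [cj_le_iff, inv_inv] at h2

theorem wVV_L (j : ι) : VV V j ≤ L := iSup₂_le fun i _ => c.VLe i

theorem wL_eq (j : ι) : L = V j ⊔ VV V j := by
  refine le_antisymm ?_ (sup_le (c.VLe j) (c.wVV_L j))
  rw [c.eL]
  refine iSup_le fun i => ?_
  by_cases e : i = j
  · rw [e]; exact le_sup_left
  · exact (le_iSup₂_of_le (f := fun l (_ : l ≠ j) => V l) i e le_rfl : V i ≤ VV V j).trans le_sup_right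

/-- `C_B(V_(j))` is a Sylow 2-subgroup of `C_G(V_(j))` and of everything between. -/
theorem syl_VV [Finite G] (j : ι) {N : Subgroup G} (h1 : B ⊓ centralizer (VV V j : Set G) ≤ N)
    (h2 : N ≤ centralizer (VV V j : Set G)) : Syl (B ⊓ centralizer (VV V j : Set G)) N := by
  refine ⟨h1, c.wB2.to_le inf_le_left, fun T hTN hT hBT => ?_⟩
  -- `H = C B`
  have hBC : B ≤ normalizer ((centralizer (VV V j : Set G) : Subgroup G) : Set G) := by
    intro b hb
    rw [mem_normalizer_iff_cj, cj_centralizer, c.wcj_VV (c.SnQ (c.BS hb)) (cj_eq_of_mem_normalizer (c.wBV j hb))]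
  set H : Subgroup G := centralizer (VV V j : Set G) ⊔ B with hH
  have hHC : H ≤ normalizer ((centralizer (VV V j : Set G) : Subgroup G) : Set G) := sup_le le_normalizer hBC
  have hBH : Syl B H := by
    refine ⟨le_sup_right, c.wB2, fun R hRH hR hBR => ?_⟩
    refine le_antisymm (c.sylB j R hR hBR fun i hi x hx => ?_) hBR
    have h3 : H ≤ centralizer ({z i} : Set G) := by
      refine sup_le (centralizer_le ?_) fun b hb => mem_centralizer_singleton_iff.2 (c.Bz b hb i)
      intro y hy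
      rw [Set.mem_singleton_iff.1 hy]
      exact (le_iSup₂_of_le (f := fun l (_ : l ≠ j) => V l) i hi le_rfl : V i ≤ VV V j) (c.zV i)
    exact mem_centralizer_singleton_iff.1 (h3 (hRH hx))
  obtain ⟨T', hT', hTT'⟩ := ChoiceSit.exists_syl hT ((hTN.trans h2).trans (le_sup_left : _ ≤ H))
  obtain ⟨x, hx, hx'⟩ := syl_conj hT' hBH
  have h3 : cj x T ≤ B ⊓ centralizer (VV V j : Set G) := by
    refine le_inf ((cj_mono x hTT').trans hx'.le) ?_
    have h4 := cj_mono x (hTN.trans h2)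
    rwa [cj_eq_of_mem_normalizer (hHC hx)] at h4
  refine (Subgroup.eq_of_le_of_card_ge hBT ?_).symm
  rw [← card_cj x T]
  exact Subgroup.card_le_of_le h3

end Cx

namespace TY

variable {S B Q M X L : Subgroup G} {V : ι → Subgroup G} {z : ι → G} {𝓦 : Set (Subgroup G)} {j : ι}
  {Y W F : Subgroup G}

/-- `W` is irreducible. -/
theorem irr [Finite G] (h : TY S B Q M X V z 𝓦 j Y W F) (c : Cx S B Q M X L V z) (hF : F = ⊥) {U : Subgroup G}
    (hU : U ≤ W) (hYU : Y ≤ normalizer (U : Set G)) (h1 : U ≠ ⊥) : W ≤ U := by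
  subst hF
  have hBY : B ≤ Y := h.min.le
  obtain ⟨u, hu, hu1, huf⟩ := End.exists_fix (c.wB2) (c.S2.to_le (hU.trans (h.WX.trans c.XS))) h1
    fun x hx v hv => (mem_normalizer_iff.1 (hYU (hBY hx)) v).1 hv
  have hc : ∀ b ∈ B, b * u = u * b := fun b hb => by
    calc b * u = b * u * b⁻¹ * b := by group
      _ = u * b := by rw [huf b hb]
  have huV : u ∈ V j := by
    have := h.cWQ u (hU hu) fun q hq => hc q (c.QB hq)
    rwa [sup_bot_eq] at this
  obtain ⟨t, ht, -, v, hv, hne⟩ := c.t j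
  -- `u = z j`
  have huz : u = z j := by
    by_contra hne'
    apply hne
    have h4 := c.cV j
    have hfin : Finite (V j) := Nat.finite_of_card_ne_zero (by rw [h4]; norm_num)
    -- the centraliser of `t` in `V j` contains `1, u, z j`
    have h5 : V j ≤ centralizer ({t} : Set G) := by
      have h6 : 2 < Nat.card ↥(V j ⊓ centralizer ({t} : Set G)) := by
        have hm1 : (1 : G) ∈ V j ⊓ centralizer ({t} : Set G) := one_mem _
        have hmu : u ∈ V j ⊓ centralizer ({t} : Set G) :=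
          ⟨huV, mem_centralizer_singleton_iff.2 (hc t ht).symm⟩
        have hmz : z j ∈ V j ⊓ centralizer ({t} : Set G) :=
          ⟨c.zV j, mem_centralizer_singleton_iff.2 (c.Bz t ht j).symm⟩
        classical
        have : Fintype ↥(V j ⊓ centralizer ({t} : Set G)) := Fintype.ofFinite _
        have h7 : ({⟨1, hm1⟩, ⟨u, hmu⟩, ⟨z j, hmz⟩} : Finset ↥(V j ⊓ centralizer ({t} : Set G))).card = 3 := by
          rw [Finset.card_eq_three]
          exact ⟨_, _, _, fun e => hu1 (congrArg Subtype.val e).symm, fun e => c.z1 j (congrArg Subtype.val e).symm,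
            fun e => hne' (congrArg Subtype.val e), rfl⟩
        have h8 := Finset.card_le_univ ({⟨1, hm1⟩, ⟨u, hmu⟩, ⟨z j, hmz⟩} : Finset ↥(V j ⊓ centralizer ({t} : Set G)))
        rw [h7, ← Nat.card_eq_fintype_card] at h8
        omega
      have h7 : Nat.card ↥(V j ⊓ centralizer ({t} : Set G)) ∣ 4 := by
        rw [← h4]; exact Subgroup.card_dvd_of_le inf_le_left
      have h8 : Nat.card ↥(V j ⊓ centralizer ({t} : Set G)) = 4 := by
        have := Nat.le_of_dvd (by norm_num) h7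
        interval_cases hh : Nat.card ↥(V j ⊓ centralizer ({t} : Set G)) <;> omega
      exact inf_eq_left.1 (Subgroup.eq_of_le_of_card_ge inf_le_left (by rw [h4, h8]))
    exact (mem_centralizer_singleton_iff.1 (h5 hv)).symm
  exact h.gen U (by rw [← huz]; exact hu) hYU

/-- `W = [W, O²(Y)]` -/
theorem w_le_comm [Finite G] (h : TY S B Q M X V z 𝓦 j Y W F) (c : Cx S B Q M X L V z) (hF : F = ⊥) :
    W ≤ ⁅W, oddGen Y⁆ := by
  have hKY := MinSimple.VModule.oddGen_le Y
  refine h.irr c hF ?_ ?_ ?_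
  · rw [commutator_le]
    intro w hw k hk
    rw [commutatorElement_def, mul_assoc, mul_assoc]
    refine mul_mem hw ?_
    rw [← mul_assoc]
    exact (mem_normalizer_iff.1 (h.YW (hKY hk)) _).1 (inv_mem hw)
  · intro y hy
    have h1 := cj_eq_of_mem_normalizer (h.YW hy)
    have h2 := cj_eq_of_mem_normalizer (MinSimple.VModule.le_normalizer_oddGen Y hy)
    rw [mem_normalizer_iff_cj, show cj y ⁅W, oddGen Y⁆ = ⁅cj y W, cj y (oddGen Y)⁆ from map_commutator _ _ _, h1, h2]
  · intro e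
    obtain ⟨l, hl, v, hv, hlv⟩ := (h.n4 c hF).mv
    have h1 : oddGen Y ⊔ Q ≤ normalizer (V j : Set G) := by
      refine sup_le (fun k hk => ?_) (c.QB.trans (c.wBV j))
      have h2 : k ∈ centralizer (W : Set G) := by
        rw [mem_centralizer_iff]
        intro w hw
        have h3 : ⁅w, k⁆ = 1 := by
          have : ⁅w, k⁆ ∈ ⁅W, oddGen Y⁆ := commutator_mem_commutator hw hk
          rwa [e, mem_bot] at this
        exact commutatorElement_eq_one_iff_mul_comm.1 h3
      exact centralizer_le_normalizer _ (centralizer_le h.VW h2)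
    exact hlv ((mem_normalizer_iff.1 (h1 hl) v).1 hv)

theorem inf_VV (h : TY S B Q M X V z 𝓦 j Y W F) (c : Cx S B Q M X L V z) (hF : F = ⊥) : W ⊓ VV V j = ⊥ := by
  subst hF
  rw [eq_bot_iff, ← c.ind j]
  rintro x ⟨hx, hx'⟩
  refine ⟨?_, hx'⟩
  have := h.cWQ x hx fun q hq => c.cQL q hq x (c.wVV_L j hx')
  rwa [sup_bot_eq] at this

/-- **(2+)** -/
theorem WS_eq [Finite G] (h : TY S B Q M X V z 𝓦 j Y W F) (c : Cx S B Q M X L V z) (hF : F = ⊥)
    (cV : oddGen Y ≤ centralizer (VV V j : Set G)) {g : G} (hQ : g ∈ normalizer (Q : Set G))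
    (hV : cj g (V j) = V j) (uni : cj g W ≤ W ⊔ L) : cj g W = W := by
  have hVV := c.wcj_VV hQ hV
  have hBY : B ≤ Y := h.min.le
  have hWV : W ⊔ VV V j ≤ X := sup_le h.WX ((c.wVV_L j).trans c.LX)
  have cV' : cj g (oddGen Y) ≤ centralizer (VV V j : Set G) := by
    have h1 := cj_mono g cV
    rwa [cj_centralizer, hVV] at h1
  have hn : oddGen Y ≤ normalizer (W : Set G) := (MinSimple.VModule.oddGen_le Y).trans h.YW
  refine UniEq.eq_of_le (W := W) (W₂ := cj g W) (Lam := VV V j) (K := oddGen Y) (K₂ := cj g (oddGen Y))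
    (Bs := B ⊓ centralizer (VV V j : Set G)) (fun x hx y hy => c.Xc x (hWV hx) y (hWV hy))
    (fun x hx => by rw [pow_two]; exact c.Xs x (hWV hx)) (h.inf_VV c hF) ?_ (card_cj _ _) ?_ cV cV' inf_le_right hn ?_
    (inf_le_left.trans (hBY.trans h.YW)) (h.w_le_comm c hF) ?_ ?_
  · refine uni.trans (sup_le le_sup_left ?_)
    rw [c.wL_eq j]
    exact sup_le_sup h.VW le_rfl
  · have h1 : cj g (W ⊓ VV V j) = ⊥ := by rw [h.inf_VV c hF]; exact Subgroup.map_bot _
    rwa [cj_inf, hVV] at h1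
  · have h1 := cj_mono g hn
    rwa [cj_normalizer] at h1
  · have h1 := cj_mono g (h.w_le_comm c hF)
    rwa [show cj g ⁅W, oddGen Y⁆ = ⁅cj g W, cj g (oddGen Y)⁆ from map_commutator _ _ _] at h1
  · refine syl_not_dvd (c.syl_VV j le_sup_right (sup_le (sup_le cV cV') inf_le_right))

end TY

end Cfsg.Agent.Omega.NO3S.WY.Tor
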